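import Cfsg.Agent.Helper57.Frob3

/-!
# The Frobenius complement `2.S₅⁻ ≤ GL(4, 7)` of order 240: data and certificates (seat helper57)
-/

set_option autoImplicit false

namespace Cfsg.Agent.Helper57

/-- A generator of order 8 of `2.S₅⁻ ≤ GL(4, 7)`. -/
def a10A : M16 := ⟨4, 6, 6, 6, 6, 3, 6, 1, 0, 3, 4, 6, 3, 0, 6, 3⟩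

/-- A generator of order 3. -/
def a10B : M16 := ⟨0, 6, 0, 5, 1, 0, 2, 0, 3, 0, 6, 1, 0, 3, 6, 6⟩

/-- The inverse of `a10A`. -/
def a10Ai : M16 := ⟨4, 6, 0, 4, 6, 3, 4, 0, 1, 1, 4, 6, 1, 6, 6, 3⟩

/-- The inverse of `a10B`. -/
def a10Bi : M16 := ⟨6, 1, 0, 2, 6, 6, 5, 0, 4, 0, 0, 6, 0, 4, 1, 0⟩

/-- The 240 elements of `2.S₅⁻ ≤ GL(4, 7)`. -/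
def a10L : List M16 := [
  ⟨0, 0, 0, 1, 0, 0, 6, 0, 0, 1, 4, 2, 6, 0, 5, 4⟩,
  ⟨0, 0, 0, 6, 0, 0, 1, 0, 0, 6, 3, 5, 1, 0, 2, 3⟩,
  ⟨0, 0, 1, 0, 0, 0, 0, 1, 6, 0, 0, 0, 0, 6, 0, 0⟩,
  ⟨0, 0, 2, 3, 0, 0, 3, 5, 2, 3, 4, 6, 3, 5, 6, 3⟩,
  ⟨0, 0, 3, 5, 0, 0, 5, 4, 4, 2, 1, 5, 2, 3, 5, 6⟩,
  ⟨0, 0, 4, 2, 0, 0, 2, 3, 3, 5, 6, 2, 5, 4, 2, 1⟩,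
  ⟨0, 0, 5, 4, 0, 0, 4, 2, 5, 4, 3, 1, 4, 2, 1, 4⟩,
  ⟨0, 0, 6, 0, 0, 0, 0, 6, 1, 0, 0, 0, 0, 1, 0, 0⟩,
  ⟨0, 1, 0, 0, 6, 0, 0, 0, 4, 2, 0, 6, 5, 4, 1, 0⟩,
  ⟨0, 1, 0, 2, 6, 0, 5, 0, 4, 0, 1, 6, 0, 4, 1, 1⟩,
  ⟨0, 1, 1, 2, 1, 0, 2, 6, 6, 0, 0, 3, 0, 1, 3, 0⟩,
  ⟨0, 1, 3, 0, 1, 0, 0, 4, 4, 2, 1, 4, 2, 3, 4, 6⟩,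
  ⟨0, 1, 4, 0, 6, 0, 0, 4, 0, 2, 1, 6, 5, 0, 1, 1⟩,
  ⟨0, 1, 4, 2, 6, 0, 5, 4, 0, 0, 0, 6, 0, 0, 1, 0⟩,
  ⟨0, 2, 0, 2, 5, 0, 5, 0, 1, 2, 1, 5, 5, 1, 2, 1⟩,
  ⟨0, 2, 0, 5, 5, 0, 2, 0, 1, 5, 6, 5, 2, 1, 2, 6⟩,
  ⟨0, 2, 0, 6, 5, 0, 1, 0, 1, 6, 3, 0, 1, 1, 0, 3⟩,
  ⟨0, 2, 1, 2, 5, 0, 5, 1, 0, 2, 1, 5, 5, 0, 2, 1⟩,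
  ⟨0, 2, 1, 5, 5, 0, 2, 1, 0, 5, 6, 5, 2, 0, 2, 6⟩,
  ⟨0, 2, 1, 6, 5, 0, 1, 1, 0, 6, 3, 0, 1, 0, 0, 3⟩,
  ⟨0, 3, 1, 0, 3, 0, 0, 6, 6, 5, 0, 1, 5, 1, 1, 0⟩,
  ⟨0, 3, 1, 1, 3, 0, 1, 6, 6, 6, 0, 3, 6, 1, 3, 0⟩,
  ⟨0, 3, 4, 5, 3, 0, 5, 3, 3, 0, 1, 6, 0, 4, 6, 6⟩,
  ⟨0, 3, 4, 6, 3, 0, 6, 3, 3, 1, 1, 1, 1, 4, 1, 6⟩,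
  ⟨0, 3, 6, 0, 4, 0, 0, 6, 6, 0, 0, 4, 0, 6, 3, 0⟩,
  ⟨0, 3, 6, 6, 4, 0, 1, 6, 6, 6, 3, 2, 1, 6, 5, 3⟩,
  ⟨0, 4, 1, 0, 3, 0, 0, 1, 1, 0, 0, 3, 0, 1, 4, 0⟩,
  ⟨0, 4, 1, 1, 3, 0, 6, 1, 1, 1, 4, 5, 6, 1, 2, 4⟩,
  ⟨0, 4, 3, 1, 4, 0, 1, 4, 4, 6, 6, 6, 6, 3, 6, 1⟩,
  ⟨0, 4, 3, 2, 4, 0, 2, 4, 4, 0, 6, 1, 0, 3, 1, 1⟩,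
  ⟨0, 4, 6, 0, 4, 0, 0, 1, 1, 2, 0, 6, 2, 6, 6, 0⟩,
  ⟨0, 4, 6, 6, 4, 0, 6, 1, 1, 1, 0, 4, 1, 6, 4, 0⟩,
  ⟨0, 5, 0, 1, 2, 0, 6, 0, 6, 1, 4, 0, 6, 6, 0, 4⟩,
  ⟨0, 5, 0, 2, 2, 0, 5, 0, 6, 2, 1, 2, 5, 6, 5, 1⟩,
  ⟨0, 5, 0, 5, 2, 0, 2, 0, 6, 5, 6, 2, 2, 6, 5, 6⟩,
  ⟨0, 5, 6, 1, 2, 0, 6, 6, 0, 1, 4, 0, 6, 0, 0, 4⟩,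
  ⟨0, 5, 6, 2, 2, 0, 5, 6, 0, 2, 1, 2, 5, 0, 5, 1⟩,
  ⟨0, 5, 6, 5, 2, 0, 2, 6, 0, 5, 6, 2, 2, 0, 5, 6⟩,
  ⟨0, 6, 0, 0, 1, 0, 0, 0, 3, 5, 0, 1, 2, 3, 6, 0⟩,
  ⟨0, 6, 0, 5, 1, 0, 2, 0, 3, 0, 6, 1, 0, 3, 6, 6⟩,
  ⟨0, 6, 3, 0, 1, 0, 0, 3, 0, 5, 6, 1, 2, 0, 6, 6⟩,
  ⟨0, 6, 3, 5, 1, 0, 2, 3, 0, 0, 0, 1, 0, 0, 6, 0⟩,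
  ⟨0, 6, 4, 0, 6, 0, 0, 3, 3, 5, 6, 3, 5, 4, 3, 1⟩,
  ⟨0, 6, 6, 5, 6, 0, 5, 1, 1, 0, 0, 4, 0, 6, 4, 0⟩,
  ⟨1, 0, 0, 0, 0, 1, 0, 0, 0, 0, 1, 0, 0, 0, 0, 1⟩,
  ⟨1, 0, 0, 3, 0, 1, 4, 0, 0, 3, 6, 0, 4, 0, 0, 6⟩,
  ⟨1, 0, 0, 4, 0, 6, 4, 0, 0, 1, 1, 2, 1, 0, 2, 6⟩,
  ⟨1, 0, 2, 0, 0, 1, 0, 2, 2, 0, 5, 0, 0, 2, 0, 5⟩,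
  ⟨1, 0, 2, 3, 0, 1, 4, 2, 2, 3, 3, 5, 4, 2, 2, 3⟩,
  ⟨1, 0, 2, 6, 0, 6, 6, 5, 2, 3, 5, 6, 3, 5, 6, 2⟩,
  ⟨1, 1, 0, 3, 6, 1, 4, 0, 4, 5, 6, 6, 2, 4, 1, 6⟩,
  ⟨1, 1, 0, 4, 1, 6, 4, 0, 0, 3, 1, 1, 3, 0, 1, 6⟩,
  ⟨1, 1, 2, 0, 6, 1, 0, 2, 6, 2, 5, 6, 5, 6, 1, 5⟩,
  ⟨1, 1, 2, 6, 1, 6, 6, 5, 2, 5, 5, 5, 5, 5, 5, 2⟩,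
  ⟨1, 1, 4, 5, 6, 1, 2, 4, 0, 3, 6, 6, 4, 0, 1, 6⟩,
  ⟨1, 1, 4, 6, 1, 6, 6, 3, 3, 1, 0, 3, 1, 4, 3, 0⟩,
  ⟨1, 1, 6, 1, 1, 6, 1, 1, 5, 3, 4, 0, 3, 2, 0, 3⟩,
  ⟨1, 1, 6, 2, 6, 1, 5, 6, 2, 0, 5, 6, 0, 2, 1, 5⟩,
  ⟨1, 2, 0, 5, 5, 1, 2, 0, 1, 5, 0, 5, 2, 1, 2, 0⟩,
  ⟨1, 2, 0, 6, 2, 6, 6, 0, 0, 3, 1, 0, 3, 0, 0, 6⟩,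
  ⟨1, 2, 1, 5, 5, 1, 2, 1, 0, 5, 0, 5, 2, 0, 2, 0⟩,
  ⟨1, 2, 1, 6, 2, 6, 6, 6, 6, 3, 1, 4, 3, 1, 4, 6⟩,
  ⟨1, 2, 2, 1, 2, 6, 1, 5, 2, 5, 5, 4, 5, 5, 4, 2⟩,
  ⟨1, 2, 2, 2, 5, 1, 5, 2, 3, 2, 6, 5, 5, 3, 2, 6⟩,
  ⟨1, 2, 3, 1, 2, 6, 1, 4, 1, 5, 5, 1, 5, 6, 1, 2⟩,
  ⟨1, 2, 3, 2, 5, 1, 5, 3, 2, 2, 6, 5, 5, 2, 2, 6⟩,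
  ⟨1, 4, 1, 4, 4, 6, 4, 6, 6, 1, 1, 2, 1, 1, 2, 6⟩,
  ⟨1, 4, 1, 6, 4, 6, 6, 6, 3, 5, 5, 5, 5, 4, 5, 2⟩,
  ⟨1, 4, 3, 0, 4, 6, 0, 4, 1, 4, 5, 1, 4, 6, 1, 2⟩,
  ⟨1, 4, 3, 5, 4, 6, 5, 4, 4, 0, 0, 1, 0, 3, 1, 0⟩,
  ⟨1, 4, 5, 1, 4, 6, 1, 2, 6, 3, 4, 0, 3, 1, 0, 3⟩,
  ⟨1, 4, 6, 3, 4, 6, 3, 1, 1, 2, 1, 6, 2, 6, 6, 6⟩,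
  ⟨1, 5, 0, 5, 2, 1, 2, 0, 6, 5, 0, 2, 2, 6, 5, 0⟩,
  ⟨1, 5, 1, 1, 2, 1, 6, 1, 2, 1, 2, 0, 6, 2, 0, 2⟩,
  ⟨1, 5, 2, 1, 2, 1, 6, 2, 1, 1, 2, 0, 6, 1, 0, 2⟩,
  ⟨1, 5, 3, 5, 5, 6, 5, 4, 4, 2, 0, 0, 2, 3, 0, 0⟩,
  ⟨1, 5, 5, 1, 5, 6, 1, 2, 6, 5, 4, 6, 5, 1, 6, 3⟩,
  ⟨1, 5, 6, 5, 2, 1, 2, 6, 0, 5, 0, 2, 2, 0, 5, 0⟩,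
  ⟨1, 6, 0, 5, 1, 1, 2, 0, 3, 0, 0, 1, 0, 3, 6, 0⟩,
  ⟨1, 6, 1, 1, 6, 6, 1, 6, 3, 0, 5, 3, 0, 4, 3, 2⟩,
  ⟨1, 6, 2, 1, 1, 1, 6, 2, 5, 3, 2, 6, 4, 5, 1, 2⟩,
  ⟨1, 6, 3, 0, 1, 1, 0, 3, 0, 5, 0, 1, 2, 0, 6, 0⟩,
  ⟨1, 6, 4, 0, 6, 6, 0, 3, 3, 2, 0, 3, 2, 4, 3, 0⟩,
  ⟨1, 6, 5, 3, 1, 1, 4, 5, 2, 1, 2, 6, 6, 2, 1, 2⟩,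
  ⟨1, 6, 6, 3, 6, 6, 3, 1, 5, 5, 4, 2, 5, 2, 2, 3⟩,
  ⟨1, 6, 6, 5, 6, 6, 5, 1, 1, 4, 1, 4, 4, 6, 4, 6⟩,
  ⟨2, 0, 2, 0, 0, 2, 0, 2, 2, 0, 6, 0, 0, 2, 0, 6⟩,
  ⟨2, 0, 2, 6, 0, 2, 1, 2, 2, 6, 2, 5, 1, 2, 2, 2⟩,
  ⟨2, 0, 5, 0, 0, 2, 0, 5, 6, 0, 5, 0, 0, 6, 0, 5⟩,
  ⟨2, 0, 5, 6, 0, 2, 1, 5, 6, 6, 1, 5, 1, 6, 2, 1⟩,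
  ⟨2, 0, 6, 0, 0, 2, 0, 6, 5, 0, 5, 0, 0, 5, 0, 5⟩,
  ⟨2, 0, 6, 6, 0, 2, 1, 6, 5, 6, 1, 5, 1, 5, 2, 1⟩,
  ⟨2, 1, 2, 0, 6, 2, 0, 2, 6, 2, 6, 6, 5, 6, 1, 6⟩,
  ⟨2, 1, 2, 3, 1, 5, 3, 5, 2, 6, 6, 0, 6, 5, 0, 1⟩,
  ⟨2, 1, 2, 6, 6, 2, 1, 2, 6, 1, 2, 4, 6, 6, 3, 2⟩,
  ⟨2, 1, 6, 1, 6, 2, 6, 6, 2, 6, 2, 4, 1, 2, 3, 2⟩,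
  ⟨2, 1, 6, 2, 6, 2, 5, 6, 2, 0, 6, 6, 0, 2, 1, 6⟩,
  ⟨2, 1, 6, 5, 1, 5, 5, 1, 5, 4, 5, 2, 4, 2, 2, 2⟩,
  ⟨2, 2, 2, 5, 2, 5, 5, 5, 2, 6, 6, 6, 6, 5, 6, 1⟩,
  ⟨2, 2, 3, 5, 2, 5, 5, 4, 1, 6, 6, 3, 6, 6, 3, 1⟩,
  ⟨2, 2, 6, 5, 5, 2, 2, 6, 6, 5, 4, 5, 2, 6, 2, 4⟩,
  ⟨2, 3, 0, 0, 3, 5, 0, 0, 4, 6, 5, 4, 6, 3, 4, 2⟩,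
  ⟨2, 3, 2, 5, 3, 5, 5, 5, 2, 1, 6, 5, 1, 5, 5, 1⟩,
  ⟨2, 3, 3, 5, 4, 2, 2, 3, 6, 0, 5, 4, 0, 6, 3, 5⟩,
  ⟨2, 3, 4, 6, 3, 5, 6, 3, 0, 0, 5, 4, 0, 0, 4, 2⟩,
  ⟨2, 3, 5, 6, 3, 5, 6, 2, 6, 0, 5, 1, 0, 1, 1, 2⟩,
  ⟨2, 3, 6, 0, 4, 2, 0, 6, 3, 5, 5, 4, 2, 3, 3, 5⟩,
  ⟨2, 4, 1, 6, 3, 2, 1, 1, 5, 1, 2, 1, 6, 5, 6, 2⟩,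
  ⟨2, 4, 3, 0, 4, 5, 0, 4, 1, 1, 6, 1, 1, 6, 1, 1⟩,
  ⟨2, 4, 5, 1, 3, 2, 6, 5, 1, 6, 2, 1, 1, 1, 6, 2⟩,
  ⟨2, 5, 5, 1, 2, 2, 6, 5, 5, 1, 2, 0, 6, 5, 0, 2⟩,
  ⟨2, 5, 5, 4, 5, 5, 4, 2, 6, 5, 5, 6, 5, 1, 6, 2⟩,
  ⟨2, 5, 5, 5, 5, 5, 5, 2, 6, 6, 5, 1, 6, 1, 1, 2⟩,
  ⟨2, 6, 1, 4, 6, 5, 4, 6, 3, 0, 6, 3, 0, 4, 3, 1⟩,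
  ⟨2, 6, 1, 5, 6, 5, 5, 6, 3, 1, 6, 5, 1, 4, 5, 1⟩,
  ⟨2, 6, 2, 4, 1, 2, 3, 2, 5, 6, 1, 6, 1, 5, 1, 1⟩,
  ⟨2, 6, 2, 5, 1, 2, 2, 2, 5, 0, 5, 1, 0, 5, 6, 5⟩,
  ⟨2, 6, 5, 0, 1, 2, 0, 5, 2, 5, 5, 1, 2, 2, 6, 5⟩,
  ⟨2, 6, 5, 6, 1, 2, 1, 5, 2, 4, 1, 6, 3, 2, 1, 1⟩,
  ⟨2, 6, 6, 0, 6, 5, 0, 1, 5, 6, 5, 4, 6, 2, 4, 2⟩,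
  ⟨2, 6, 6, 6, 6, 5, 6, 1, 5, 5, 5, 2, 5, 2, 2, 2⟩,
  ⟨3, 0, 0, 1, 0, 3, 6, 0, 6, 1, 0, 2, 6, 6, 5, 0⟩,
  ⟨3, 0, 0, 6, 0, 4, 6, 0, 1, 4, 3, 5, 4, 6, 5, 4⟩,
  ⟨3, 0, 1, 6, 0, 4, 6, 6, 0, 4, 3, 2, 4, 0, 2, 4⟩,
  ⟨3, 0, 5, 3, 0, 4, 3, 2, 6, 1, 6, 6, 1, 1, 6, 1⟩,
  ⟨3, 0, 6, 1, 0, 3, 6, 6, 0, 1, 0, 2, 6, 0, 5, 0⟩,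
  ⟨3, 0, 6, 3, 0, 4, 3, 1, 5, 1, 6, 3, 1, 2, 3, 1⟩,
  ⟨3, 1, 0, 3, 1, 4, 3, 0, 6, 6, 3, 1, 6, 1, 1, 4⟩,
  ⟨3, 1, 1, 1, 1, 4, 1, 6, 0, 4, 3, 1, 4, 0, 1, 4⟩,
  ⟨3, 1, 2, 3, 1, 4, 3, 5, 2, 3, 0, 0, 3, 5, 0, 0⟩,
  ⟨3, 1, 3, 1, 1, 4, 1, 4, 3, 1, 4, 6, 1, 4, 6, 3⟩,
  ⟨3, 1, 4, 6, 1, 4, 6, 3, 4, 6, 4, 6, 6, 3, 6, 3⟩,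
  ⟨3, 1, 6, 5, 1, 4, 5, 1, 5, 1, 6, 2, 1, 2, 2, 1⟩,
  ⟨3, 2, 0, 3, 2, 4, 3, 0, 6, 1, 3, 0, 1, 1, 0, 4⟩,
  ⟨3, 2, 1, 1, 5, 3, 6, 1, 1, 1, 0, 3, 6, 1, 4, 0⟩,
  ⟨3, 2, 6, 5, 5, 3, 2, 6, 6, 5, 5, 5, 2, 6, 2, 5⟩,
  ⟨3, 5, 0, 0, 5, 4, 0, 0, 1, 5, 3, 5, 5, 6, 5, 4⟩,
  ⟨3, 5, 0, 1, 2, 3, 6, 0, 0, 1, 0, 0, 6, 0, 0, 0⟩,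
  ⟨3, 5, 5, 4, 2, 3, 3, 5, 5, 4, 1, 0, 3, 5, 0, 1⟩,
  ⟨3, 5, 5, 5, 5, 4, 5, 2, 6, 3, 6, 1, 3, 1, 1, 1⟩,
  ⟨3, 5, 6, 2, 5, 4, 2, 1, 0, 0, 3, 5, 0, 0, 5, 4⟩,
  ⟨3, 5, 6, 3, 5, 4, 3, 1, 0, 1, 3, 0, 1, 0, 0, 4⟩,
  ⟨4, 0, 0, 1, 0, 3, 1, 0, 6, 3, 4, 2, 3, 1, 2, 3⟩,
  ⟨4, 0, 0, 6, 0, 4, 1, 0, 1, 6, 0, 5, 1, 1, 2, 0⟩,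
  ⟨4, 0, 1, 4, 0, 3, 4, 6, 2, 6, 1, 4, 6, 5, 4, 6⟩,
  ⟨4, 0, 1, 6, 0, 4, 1, 1, 0, 6, 0, 5, 1, 0, 2, 0⟩,
  ⟨4, 0, 2, 4, 0, 3, 4, 5, 1, 6, 1, 1, 6, 6, 1, 6⟩,
  ⟨4, 0, 6, 1, 0, 3, 1, 1, 0, 3, 4, 5, 3, 0, 5, 3⟩,
  ⟨4, 2, 0, 0, 2, 3, 0, 0, 6, 2, 4, 2, 2, 1, 2, 3⟩,
  ⟨4, 2, 0, 6, 5, 4, 1, 0, 0, 6, 0, 0, 1, 0, 0, 0⟩,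
  ⟨4, 2, 1, 4, 2, 3, 4, 6, 0, 6, 4, 0, 6, 0, 0, 3⟩,
  ⟨4, 2, 1, 5, 2, 3, 5, 6, 0, 0, 4, 2, 0, 0, 2, 3⟩,
  ⟨4, 2, 2, 2, 2, 3, 2, 5, 1, 4, 1, 6, 4, 6, 6, 6⟩,
  ⟨4, 2, 2, 3, 5, 4, 4, 2, 2, 3, 6, 0, 4, 2, 0, 6⟩,
  ⟨4, 5, 0, 4, 5, 3, 4, 0, 1, 6, 4, 0, 6, 6, 0, 3⟩,
  ⟨4, 5, 1, 2, 2, 4, 5, 1, 1, 2, 2, 2, 5, 1, 5, 2⟩,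
  ⟨4, 5, 6, 6, 2, 4, 1, 6, 6, 6, 0, 4, 1, 6, 3, 0⟩,
  ⟨4, 6, 0, 4, 6, 3, 4, 0, 1, 1, 4, 6, 1, 6, 6, 3⟩,
  ⟨4, 6, 1, 2, 6, 3, 2, 6, 2, 6, 1, 5, 6, 5, 5, 6⟩,
  ⟨4, 6, 3, 1, 6, 3, 1, 4, 3, 1, 3, 1, 1, 4, 1, 4⟩,
  ⟨4, 6, 4, 6, 6, 3, 6, 3, 4, 6, 3, 1, 6, 3, 1, 4⟩,
  ⟨4, 6, 5, 4, 6, 3, 4, 2, 5, 4, 0, 0, 4, 2, 0, 0⟩,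
  ⟨4, 6, 6, 6, 6, 3, 6, 1, 0, 3, 4, 6, 3, 0, 6, 3⟩,
  ⟨5, 0, 1, 0, 0, 5, 0, 1, 2, 0, 2, 0, 0, 2, 0, 2⟩,
  ⟨5, 0, 1, 1, 0, 5, 6, 1, 2, 1, 6, 2, 6, 2, 5, 6⟩,
  ⟨5, 0, 2, 0, 0, 5, 0, 2, 1, 0, 2, 0, 0, 1, 0, 2⟩,
  ⟨5, 0, 2, 1, 0, 5, 6, 2, 1, 1, 6, 2, 6, 1, 5, 6⟩,
  ⟨5, 0, 5, 0, 0, 5, 0, 5, 5, 0, 1, 0, 0, 5, 0, 1⟩,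
  ⟨5, 0, 5, 1, 0, 5, 6, 5, 5, 1, 5, 2, 6, 5, 5, 5⟩,
  ⟨5, 1, 1, 0, 1, 2, 0, 6, 2, 1, 2, 3, 1, 5, 3, 5⟩,
  ⟨5, 1, 1, 1, 1, 2, 1, 6, 2, 2, 2, 5, 2, 5, 5, 5⟩,
  ⟨5, 1, 2, 0, 6, 5, 0, 2, 5, 2, 2, 6, 5, 5, 1, 2⟩,
  ⟨5, 1, 2, 1, 6, 5, 6, 2, 5, 3, 6, 1, 4, 5, 6, 6⟩,
  ⟨5, 1, 5, 2, 6, 5, 5, 5, 2, 0, 2, 6, 0, 2, 1, 2⟩,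
  ⟨5, 1, 5, 3, 6, 5, 4, 5, 2, 1, 6, 1, 6, 2, 6, 6⟩,
  ⟨5, 1, 6, 2, 1, 2, 2, 1, 4, 6, 1, 2, 6, 3, 2, 6⟩,
  ⟨5, 1, 6, 3, 1, 2, 3, 1, 4, 0, 1, 4, 0, 3, 4, 6⟩,
  ⟨5, 2, 2, 2, 2, 2, 2, 5, 1, 1, 2, 6, 1, 6, 6, 5⟩,
  ⟨5, 2, 2, 3, 2, 2, 3, 5, 1, 2, 2, 1, 2, 6, 1, 5⟩,
  ⟨5, 2, 2, 6, 5, 5, 1, 2, 2, 6, 5, 0, 1, 2, 0, 5⟩,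
  ⟨5, 3, 2, 6, 4, 5, 1, 2, 6, 1, 5, 6, 6, 6, 1, 5⟩,
  ⟨5, 3, 4, 0, 3, 2, 0, 3, 6, 6, 1, 6, 6, 1, 6, 6⟩,
  ⟨5, 3, 6, 1, 4, 5, 6, 6, 2, 6, 5, 6, 1, 2, 1, 5⟩,
  ⟨5, 4, 0, 0, 4, 2, 0, 0, 3, 1, 2, 3, 1, 4, 3, 5⟩,
  ⟨5, 4, 1, 0, 3, 5, 0, 1, 4, 2, 2, 3, 5, 4, 4, 2⟩,
  ⟨5, 4, 2, 1, 4, 2, 1, 5, 1, 0, 2, 6, 0, 6, 6, 5⟩,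
  ⟨5, 4, 3, 1, 4, 2, 1, 4, 0, 0, 2, 3, 0, 0, 3, 5⟩,
  ⟨5, 4, 4, 2, 3, 5, 5, 4, 1, 0, 2, 3, 0, 1, 4, 2⟩,
  ⟨5, 4, 5, 2, 4, 2, 2, 2, 5, 6, 1, 2, 6, 2, 2, 6⟩,
  ⟨5, 5, 1, 2, 2, 5, 5, 1, 1, 2, 3, 2, 5, 1, 5, 3⟩,
  ⟨5, 5, 4, 2, 5, 2, 2, 3, 6, 1, 1, 4, 1, 1, 4, 6⟩,
  ⟨5, 5, 5, 2, 5, 2, 2, 2, 5, 1, 1, 1, 1, 2, 1, 6⟩,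
  ⟨5, 6, 1, 2, 6, 2, 2, 6, 2, 3, 2, 5, 3, 5, 5, 5⟩,
  ⟨5, 6, 1, 5, 1, 5, 2, 1, 5, 0, 1, 1, 0, 5, 6, 1⟩,
  ⟨5, 6, 1, 6, 1, 5, 1, 1, 5, 1, 5, 3, 6, 5, 4, 5⟩,
  ⟨5, 6, 5, 0, 1, 5, 0, 5, 1, 5, 1, 1, 2, 1, 6, 1⟩,
  ⟨5, 6, 5, 1, 1, 5, 6, 5, 1, 6, 5, 3, 1, 1, 4, 5⟩,
  ⟨5, 6, 5, 4, 6, 2, 4, 2, 5, 1, 1, 0, 1, 2, 0, 6⟩,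
  ⟨6, 0, 0, 0, 0, 6, 0, 0, 0, 0, 6, 0, 0, 0, 0, 6⟩,
  ⟨6, 0, 0, 3, 0, 1, 3, 0, 0, 6, 6, 5, 6, 0, 5, 1⟩,
  ⟨6, 0, 0, 4, 0, 6, 3, 0, 0, 4, 1, 0, 3, 0, 0, 1⟩,
  ⟨6, 0, 5, 0, 0, 6, 0, 5, 5, 0, 2, 0, 0, 5, 0, 2⟩,
  ⟨6, 0, 5, 1, 0, 1, 1, 2, 5, 4, 2, 1, 4, 2, 1, 5⟩,
  ⟨6, 0, 5, 4, 0, 6, 3, 5, 5, 4, 4, 2, 3, 5, 5, 4⟩,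
  ⟨6, 1, 0, 2, 6, 6, 5, 0, 4, 0, 0, 6, 0, 4, 1, 0⟩,
  ⟨6, 1, 1, 2, 1, 1, 2, 6, 6, 3, 6, 3, 3, 1, 3, 1⟩,
  ⟨6, 1, 1, 4, 1, 1, 4, 6, 2, 2, 3, 5, 2, 5, 5, 4⟩,
  ⟨6, 1, 2, 4, 6, 6, 3, 2, 5, 6, 5, 1, 1, 5, 6, 5⟩,
  ⟨6, 1, 3, 0, 1, 1, 0, 4, 4, 5, 0, 4, 5, 3, 4, 0⟩,
  ⟨6, 1, 4, 0, 6, 6, 0, 4, 0, 2, 0, 6, 5, 0, 1, 0⟩,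
  ⟨6, 1, 5, 6, 6, 6, 1, 5, 2, 4, 5, 1, 3, 2, 6, 5⟩,
  ⟨6, 1, 6, 6, 1, 1, 6, 1, 4, 0, 2, 4, 0, 3, 4, 5⟩,
  ⟨6, 2, 0, 2, 5, 6, 5, 0, 1, 2, 0, 5, 5, 1, 2, 0⟩,
  ⟨6, 2, 1, 2, 5, 6, 5, 1, 0, 2, 0, 5, 5, 0, 2, 0⟩,
  ⟨6, 2, 2, 6, 2, 1, 6, 5, 1, 2, 3, 1, 2, 6, 1, 4⟩,
  ⟨6, 2, 4, 2, 2, 1, 2, 3, 3, 5, 0, 0, 5, 4, 0, 0⟩,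
  ⟨6, 2, 5, 6, 5, 6, 1, 5, 6, 6, 5, 0, 1, 6, 0, 5⟩,
  ⟨6, 2, 6, 6, 5, 6, 1, 6, 5, 6, 5, 0, 1, 5, 0, 5⟩,
  ⟨6, 3, 1, 4, 3, 1, 4, 6, 6, 5, 6, 1, 5, 1, 1, 1⟩,
  ⟨6, 3, 2, 6, 3, 1, 6, 5, 1, 4, 3, 0, 4, 6, 0, 4⟩,
  ⟨6, 3, 4, 0, 3, 1, 0, 3, 6, 3, 2, 6, 3, 1, 6, 5⟩,
  ⟨6, 3, 4, 2, 3, 1, 2, 3, 3, 0, 0, 6, 0, 4, 6, 0⟩,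
  ⟨6, 3, 6, 1, 3, 1, 1, 1, 4, 2, 2, 2, 2, 3, 2, 5⟩,
  ⟨6, 3, 6, 3, 3, 1, 3, 1, 1, 6, 6, 5, 6, 6, 5, 1⟩,
  ⟨6, 5, 0, 1, 5, 1, 1, 0, 0, 4, 6, 0, 4, 0, 0, 1⟩,
  ⟨6, 5, 0, 2, 2, 6, 5, 0, 6, 2, 0, 2, 5, 6, 5, 0⟩,
  ⟨6, 5, 4, 5, 2, 6, 2, 4, 5, 5, 1, 2, 2, 5, 5, 1⟩,
  ⟨6, 5, 4, 6, 5, 1, 6, 3, 6, 2, 2, 6, 2, 1, 6, 5⟩,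
  ⟨6, 5, 5, 5, 2, 6, 2, 5, 4, 5, 1, 2, 2, 4, 5, 1⟩,
  ⟨6, 5, 5, 6, 5, 1, 6, 2, 5, 2, 2, 3, 2, 2, 3, 5⟩,
  ⟨6, 5, 6, 1, 5, 1, 1, 1, 1, 4, 6, 3, 4, 6, 3, 1⟩,
  ⟨6, 5, 6, 2, 2, 6, 5, 6, 0, 2, 0, 2, 5, 0, 5, 0⟩,
  ⟨6, 6, 0, 3, 6, 1, 3, 0, 0, 4, 6, 6, 4, 0, 6, 1⟩,
  ⟨6, 6, 0, 4, 1, 6, 3, 0, 3, 2, 1, 1, 5, 3, 6, 1⟩,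
  ⟨6, 6, 1, 5, 1, 6, 2, 1, 5, 0, 2, 1, 0, 5, 6, 2⟩,
  ⟨6, 6, 1, 6, 6, 1, 6, 6, 2, 4, 3, 0, 4, 5, 0, 4⟩,
  ⟨6, 6, 3, 1, 6, 1, 1, 4, 4, 6, 0, 4, 6, 3, 4, 0⟩,
  ⟨6, 6, 3, 2, 1, 6, 5, 3, 0, 4, 1, 1, 3, 0, 6, 1⟩,
  ⟨6, 6, 5, 0, 1, 6, 0, 5, 1, 5, 2, 1, 2, 1, 6, 2⟩,
  ⟨6, 6, 5, 1, 6, 1, 1, 2, 5, 2, 2, 2, 2, 2, 2, 5⟩]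

/-- The code of `-1`. -/
def a10Neg : M16 := ⟨6, 0, 0, 0, 0, 6, 0, 0, 0, 0, 6, 0, 0, 0, 0, 6⟩

set_option maxRecDepth 100000 in
theorem a10_inv : M16.mul 7 a10A a10Ai = M16.one ∧ M16.mul 7 a10Ai a10A = M16.one ∧
    M16.mul 7 a10B a10Bi = M16.one ∧ M16.mul 7 a10Bi a10B = M16.one := by
  decide +kernel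

set_option maxRecDepth 100000 in
theorem a10_one_mem : M16.one ∈ a10L := by
  decide +kernel

set_option maxRecDepth 100000 in
theorem a10_closed : ∀ c ∈ a10L, M16.mul 7 c a10A ∈ a10L ∧ M16.mul 7 c a10B ∈ a10L ∧
    M16.mul 7 c a10Ai ∈ a10L ∧ M16.mul 7 c a10Bi ∈ a10L := by
  decide +kernel

set_option maxRecDepth 100000 in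
theorem a10_cert : ∀ c ∈ a10L, c = M16.one ∨ M16.pow 7 c 3 = a10Neg ∨ M16.pow 7 c 4 = a10Neg ∨
    M16.pow 7 c 5 = a10Neg ∨ M16.pow 7 c 6 = a10Neg ∨
    (M16.pow 7 c 3 = M16.one ∧ M16.sumPow 7 c 3 = M16.zero) ∨
    (M16.pow 7 c 5 = M16.one ∧ M16.sumPow 7 c 5 = M16.zero) := by
  decide +kernel

/-- The code of an element of order 10. -/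
def a10C10 : M16 := M16.mul 7 (M16.mul 7 a10A a10A) a10B

/-- The code of an element of order 12. -/
def a10C12 : M16 := M16.mul 7 (M16.mul 7 a10A a10B) a10B

/-- The code of an element of order 5. -/
def a10C5 : M16 := M16.mul 7 (M16.mul 7 (M16.mul 7 a10A a10A) a10B) a10B

set_option maxRecDepth 100000 in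
theorem a10A_spec : M16.pow 7 a10A 8 = M16.one ∧ M16.pow 7 a10A 4 ≠ M16.one := by
  decide +kernel

set_option maxRecDepth 100000 in
theorem a10C10_spec : M16.pow 7 a10C10 10 = M16.one ∧ M16.pow 7 a10C10 5 ≠ M16.one ∧
    M16.pow 7 a10C10 2 ≠ M16.one := by
  decide +kernel

set_option maxRecDepth 100000 in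
theorem a10C12_spec : M16.pow 7 a10C12 12 = M16.one ∧ M16.pow 7 a10C12 6 ≠ M16.one ∧
    M16.pow 7 a10C12 4 ≠ M16.one := by
  decide +kernel

set_option maxRecDepth 100000 in
theorem a10B_spec : M16.pow 7 a10B 3 = M16.one ∧ M16.sumPow 7 a10B 3 = M16.zero ∧
    M16.pow 7 a10B 1 ≠ M16.one := by
  decide +kernel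

set_option maxRecDepth 100000 in
theorem a10C5_spec : M16.pow 7 a10C5 5 = M16.one ∧ M16.sumPow 7 a10C5 5 = M16.zero ∧
    M16.pow 7 a10C5 1 ≠ M16.one ∧ M16.pow 7 a10C5 3 ≠ M16.one := by
  decide +kernel

end Cfsg.Agent.Helper57
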