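import Cfsg.Prelude.Def_ChevB2

/-!
# The Chevalley group `B₂(2)` and `S₆`: data (seat helper57)

The group generated by the eight matrices `x_r(1)` (10×10 over `𝔽₂`) permutes the 15 vectors `b2Vec (i, j)`,
`i ≠ j`, as the symmetric group on six points permutes the pairs `{i, j}`; the root element `x_r(1)` acts as
the permutation `b2Sig r`.  The 15 vectors span the space (`b2_comb`).
-/

set_option autoImplicit false

namespace Cfsg.Agent.Helper57

open Cfsg.Lie

/-- the number of a coordinate -/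
def b2Num : chevB2.Idx → ℕ
  | Sum.inl i => i.val
  | Sum.inr u => 2 + u.val

/-- The 15 vectors, as bit masks, indexed by ordered pairs. -/
def b2Bits : Fin 6 → Fin 6 → ℕ :=
  ![![0, 512, 519, 44, 84, 126],
    ![512, 0, 4, 687, 855, 1021],
    ![519, 4, 0, 672, 832, 994],
    ![44, 687, 672, 0, 98, 64],
    ![84, 855, 832, 98, 0, 32],
    ![126, 1021, 994, 64, 32, 0]]

/-- The 15 vectors. -/
def b2Vec (s : Fin 6 × Fin 6) : chevB2.Idx → ZMod 2 :=
  fun k => if (b2Bits s.1 s.2).testBit (b2Num k) then 1 else 0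

/-- The permutations of six points attached to the eight roots, as functions. -/
def b2SigFun : Fin 8 → Fin 6 → Fin 6 :=
  ![![0, 2, 1, 3, 4, 5],
    ![3, 2, 1, 0, 5, 4],
    ![4, 2, 1, 5, 0, 3],
    ![0, 1, 2, 3, 5, 4],
    ![0, 1, 2, 5, 4, 3],
    ![1, 0, 3, 2, 5, 4],
    ![1, 0, 4, 5, 2, 3],
    ![1, 0, 2, 3, 4, 5]]

theorem b2SigFun_invol : ∀ (r : Fin 8) (i : Fin 6), b2SigFun r (b2SigFun r i) = i := by decide

/-- The permutations of six points attached to the eight roots. -/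
def b2Sig (r : Fin 8) : Equiv.Perm (Fin 6) :=
  ⟨b2SigFun r, b2SigFun r, b2SigFun_invol r, b2SigFun_invol r⟩

/-- Each coordinate vector as a sum of some of the 15 vectors. -/
def b2Comb (k : chevB2.Idx) : List (Fin 6 × Fin 6) :=
  ([[(0, 1), (0, 2), (0, 3), (0, 4), (0, 5)],
    [(0, 3), (0, 4), (0, 5), (1, 2)],
    [(1, 2)],
    [(0, 1), (0, 3), (0, 4), (0, 5), (1, 2), (1, 4), (1, 5), (2, 3)],
    [(0, 1), (0, 2), (1, 4), (2, 4)],
    [(0, 1), (0, 4), (0, 5), (1, 4), (1, 5), (2, 3)],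
    [(0, 1), (0, 2), (0, 4), (1, 2), (1, 4), (2, 4)],
    [(0, 4), (0, 5), (1, 4), (1, 5)],
    [(0, 2), (0, 4), (1, 2), (1, 4)],
    [(0, 1)]] : List (List (Fin 6 × Fin 6))).getD (b2Num k) []

/-- Words in the `b2Sig r` giving the transpositions. -/
def b2Words : List ((Fin 6 × Fin 6) × List (Fin 8)) :=
  [((0, 1), [7]),
    ((0, 2), [0, 7, 0]),
    ((0, 3), [0, 1, 3]),
    ((0, 4), [0, 2, 4]),
    ((0, 5), [0, 3, 2, 4, 3]),
    ((1, 2), [0]),
    ((1, 3), [0, 1, 7, 0, 1]),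
    ((1, 4), [0, 2, 7, 0, 2]),
    ((1, 5), [1, 2, 7, 1, 2]),
    ((2, 3), [1, 7, 1]),
    ((2, 4), [2, 7, 2]),
    ((2, 5), [3, 2, 7, 2, 3]),
    ((3, 4), [3, 4, 3]),
    ((3, 5), [4]),
    ((4, 5), [3])]

set_option maxRecDepth 100000 in
theorem b2_zero : ∀ r : Fin 8, chevB2.xMat (ZMod 2) r 0 = 1 := by decide +kernel

set_option maxRecDepth 100000 in
theorem b2_sq : ∀ r : Fin 8, chevB2.xMat (ZMod 2) r 1 * chevB2.xMat (ZMod 2) r 1 = 1 := by
  decide +kernel

set_option maxRecDepth 100000 in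
theorem b2_act : ∀ (r : Fin 8) (i j : Fin 6),
    (chevB2.xMat (ZMod 2) r 1).mulVec (b2Vec (i, j)) = b2Vec (b2SigFun r i, b2SigFun r j) := by
  decide +kernel

set_option maxRecDepth 100000 in
theorem b2_comb : ∀ k : chevB2.Idx, ((b2Comb k).map b2Vec).sum = Pi.single k 1 := by
  decide +kernel

set_option maxRecDepth 100000 in
theorem b2_inj : ∀ i j k l : Fin 6, b2Vec (i, j) = b2Vec (k, l) →
    (i = j ∧ k = l) ∨ (i = k ∧ j = l) ∨ (i = l ∧ j = k) := by
  decide +kernel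

set_option maxRecDepth 100000 in
theorem b2_words : ∀ i j : Fin 6, i < j →
    ∃ w ∈ b2Words, w.1 = (i, j) ∧ (w.2.map b2Sig).prod = Equiv.swap i j := by
  decide +kernel

end Cfsg.Agent.Helper57
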