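import Mathlib
import Cfsg.Prelude.Def_OddOrderLocal

set_option autoImplicit false

namespace Cfsg.Agent.Helper57

open Cfsg Subgroup

universe u

variable {G : Type u} [Group G] [Finite G]

omit [Finite G] in
/-- NTI (pure). -/
theorem bg83_witness [Finite G] (M X : Subgroup G) (hXM : X ≤ M)
    (hMX : M ≤ normalizer (X : Set G)) (hnTI : ¬ IsTISubset (X : Set G)) :
    ∃ x g : G, x ∈ X ∧ (orderOf x).Prime ∧ g ∉ M ∧ x ∈ M.map (MulAut.conj g).toMonoidHom := by
  unfold IsTISubset at hnTI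
  push Not at hnTI
  obtain ⟨g, hgN, y, hyX, hgy, hy1⟩ := hnTI
  have hyX' : y ∈ X := hyX
  have hgy' : g * y * g⁻¹ ∈ X := hgy
  have hgM : g ∉ M := fun h => hgN (hMX h)
  -- order of y
  have hyfin : 0 < orderOf y := orderOf_pos y
  have hone : orderOf y ≠ 1 := by
    intro h
    exact hy1 (orderOf_eq_one_iff.mp h)
  obtain ⟨q, hq, hqd⟩ := Nat.exists_prime_and_dvd hone
  set k : ℕ := orderOf y / q with hk
  have hord : orderOf (y ^ k) = q := by
    have := orderOf_pow_orderOf_div (x := y) (n := q) hyfin.ne' hqd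
    simpa [hk] using this
  have hconj : g * y ^ k * g⁻¹ = (g * y * g⁻¹) ^ k := by
    rw [conj_pow]
  refine ⟨g * y ^ k * g⁻¹, g, ?_, ?_, hgM, ?_⟩
  · rw [hconj]
    exact X.pow_mem hgy' k
  · have h2 : orderOf (g * y ^ k * g⁻¹) = orderOf (y ^ k) := by
      have := orderOf_injective (MulAut.conj g).toMonoidHom (MulAut.conj g).injective (y ^ k)
      simpa [MulAut.conj_apply] using this
    rw [h2, hord]
    exact hq
  · refine Subgroup.mem_map.mpr ⟨y ^ k, hXM (X.pow_mem hyX' k), ?_⟩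
    simp [MulAut.conj_apply]

end Cfsg.Agent.Helper57
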