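import Mathlib

/-!
# CALL S1376 (helper1), piece CYC (helper57, double)
-/

set_option autoImplicit false

namespace Cfsg.Agent.Helper57

open Subgroup

universe u

variable {G : Type u} [Group G] [Finite G]

/-- CYC (pure).  An abelian finite group with cyclic Sylow subgroups is cyclic (Mathlib `IsZGroup`). -/
theorem c9_cyc {X : Type u} [Group X] [Finite X] (hc : ∀ a b : X, a * b = b * a)
    (hs : ∀ (s : ℕ) [Fact s.Prime] (P : Sylow s X), IsCyclic ↥(P : Subgroup X)) : IsCyclic X := by
  haveI hz : IsZGroup X := ⟨fun p hp P => by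
    haveI : Fact p.Prime := ⟨hp⟩
    exact hs p P⟩
  haveI hn : Group.IsNilpotent X := by
    refine ⟨⟨1, ?_⟩⟩
    rw [Subgroup.upperCentralSeries_one, eq_top_iff]
    intro x _
    rw [Subgroup.mem_center_iff]
    intro g
    exact hc g x
  infer_instance

end Cfsg.Agent.Helper57
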