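import Mathlib

/-!
# CALL S1376 (helper1), piece KQ (helper57, double)
-/

set_option autoImplicit false

namespace Cfsg.Agent.Helper57

open Subgroup

universe u

variable {G : Type u} [Group G] [Finite G]

/-- KQ (pure).  A `q`-subgroup of `S` lies in the normal Sylow `q`-subgroup `Q` of `S`. -/
theorem c9_le_Q {S Q K : Subgroup G} {q : ℕ} (hq : q.Prime) (hQS : Q ≤ S)
    (hQn : S ≤ normalizer (Q : Set G)) (hQi : ¬ q ∣ Q.relIndex S) (hKS : K ≤ S)
    (hK : IsPGroup q K) : K ≤ Q := by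
  haveI : Fact q.Prime := ⟨hq⟩
  haveI hn : (Q.subgroupOf S).Normal := (Subgroup.normal_subgroupOf_iff_le_normalizer hQS).mpr hQn
  intro k hk
  have hkS : k ∈ S := hKS hk
  obtain ⟨j, hj⟩ := (IsPGroup.iff_orderOf.mp hK) ⟨k, hk⟩
  have hj' : orderOf k = q ^ j := by
    rw [← hj]
    exact (Subgroup.orderOf_mk k hk).symm
  have h1 : orderOf (QuotientGroup.mk' (Q.subgroupOf S) ⟨k, hkS⟩) ∣ q ^ j := by
    rw [← hj', ← Subgroup.orderOf_mk k hkS]
    exact orderOf_map_dvd (QuotientGroup.mk' (Q.subgroupOf S)) _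
  have h2 : orderOf (QuotientGroup.mk' (Q.subgroupOf S) ⟨k, hkS⟩) ∣ Q.relIndex S := by
    have h := orderOf_dvd_natCard (QuotientGroup.mk' (Q.subgroupOf S) ⟨k, hkS⟩)
    rwa [← Subgroup.index_eq_card] at h
  have h3 : orderOf (QuotientGroup.mk' (Q.subgroupOf S) ⟨k, hkS⟩) = 1 := by
    obtain ⟨i, hi, hi'⟩ := (Nat.dvd_prime_pow hq).mp h1
    rw [hi'] at h2 ⊢
    rcases Nat.eq_zero_or_pos i with h0 | h0
    · rw [h0, pow_zero]
    · exact absurd ((dvd_pow_self q h0.ne').trans h2) hQi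
  have h4 : QuotientGroup.mk' (Q.subgroupOf S) ⟨k, hkS⟩ = 1 := orderOf_eq_one_iff.mp h3
  have h5 : (⟨k, hkS⟩ : S) ∈ Q.subgroupOf S := (QuotientGroup.eq_one_iff _).mp h4
  exact Subgroup.mem_subgroupOf.mp h5

end Cfsg.Agent.Helper57
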