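import Cfsg.Prelude.Def_Chevalley

/-!
# Chevalley groups and field isomorphisms (seat helper57)

* `xMat_map_hom`: the matrices `x_r(t)` commute with a ring hom between fields;
* `glCongr`: `GL n F ≃* GL n K` for a ring isomorphism;
* `chevGroupCongr`: `D.group F ≃* D.group K` for a ring isomorphism `F ≃+* K`.
-/

set_option autoImplicit false

namespace Cfsg.Agent.Helper57

open Cfsg.Lie

theorem xMat_map_hom {F K : Type*} [Field F] [Field K] (D : ChevalleyDatum) (f : F →+* K)
    (r : Fin D.nroots) (t : F) : (D.xMat F r t).map f = D.xMat K r (f t) := by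
  ext row col
  simp only [Matrix.map_apply, ChevalleyDatum.xMat, Matrix.of_apply]
  rcases col with i | s
  · rcases row with i' | u
    · simp only [apply_ite f, map_one, map_zero]
    · simp only [apply_ite f, map_neg, map_mul, map_intCast, map_zero]
  · simp only
    split_ifs with h1 h2
    · rcases row with i' | u
      · simp
      · simp only [apply_ite f, map_one, map_zero]
    · rcases row with i' | u
      · simp only [map_mul, map_intCast]
      · simp only [apply_ite f, map_one, map_zero, map_neg, map_pow]
    · rcases row with i' | u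
      · simp
      · simp only [map_add, apply_ite f, map_one, map_zero, map_list_sum, List.map_map]
        congr 2
        apply List.map_congr_left
        intro km _
        simp only [Function.comp, map_mul, map_intCast, map_pow]

/-- `GL n F ≃* GL n K` for a ring isomorphism. -/
noncomputable def glCongr {n : Type*} [Fintype n] [DecidableEq n] {F K : Type*} [CommRing F]
    [CommRing K] (e : F ≃+* K) : GL n F ≃* GL n K :=
  Units.mapEquiv (RingEquiv.mapMatrix e).toMulEquiv

theorem glCongr_val {n : Type*} [Fintype n] [DecidableEq n] {F K : Type*} [CommRing F]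
    [CommRing K] (e : F ≃+* K) (g : GL n F) :
    ((glCongr e g : GL n K) : Matrix n n K) = (g : Matrix n n F).map e := rfl

theorem chevGroup_map {F K : Type*} [Field F] [Field K] (D : ChevalleyDatum) (e : F ≃+* K) :
    (D.group F).map ((glCongr e : GL D.Idx F ≃* GL D.Idx K) : GL D.Idx F →* GL D.Idx K) =
      D.group K := by
  unfold ChevalleyDatum.group
  rw [MonoidHom.map_closure]
  congr 1
  ext g
  constructor
  · rintro ⟨g0, ⟨r, t, hg0⟩, rfl⟩
    refine ⟨r, e t, ?_⟩
    show ((glCongr e g0 : GL D.Idx K) : Matrix D.Idx D.Idx K) = _
    rw [glCongr_val, hg0]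
    exact xMat_map_hom D (e : F →+* K) r t
  · rintro ⟨r, t, hg⟩
    refine ⟨(glCongr e).symm g, ⟨r, e.symm t, ?_⟩, ?_⟩
    · have h1 : (((glCongr e).symm g : GL D.Idx F) : Matrix D.Idx D.Idx F) =
          (g : Matrix D.Idx D.Idx K).map e.symm := rfl
      rw [h1, hg]
      exact xMat_map_hom D (e.symm : K →+* F) r t
    · show glCongr e ((glCongr e).symm g) = g
      exact (glCongr e).apply_symm_apply g

/-- The Chevalley groups over isomorphic fields are isomorphic. -/
noncomputable def chevGroupCongr {F K : Type*} [Field F] [Field K] (D : ChevalleyDatum)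
    (e : F ≃+* K) : ↥(D.group F) ≃* ↥(D.group K) :=
  ((glCongr e : GL D.Idx F ≃* GL D.Idx K).subgroupMap (D.group F)).trans
    (MulEquiv.subgroupCongr (chevGroup_map D e))

end Cfsg.Agent.Helper57
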