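import Mathlib

/-!
# A concrete field with eight elements (seat helper57)

`F8`: the elements `a + b α + c α²` with `a b c : Bool` and `α³ = α + 1`; the operations are Boolean formulas,
so that the kernel evaluates them quickly.
-/

set_option autoImplicit false

namespace Cfsg.Agent.Helper57

/-- A concrete field with eight elements: `a + b α + c α²`, where `α³ = α + 1`. -/
structure F8 : Type where
  /-- the constant coefficient -/
  a : Bool
  /-- the coefficient of `α` -/
  b : Bool
  /-- the coefficient of `α²` -/
  c : Bool
  deriving DecidableEq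

namespace F8

instance : Fintype F8 :=
  ⟨⟨([⟨false, false, false⟩, ⟨true, false, false⟩, ⟨false, true, false⟩, ⟨true, true, false⟩,
      ⟨false, false, true⟩, ⟨true, false, true⟩, ⟨false, true, true⟩, ⟨true, true, true⟩] : List F8),
      by decide⟩,
    fun x => by rcases x with ⟨a, b, c⟩; cases a <;> cases b <;> cases c <;> decide⟩

/-- addition -/
def add (x y : F8) : F8 := ⟨xor x.a y.a, xor x.b y.b, xor x.c y.c⟩

/-- multiplication -/
def mul (x y : F8) : F8 :=
  ⟨xor (x.a && y.a) (xor (x.b && y.c) (x.c && y.b)),
    xor (xor (x.a && y.b) (x.b && y.a)) (xor (xor (x.b && y.c) (x.c && y.b)) (x.c && y.c)),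
    xor (xor (x.a && y.c) (x.b && y.b)) (xor (x.c && y.a) (x.c && y.c))⟩

/-- inversion: the sixth power -/
def inv (x : F8) : F8 := mul (mul x x) (mul (mul x x) (mul x x))

instance : Zero F8 := ⟨⟨false, false, false⟩⟩
instance : One F8 := ⟨⟨true, false, false⟩⟩
instance : Add F8 := ⟨add⟩
instance : Mul F8 := ⟨mul⟩
instance : Neg F8 := ⟨id⟩
instance : Inv F8 := ⟨inv⟩

instance : CommRing F8 where
  add_assoc := by decide
  zero_add := by decide
  add_zero := by decide
  add_comm := by decide
  neg_add_cancel := by decide
  mul_assoc := by decide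
  one_mul := by decide
  mul_one := by decide
  left_distrib := by decide
  right_distrib := by decide
  mul_comm := by decide
  zero_mul := by decide
  mul_zero := by decide
  nsmul := nsmulRec
  zsmul := zsmulRec

instance : Field F8 where
  exists_pair_ne := ⟨0, 1, by decide⟩
  mul_inv_cancel := by decide
  inv_zero := rfl
  nnqsmul := _
  nnqsmul_def := fun _ _ => rfl
  qsmul := _
  qsmul_def := fun _ _ => rfl

theorem card_eq : Fintype.card F8 = 8 := rfl

theorem two_eq_zero : (2 : F8) = 0 := by
  rw [← one_add_one_eq_two]
  decide

theorem neg_eq (x : F8) : -x = x := rfl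

/-- the number of an element -/
def code (x : F8) : ℕ := x.a.toNat + 2 * x.b.toNat + 4 * x.c.toNat

/-- the element with a given number -/
def ofNat (n : ℕ) : F8 := ⟨n.testBit 0, n.testBit 1, n.testBit 2⟩

theorem code_lt (x : F8) : x.code < 8 := by
  rcases x with ⟨a, b, c⟩
  cases a <;> cases b <;> cases c <;> decide

theorem code_eq_zero : ∀ x : F8, x.code = 0 → x = 0 := by decide

theorem code_eq_one : ∀ x : F8, x.code = 1 → x = 1 := by decide

theorem mul_def (x y : F8) : x * y = mul x y := rfl

theorem add_def (x y : F8) : x + y = add x y := rfl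

end F8

end Cfsg.Agent.Helper57
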