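import Cfsg.Prelude.Def_ChevG2
import Cfsg.Agent.Helper57.SU33

/-!
# The Chevalley group `G₂(2)` and `SU(3, 3)`: data (seat helper57)

The group generated by the twelve matrices `x_r(1)` (14×14 over `𝔽₂`) permutes 63 vectors `g2Tbl p`
(`p ≠ 0`) as `PΓU(3, 3)` permutes the 63 non-isotropic points of the Hermitian plane over `𝔽₉`:
`g2Idx s` is the number of the point spanned by the vector `s` (`0` for isotropic vectors), the root
element `x_r(1)` acts on the numbers as `g2Pi r`.  The commutators `c₁ = [x_0(1), x_8(1)]` and
`c₂ = [x_4(1), x_7(1)]` act as the unitary matrices `g2A1`, `g2A2`; every `x_r(1)` for a long root `r`,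
and `x_2(1) x_r(1)` for a short root `r`, acts as a word in `c₁`, `c₂` (`g2WordR`), and so do the conjugates
of `c₁`, `c₂` by `x_2(1)` (`g2WordT`).  Vectors over `𝔽₂` are bit masks, tables are numbers read by shifts,
and all statements about the data are checked by evaluation.
-/

set_option autoImplicit false

namespace Cfsg.Agent.Helper57

open Cfsg.Lie Matrix

/-- the number of a coordinate -/
def g2Num : chevG2.Idx → ℕ
  | Sum.inl i => i.val
  | Sum.inr u => 2 + u.val

/-- The vector with a given bit mask. -/
def g2Vec (w : ℕ) : chevG2.Idx → ZMod 2 := fun k => if w.testBit (g2Num k) then 1 else 0

theorem g2Vec_xor (a b : ℕ) : g2Vec (a ^^^ b) = g2Vec a + g2Vec b := by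
  funext k
  simp only [g2Vec, Nat.testBit_xor, Pi.add_apply]
  cases Nat.testBit a (g2Num k) <;> cases Nat.testBit b (g2Num k) <;> decide

theorem g2Vec_zero : g2Vec 0 = 0 := by
  funext k
  simp [g2Vec]

/-- The matrix with given columns (bit masks). -/
def g2MatOfCols (cols : List ℕ) : Matrix chevG2.Idx chevG2.Idx (ZMod 2) :=
  fun i j => if (cols.getD (g2Num j) 0).testBit (g2Num i) then 1 else 0

/-- Matrix times vector, on bit masks. -/
def g2Bmv (cols : List ℕ) (w : ℕ) : ℕ :=
  (List.range 14).foldl (fun acc k => acc ^^^ (if w.testBit k then cols.getD k 0 else 0)) 0

theorem g2Bmv_term (b : Bool) (c n : ℕ) :
    (if (if b = true then c else 0).testBit n = true then (1 : ZMod 2) else 0) =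
      (if c.testBit n = true then 1 else 0) * (if b = true then 1 else 0) := by
  cases b <;> simp

theorem g2_sum_idx (f : ℕ → ZMod 2) : ∑ j : chevG2.Idx, f (g2Num j) =
    f 0 + f 1 + f 2 + f 3 + f 4 + f 5 + f 6 + f 7 + f 8 + f 9 + f 10 + f 11 + f 12 + f 13 := by
  have h : ∑ j : Fin 2 ⊕ Fin 12, f (g2Num j) =
      f 0 + f 1 + f 2 + f 3 + f 4 + f 5 + f 6 + f 7 + f 8 + f 9 + f 10 + f 11 + f 12 + f 13 := by
    rw [Fintype.sum_sum_type, Fin.sum_univ_two]
    simp only [Fin.sum_univ_succ, Fin.sum_univ_zero]
    simp [g2Num]
    abel
  exact h

theorem g2Bmv_spec (cols : List ℕ) (w : ℕ) :
    (g2MatOfCols cols).mulVec (g2Vec w) = g2Vec (g2Bmv cols w) := by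
  have hr : List.range 14 = [0, 1, 2, 3, 4, 5, 6, 7, 8, 9, 10, 11, 12, 13] := by decide
  funext i
  simp only [g2Bmv, hr, List.foldl_cons, List.foldl_nil, g2Vec_xor, Pi.add_apply, g2Vec_zero,
    zero_add]
  have h1 : (g2MatOfCols cols *ᵥ g2Vec w) i = _ :=
    g2_sum_idx (fun k => (if (cols.getD k 0).testBit (g2Num i) = true then (1 : ZMod 2) else 0) *
        (if w.testBit k = true then 1 else 0))
  rw [h1]
  simp only [g2Vec, g2Bmv_term]

/-- The columns of the matrices `x_r(1)`, as bit masks. -/
def g2Cols : Fin 12 → List ℕ :=
  ![[1, 6, 4, 8, 16, 32, 64, 128, 264, 512, 1040, 2080, 4224, 8197],
    [9, 10, 4, 8, 16, 32, 64, 132, 256, 528, 1024, 2112, 4107, 8448],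
    [17, 2, 4, 8, 16, 36, 72, 128, 256, 516, 1032, 2066, 4644, 9288],
    [33, 34, 4, 8, 20, 32, 68, 128, 340, 640, 1059, 2176, 4096, 10880],
    [1, 66, 4, 8, 24, 40, 64, 184, 256, 577, 1280, 2304, 7424, 8192],
    [129, 2, 4, 12, 16, 32, 96, 128, 386, 512, 1536, 2048, 4096, 12288],
    [257, 2, 12, 8, 16, 96, 64, 386, 256, 1536, 1024, 2048, 12288, 8192],
    [1, 514, 4, 184, 144, 160, 577, 128, 7424, 512, 5120, 6144, 4096, 8192],
    [1025, 1026, 340, 8, 272, 1059, 320, 10880, 256, 8704, 1024, 10240, 4096, 8192],
    [2049, 2, 4644, 9288, 2066, 4128, 8256, 128, 256, 4608, 9216, 2048, 4096, 8192],
    [4097, 4098, 132, 4107, 528, 32, 2112, 128, 8448, 512, 1024, 2048, 4096, 8192],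
    [1, 8194, 8197, 264, 1040, 2080, 64, 4224, 256, 512, 1024, 2048, 4096, 8192]]

/-- The matrices `x_r(1)`, from the bit masks. -/
def g2X (r : Fin 12) : Matrix chevG2.Idx chevG2.Idx (ZMod 2) := g2MatOfCols (g2Cols r)

/-- The bit masks of the 63 vectors (and zero), 14 bits each, as one number. -/
def g2BitsN : ℕ :=
  308184997586941351821041483314616176621606810030423934987575032282714132677354849387830573661667616960968246097051125667062862164024877286551660535602010962104538060528775363699771960304126454016162681157122939009739380782928396881909403485002003850200458269352641363968

/-- The 63 vectors (and zero), as bit masks. -/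
def g2Bits (p : Fin 64) : ℕ := (g2BitsN >>> (14 * p.val)) % 16384

/-- The 63 vectors (and zero). -/
def g2Tbl (p : Fin 64) : chevG2.Idx → ZMod 2 := g2Vec (g2Bits p)

/-- The action of the root elements on the numbers of the vectors: a table, 6 bits each, as one number. -/
def g2PiN : ℕ :=
  998812939151592896231213304092535116320737056199633005067175888376199645771876008333684138805159990827190762685871373143258590211687733586921277585709239924139006727128614408222917087628640699882541494718842652451054476522480080930161905698683883553785851058589080013522352422154080385135596030425253621816287642594753751054858312490736752085641770996980870731652495753104726383544572471621676668055317687408227396724372667019040300969429196987829500725750640778084546419004644497346468295536037083980251033050393999425538940833518200543970121331382383635315484699186231205613384959350465765728877936347921534265245363328541443562568237058249036442840831239584832580976894064032970724888791464512799082187186307130608896407406896485099689681371994984059613070629208491693596604378413986639476122716377575162784920702355097970965793339223079405890869112003027996586410583064547648268572837180070457554111686909808801095780943105920925162196060002816954808047744102795471892933567354864256080092652770008939826347499941194391446757058020264959148260809023461651679837990303148514378672389564924220251965461383692088494445432304489520170067252176571930185221569408652855035239847135166745155973541858546285034505598199659858541418563357059410711961025171579418342058575531491642098861398490434981797714907196665215052820239702778499663356410898517208824296684150638081134979174281769918528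

/-- The action of the root elements on the numbers of the vectors. -/
def g2Pi (r : Fin 12) (p : Fin 64) : Fin 64 := Fin.ofNat 64 (g2PiN >>> (6 * (64 * r.val + p.val)))

/-- Which roots are short. -/
def g2Sh : Fin 12 → Bool :=
  ![false, false, true, true, true, false, false, true, true, true, false, false]

/-- A vector over the field with nine elements as a number. -/
def g2Code (s : Fin 3 → K9) : ℕ :=
  ((((((s 0).re.val * 3 + (s 0).im.val) * 3 + (s 1).re.val) * 3 + (s 1).im.val) * 3 + (s 2).re.val) * 3
    + (s 2).im.val)

/-- The numbers of the points spanned by the vectors: a table, 6 bits each, as one number. -/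
def g2IdxN : ℕ :=
  48372968409100919505301205766538308529421166151128881720367293474931161491931385367733304112073137333339267012465569266672133153055326521316756860746345961394207000102938705783283070975573929833854249086256627967249593626526215972169636992002176869812774993251508798127990607935876729061603729900701086757858024707705501352239159790014593564477291660711005610946621304840424298763080873279792573222358433830874042239760530935093734802454253103143925409136402644961368101170183643042464715243908710721475475807834623151838869225923418385875877786167190029344182002259410541536376784430542725149336425354295183940917560732257471714361191451107696586969401105712843213302983205347101257255553492612092176597719556175487427686665879386588773329287550563899553841969631091155335999218740886465668519435079049332280264430766537664763421229188053253750347872158768424848357363433537167624542306188373701170851677980722530483985438576804082232167098307023511924298317596187886443220107946016328401594535436626299872187627105975830694186463838255571955771309925829387799990401912884384816952226041776167098575799560939165175968157688872973411815257973213385490140896669258414316314040158890768166881967201407268042888645743477262175423199070153782313045715797469187231469438791386022816812708786132712442061788661122601024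

/-- The number of the point spanned by a vector (`0` for isotropic vectors). -/
def g2Idx (s : Fin 3 → K9) : Fin 64 := Fin.ofNat 64 (g2IdxN >>> (6 * g2Code s))

/-- A vector, by its six coordinates. -/
def g2S (x0 x1 y0 y1 z0 z1 : ZMod 3) : Fin 3 → K9 := ![⟨x0, x1⟩, ⟨y0, y1⟩, ⟨z0, z1⟩]

theorem g2S_eta (s : Fin 3 → K9) :
    s = g2S (s 0).re (s 0).im (s 1).re (s 1).im (s 2).re (s 2).im := by
  funext i
  fin_cases i <;> rfl

/-- Matrix times vector, written out. -/
def g2Mv (B : Matrix (Fin 3) (Fin 3) K9) (s : Fin 3 → K9) : Fin 3 → K9 :=
  fun i => B i 0 * s 0 + B i 1 * s 1 + B i 2 * s 2

theorem g2Mv_eq (B : Matrix (Fin 3) (Fin 3) K9) (s : Fin 3 → K9) : B *ᵥ s = g2Mv B s := by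
  funext i
  simp [Matrix.mulVec, dotProduct, Fin.sum_univ_three, g2Mv]

/-- A vector spanning the point with a given number. -/
def g2Rep : Fin 64 → Fin 3 → K9 :=
  ![![⟨0, 0⟩, ⟨0, 0⟩, ⟨0, 0⟩],
    ![⟨0, 0⟩, ⟨0, 0⟩, ⟨1, 0⟩],
    ![⟨0, 0⟩, ⟨1, 0⟩, ⟨0, 0⟩],
    ![⟨0, 0⟩, ⟨1, 0⟩, ⟨0, 1⟩],
    ![⟨0, 0⟩, ⟨1, 0⟩, ⟨0, 2⟩],
    ![⟨0, 0⟩, ⟨1, 0⟩, ⟨1, 0⟩],
    ![⟨0, 0⟩, ⟨1, 0⟩, ⟨2, 0⟩],
    ![⟨1, 0⟩, ⟨0, 0⟩, ⟨0, 0⟩],
    ![⟨1, 0⟩, ⟨0, 0⟩, ⟨0, 1⟩],
    ![⟨1, 0⟩, ⟨0, 0⟩, ⟨0, 2⟩],
    ![⟨1, 0⟩, ⟨0, 0⟩, ⟨1, 0⟩],
    ![⟨1, 0⟩, ⟨0, 0⟩, ⟨2, 0⟩],
    ![⟨1, 0⟩, ⟨0, 1⟩, ⟨0, 0⟩],
    ![⟨1, 0⟩, ⟨0, 1⟩, ⟨1, 1⟩],
    ![⟨1, 0⟩, ⟨0, 1⟩, ⟨1, 2⟩],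
    ![⟨1, 0⟩, ⟨0, 1⟩, ⟨2, 1⟩],
    ![⟨1, 0⟩, ⟨0, 1⟩, ⟨2, 2⟩],
    ![⟨1, 0⟩, ⟨0, 2⟩, ⟨0, 0⟩],
    ![⟨1, 0⟩, ⟨0, 2⟩, ⟨1, 1⟩],
    ![⟨1, 0⟩, ⟨0, 2⟩, ⟨1, 2⟩],
    ![⟨1, 0⟩, ⟨0, 2⟩, ⟨2, 1⟩],
    ![⟨1, 0⟩, ⟨0, 2⟩, ⟨2, 2⟩],
    ![⟨1, 0⟩, ⟨1, 0⟩, ⟨0, 0⟩],
    ![⟨1, 0⟩, ⟨1, 0⟩, ⟨1, 1⟩],
    ![⟨1, 0⟩, ⟨1, 0⟩, ⟨1, 2⟩],
    ![⟨1, 0⟩, ⟨1, 0⟩, ⟨2, 1⟩],
    ![⟨1, 0⟩, ⟨1, 0⟩, ⟨2, 2⟩],
    ![⟨1, 0⟩, ⟨1, 1⟩, ⟨0, 1⟩],
    ![⟨1, 0⟩, ⟨1, 1⟩, ⟨0, 2⟩],
    ![⟨1, 0⟩, ⟨1, 1⟩, ⟨1, 0⟩],
    ![⟨1, 0⟩, ⟨1, 1⟩, ⟨1, 1⟩],
    ![⟨1, 0⟩, ⟨1, 1⟩, ⟨1, 2⟩],
    ![⟨1, 0⟩, ⟨1, 1⟩, ⟨2, 0⟩],
    ![⟨1, 0⟩, ⟨1, 1⟩, ⟨2, 1⟩],
    ![⟨1, 0⟩, ⟨1, 1⟩, ⟨2, 2⟩],
    ![⟨1, 0⟩, ⟨1, 2⟩, ⟨0, 1⟩],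
    ![⟨1, 0⟩, ⟨1, 2⟩, ⟨0, 2⟩],
    ![⟨1, 0⟩, ⟨1, 2⟩, ⟨1, 0⟩],
    ![⟨1, 0⟩, ⟨1, 2⟩, ⟨1, 1⟩],
    ![⟨1, 0⟩, ⟨1, 2⟩, ⟨1, 2⟩],
    ![⟨1, 0⟩, ⟨1, 2⟩, ⟨2, 0⟩],
    ![⟨1, 0⟩, ⟨1, 2⟩, ⟨2, 1⟩],
    ![⟨1, 0⟩, ⟨1, 2⟩, ⟨2, 2⟩],
    ![⟨1, 0⟩, ⟨2, 0⟩, ⟨0, 0⟩],
    ![⟨1, 0⟩, ⟨2, 0⟩, ⟨1, 1⟩],
    ![⟨1, 0⟩, ⟨2, 0⟩, ⟨1, 2⟩],
    ![⟨1, 0⟩, ⟨2, 0⟩, ⟨2, 1⟩],
    ![⟨1, 0⟩, ⟨2, 0⟩, ⟨2, 2⟩],
    ![⟨1, 0⟩, ⟨2, 1⟩, ⟨0, 1⟩],
    ![⟨1, 0⟩, ⟨2, 1⟩, ⟨0, 2⟩],
    ![⟨1, 0⟩, ⟨2, 1⟩, ⟨1, 0⟩],
    ![⟨1, 0⟩, ⟨2, 1⟩, ⟨1, 1⟩],
    ![⟨1, 0⟩, ⟨2, 1⟩, ⟨1, 2⟩],
    ![⟨1, 0⟩, ⟨2, 1⟩, ⟨2, 0⟩],
    ![⟨1, 0⟩, ⟨2, 1⟩, ⟨2, 1⟩],
    ![⟨1, 0⟩, ⟨2, 1⟩, ⟨2, 2⟩],
    ![⟨1, 0⟩, ⟨2, 2⟩, ⟨0, 1⟩],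
    ![⟨1, 0⟩, ⟨2, 2⟩, ⟨0, 2⟩],
    ![⟨1, 0⟩, ⟨2, 2⟩, ⟨1, 0⟩],
    ![⟨1, 0⟩, ⟨2, 2⟩, ⟨1, 1⟩],
    ![⟨1, 0⟩, ⟨2, 2⟩, ⟨1, 2⟩],
    ![⟨1, 0⟩, ⟨2, 2⟩, ⟨2, 0⟩],
    ![⟨1, 0⟩, ⟨2, 2⟩, ⟨2, 1⟩],
    ![⟨1, 0⟩, ⟨2, 2⟩, ⟨2, 2⟩]]

/-- The unitary matrix of the commutator of `x_0(1)` and `x_8(1)`. -/
def g2A1 : Matrix (Fin 3) (Fin 3) K9 :=
  !![⟨1, 0⟩, ⟨0, 0⟩, ⟨0, 0⟩; ⟨0, 0⟩, ⟨0, 0⟩, ⟨0, 1⟩; ⟨0, 0⟩, ⟨0, 1⟩, ⟨0, 0⟩]

/-- The unitary matrix of the commutator of `x_4(1)` and `x_7(1)`. -/
def g2A2 : Matrix (Fin 3) (Fin 3) K9 :=
  !![⟨1, 2⟩, ⟨0, 0⟩, ⟨1, 2⟩; ⟨0, 0⟩, ⟨1, 0⟩, ⟨0, 0⟩; ⟨2, 2⟩, ⟨0, 0⟩, ⟨1, 1⟩]

/-- Each coordinate vector as a sum of some of the 63 vectors. -/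
def g2Comb (k : chevG2.Idx) : List (Fin 64) :=
  ([[8, 13, 18],
    [1, 3, 8, 12, 13, 14, 18, 19],
    [2],
    [1, 2],
    [2, 13, 14, 18, 19],
    [1, 2, 8, 10, 13, 14, 18, 19],
    [1, 2, 3, 5, 13, 14, 18, 19],
    [10],
    [5],
    [1, 2, 3, 10, 12, 13, 14, 18, 27, 30],
    [2, 3, 5, 13, 27, 30],
    [1, 2, 5, 8, 10, 12, 14, 19, 23, 27, 30],
    [1, 2, 3, 5, 10, 12, 13, 14, 19, 23, 27],
    [2, 8, 18, 27]] : List (List (Fin 64))).getD (g2Num k) []

/-- The action of the commutator of `x_0(1)` and `x_8(1)` on the numbers: a table as one number. -/
def g2C1N : ℕ :=
  24590705900110604460255223846183030121154895290365896430784272040178077576440805897369545559664098069823201874022528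

/-- The action of the commutator of `x_4(1)` and `x_7(1)` on the numbers: a table as one number. -/
def g2C2N : ℕ :=
  15815716710375214767008941128993404851003396372880956777724290566948992480554687154236809323165689989655563484537344

/-- The action of the commutator of `x_0(1)` and `x_8(1)` on the numbers. -/
def g2C1 (p : Fin 64) : Fin 64 := Fin.ofNat 64 (g2C1N >>> (6 * p.val))

/-- The action of the commutator of `x_4(1)` and `x_7(1)` on the numbers. -/
def g2C2 (p : Fin 64) : Fin 64 := Fin.ofNat 64 (g2C2N >>> (6 * p.val))

/-- The action of a word in the two commutators (`true` for the first) on the numbers. -/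
def g2Wp (w : List Bool) (p : Fin 64) : Fin 64 :=
  w.foldr (fun b q => if b then g2C1 q else g2C2 q) p

/-- Words in the two commutators for `x_r(1)` (`r` long) and `x_2(1) x_r(1)` (`r` short). -/
def g2WordR : Fin 12 → List Bool :=
  ![[false, false, true, true, false, true, true, false, false, true, true, false, true, true],
    [true, true],
    [],
    [false, false, true, true, false, false, true, true, false, false, true, true],
    [false, true, false, false, true, true, false, true, false, true, true, false, false, true, false],
    [false, false, true, true, false],
    [false, true, true, false, true, true, false, true, false, true, true, false, true, true, false],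
    [false, true, false, false, true, true, false, true, false, true, true, false, false, true],
    [false, true, true, false, false, true, false, true, false, false, true, true, false, true],
    [true, false, true, false, false, true, true, true, false, false, true, true, true],
    [true, true, false, true, true, false, true, false, true, true, false, true, true, false, false],
    [false, true, true, true, false, true, false, true, true, false, true, false, true, true, true]]

/-- Words in the two commutators for their conjugates by `x_2(1)`. -/
def g2WordT : Fin 2 → List Bool :=
  ![[true, true, true],
    [false, true, true, false, true, true, false, false]]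

/-- Words in `g2A1` (`true`) and `g2A2` (`false`) carrying the first basis vector to the 252 vectors of norm one. -/
def g2WordsO : List (List Bool) :=
  [[true, true, false, true, true, false, false],
    [false, true, true, false, false],
    [false, false, true, true, false],
    [true, true, false, false, true, true, false],
    [true, false, false, true, true, false],
    [true, true, true, false, false, true, true, false],
    [true, false, true, true, false, false],
    [true, false, true, true, false, false, true, false, false],
    [false, false, true, false, true, true, true, false, false, true, false],
    [false, true, false, true, false, true, false, false],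
    [true, false, false, true, true, false, true, false],
    [false, false, true, true, false, true, false, false],
    [false, true, true, false, false, true, false, false],
    [true, true, false, false, true, true, false, true, false],
    [true, false, true, true, false, false, true, false],
    [true, true, true, false, true, true, false, false],
    [true, false, false, true, true, false, true, false, false],
    [false, false, true, true, false, true, false],
    [true, true, false, true, true, false, false, true, false, false],
    [false, true, true, false, false, true, false],
    [false, true, true, false, false, true, false, true, true, false],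
    [true, true, false, true, false, true, false, true, false, false],
    [true, false, true, false, true, false, true, false, false],
    [true, true, true, false, true, true, false, false, true, false, false],
    [false, true, true, false, true, true, false],
    [true, false, true, false],
    [false, true, true, true, false, false, true, false],
    [true, true, false, true, false, false, true, true, true, false],
    [true, false, true, true, true, false],
    [true, true, true, false, true, true, true, false],
    [false, true, false, false, true, true, true, false],
    [true, true, false, true, true, true, false, false, true, false],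
    [true, true, true, false, true, false],
    [true, false, false, true, true, false, false, true, true, false, true, false],
    [true, false, true, true, false, true, false, true, true, false],
    [true, true, false, true, false, true, false, false],
    [false, true, false, true, false, true, false, false, true, true, false, false],
    [false, false, true, false, false, true, true, false, false],
    [true, false, true, false, true, false, false],
    [true, false, true, false, false, true, true, true, false],
    [true, false, true, true, true, false, false, true, false],
    [false, true, true, false, false, true, true, false, false, true, false],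
    [false, false, true, true, false, false, true, true, false, true, false],
    [false, true, false],
    [true, true, false, true, true, true, false],
    [true, false, true, true, false, false, true, true, false, false, true, false],
    [false, true, false, true, false, false],
    [true, false, false, true, false, false, true, true, false, false],
    [false, false, true, false, true, false, true, false, true, true, false],
    [false, true, true, false, true, false, true, true, false, false, true, false],
    [false, false, true, true, false, true, true, false, false, true, false, false],
    [false, true, true, true, false],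
    [true, true, false, true, false],
    [true, true, true, false, true, false, true, false, false],
    [false, true, true, false, true, false, true, true, false],
    [false, true, false, false, true, true, false, false, true, true, false],
    [true, true, true, false, true, false, false, true, true, true, false],
    [false, false, true, true, false, false, true, true, false, false],
    [true, false, true, true, false, false, true, true, false, true, false],
    [false, true, false, true, false, false, true, false],
    [true, true, false, false, true, false, false, true, false],
    [true, false, true, true, false, true, true, false, false, true, false, false],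
    [true, false, true, false, true, true, false, false, true, true, false],
    [false, false, true, false, false, true, false],
    [true, false, true, false, true, true, false],
    [true, false, false, true, true, false, true, true, false, true, false, false],
    [true, false, false, true, true, true, false, false],
    [false, false, true, true, true, false, true, false, false],
    [true, true, false, false, true, false, true, true, true, false, false],
    [true, false, false, true, false, false],
    [false, true, false, true, true, true, false, false, true, false],
    [true, false, false, true, false, true, true, true, false, false],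
    [true, false, false, true, false, false, true, false],
    [false, true, false, true, true, false],
    [true, true, false, false, true, false, false],
    [false, false, true, true, true, false, false],
    [false, true, true, false, false, true, true, false, true, false],
    [false, true, false, true, true, false, false, true, true, false],
    [true, true, true, false, false, true, false, false],
    [false, false, true, false, true, true, true, false, false],
    [true, false, true, false, true, true, true, false, false, true, false],
    [true, false, true, true, false, true, false],
    [false, true, true, false, true, false],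
    [false, false, true, false, false],
    [false, true, true, false, true, true, false, false, true, false, false],
    [false, false, true, true, false, true, true, false, true, false, false],
    [false, true, true, true, false, true, false, false, true, true, true, false],
    [false, false, true, false, true, true, false, true, true, false, false],
    [true, true, false, true, false, true, true, false],
    [false, true, true, true, false, true, true, false],
    [],
    [false, false, true, true, false, false, true, false, false, true, false],
    [true, false, false, true, true, true, false, true, true, false],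
    [true, false, false, true, false, true, true, false],
    [true, true, true, false, true, true, false, true, false, false],
    [true, false, true, true, false, true, false, false],
    [true, true, true, false, false, true, false, true, true, false],
    [false, false, true, true, false, false, true, false, true, true, true, false],
    [true, false, true, true, false, true, true, true, false, false],
    [true, true, true, false, false, true, true, false, false, true, false],
    [true, false, true, true, true, false, false, true, true, false, false],
    [true, false, true, false, false, true, true, false, false],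
    [false, true, true, false, true, false, true, false, false],
    [false, true, false, false, true, true, false, true, false],
    [false, true, false, false, true, true, false, false],
    [false, false, true, false, true, true, false],
    [true, true, false, false, true, true, true, false, true, true, false],
    [false, true, false, true, true, false, false, true, false],
    [true, true, false, false, true, true, false, false, true, false],
    [false, false, true, false, true, true, false, false, true, true, false],
    [false, true, true, false, true, false, false],
    [true, false, true, false, true, true, false, false, true, false],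
    [true, true, true, false, true, false, false, true, true, false, false],
    [true, false, true, false, false, true, true, false, true, false],
    [true, false, false, true, true, false, false, true, false],
    [false, false, true, true, false, false, true, false],
    [true, true, false, true, false, true, true, false, false, true, false],
    [true, true, false, true, true, false, true, false, false],
    [false, true, true, false, true, true, true, false, false],
    [true, true, false, true, false, false, true, true, false, false],
    [false, true, true, true, false, false, true, true, false, false],
    [false, false, true, true, true, false, true, true, false],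
    [true, true, false, false, true, false, true, true, false],
    [false, false],
    [false, false, true, true, false, true, true, false],
    [false, true, true, false, true, true, false, false],
    [true, true, false, false],
    [false, false, true, false, true, true, true, false],
    [false, true, false, false, true, false, true, true, false],
    [true, false, true, false, false, true, false],
    [true, true, false, true, false, false, true, false],
    [false, false, true, true, true, false, true, false],
    [true, true, false, false, true, false, true, true, true, false],
    [false, true, false, false, true, false],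
    [true, true, true, false, true, false, false, true, false],
    [true, false, true, false, true, false, false, true, true, false, false],
    [false, true, false, true, false, false, true, true, false, false],
    [false, true, true, true, false, true, false, false],
    [true, false, true, false, false, true, false, true, true, false],
    [true, false, false, true, true, false, true, true, false],
    [true, true, true, false, false],
    [false, true, false, true, false, true, false, true, true, false],
    [true, false, true, false, true, false, true, false, true, true, false],
    [false, true, false, true, true, true, false, false],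
    [true, false, false, true, false, true, true, true, false],
    [true, false, false],
    [true, false, true, true, false, true, true, false, false],
    [true, true, false],
    [false, true, true, false, false, true, true, false, false],
    [false, false, true, true, false, false, true, true, false],
    [false],
    [true, true, false, false, true, false, false, true, true, true, false],
    [false, false, true, true, true, false, false, true, false],
    [false, false, true, false, false, true, false, true, true, false],
    [true, false, false, true, false, false, true, false, true, true, false],
    [true, false, true, false, false, true, true, true, false, false],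
    [false, false, true, false, false, true, true, true, false],
    [false, true, true, false, false, true, false, true, true, true, false],
    [true, true, false, false, true, false, false, true, false, true, true, false],
    [true, true, false, false, true, false, true, false, false],
    [true, false, false, true, false, true, false, false],
    [true, false, false, true, false, false, true, true, true, false],
    [false, true, false, false, true, true, true, false, false],
    [true, false, true, true, false, false, true, true, false, false],
    [true, false],
    [true, true, true, false, false, true, false, true, false, false],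
    [false, false, true, false, true, false, false],
    [true, true, false, true, false, false, true, true, true, false, false],
    [false, true, true, true, false, false, true, false, false],
    [true, true, true, false],
    [true, false, false, true, true, false, false, true, true, false],
    [false, false, true, true, false, true, true, false, false, true, true, false],
    [true, true, true, false, false, true, true, true, false],
    [false, true, false, true, false, true, true, true, false],
    [true, false, false, true, false, false, true, true, false, true, false],
    [true, true, true, false, false, true, false],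
    [true, false, false, true, false],
    [false, true, true, false, true, false, true, true, true, false],
    [true, true, false, true, false, true, false, true, true, true, false],
    [true, false, false, true, true, true, false],
    [true, true, true, false, true, false, false],
    [false, true, true, true, false, true, false, true, false, true, true, false],
    [true, false, true, false, true, true, false, false, true, false, false],
    [true, true, true, false, true, true, true, false, false],
    [false, true, false, false, true, true, false, true, true, false],
    [false, true, false, true, true, false, false, true, false, false],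
    [false, false, true, false, false, true, true, false, true, false],
    [true, false, true, false, true, false, true, true, true, false],
    [false, true, true, true, false, false],
    [true, true, false, true, false, false],
    [true, true, false, false, true, true, true, false],
    [false, false, true, false],
    [true, false, true, true, true, false, false],
    [true, false, true, false, true, true, false, true, true, false, false],
    [true, false, true, false, false, true, true, false, true, true, false],
    [true, false, true, false, false],
    [false, true, false, false],
    [true, true, false, true, true, true, false, false],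
    [true, true, false, false, true, false],
    [false, false, true, true, true, false],
    [false, true, false, true, true, false, true, true, false, false],
    [false, false, true, true, false, false, true, false, true, true, false],
    [false, true, true, false, true, false, false, true, true, false, false],
    [false, false, true, false, false, true, true, false, false, true, true, false],
    [true, true, false, true, true, false, false, true, true, false],
    [false, true, true, false],
    [true, true, false, true, true, false],
    [false, true, true, false, false, true, true, false],
    [false, true, true, false, false, true, false, false, true, false],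
    [true, true, false, true, false, true, false, true, true, false],
    [false, true, false, true, true, true, false],
    [true, false, true, false, true, true, true, false],
    [false, true, false, true, false, true, true, false],
    [true, true, false, true, true, false, false, true, false, false, true, false],
    [false, true, true, true, false, true, false],
    [true, true, false, true, false, true, true, true, false],
    [false, true, true, false, false, true, false, true, true, true, false, false],
    [true, true, false, true, false, true, false, true, true, true, false, false, true, false],
    [true, true, true, false, true, true, false, false, true, false, false, true, false],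
    [true, true, true, false, true, false, true, false, true, true, false],
    [true, false, true, true, false],
    [true, false, true, true, false, false, true, true, false],
    [false, true, false, true, false, true, true, true, false, false, true, false],
    [true, false, true, false, true, false, true, true, true, false, false, true, false],
    [true, false, true, false, true, false, true, true, false],
    [true, false, true, true, false, false, true, false, false, true, false],
    [false, true, true, false, true, true, false, true, false, false],
    [true, true, true, false, true, true, false],
    [false, false, true, true, false, true, true, false, false],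
    [false, false, true, true, false, false],
    [true, true, false, false, true, true, false, false],
    [false, true, true, false, true, true, false, false, true, true, false],
    [false, false, true, false, true, false, true, true, true, false],
    [false, true, false, false, true, false, false, true, false, true, true, false],
    [true, true, false, true, false, true, true, false, true, true, true, false, false],
    [false, true, true, true, false, true, true, false, true, false, false],
    [false, false, true, true, false, true, false, true, true, true, false],
    [true, false, true, false, false, true, true, false, false, true, false],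
    [true, false, true, false, true, true, false, true, true, true, false, false],
    [false, true, false, true, true, false, true, true, true, false, false],
    [true, false, false, true, false, false, true, true, true, false, false],
    [false, false, true, false, false, true, true, true, false, false],
    [true, true, false, true, false, false, true, true, false, false, true, false],
    [false, false, true, true, false, true, false, true, false, false],
    [true, false, false, true, true, false, false],
    [true, false, true, true, false, true, true, false, false, true, true, false],
    [true, true, false, false, true, false, false, true, true, true, false, false],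
    [false, false, true, true, true, false, false, true, false, false],
    [true, false, false, true, true, false, true, false, true, true, true, false],
    [false, true, false, false, true, true, false, false, true, false],
    [true, false, false, true, true, false, true, true, false, false],
    [true, true, true, false, false, true, true, false, false]]

/-- Words in `g2A1` (`true`) and `g2A2` (`false`) giving the 24 elements which fix the first basis vector. -/
def g2WordsS : List (List Bool) :=
  [[true],
    [true, true, true],
    [false, true, false, true, true, false, true, true, false, true, false, true],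
    [true, false, true, false, true, true, false, true, true, false, true, false],
    [false, true, false, true, true, false, true, true, false, true, false],
    [false, true, false, true, true, false, true, true, false, true, false, true, true],
    [],
    [false, true, false, true, false, false, true, false, true, true, false, true, false],
    [false, true, false, true, false, true, false, true, true, false, true, false, true],
    [false, true, false, true, true, false, true, false, false, true, false, true, false],
    [true, false, true, false, true, true, false, true, false, true, false, true, false],
    [false, true, false, true, false, true, false, true, true, false, true, false, true, true],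
    [false, true, false, true, true, false, true, false, true, false, true, false, true],
    [false, true, false, true, true, false, true, false, true, false, true, false, true, true],
    [true, false, true, false, true, false, true, false, true, true, false, true, false],
    [true, true],
    [false, true, false, true, true, false, true, false, false, true, false, true, false, true],
    [false, true, false, true, true, false, true, false, true, false, true, false],
    [true, false, true, false, true, false, false, true, false, true, true, false, true, false],
    [false, true, false, true, false, true, false, true, true, false, true, false],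
    [false, true, false, true, false, false, true, false, true, true, false, true, false, true],
    [false, true, false, true, true, false, true, false, false, true, false, true, false, true, true],
    [true, false, true, false, true, true, false, true, false, false, true, false, true, false],
    [false, true, false, true, false, false, true, false, true, true, false, true, false, true, true]]

/-- The action of a word on a vector. -/
def g2Wv (w : List Bool) (s : Fin 3 → K9) : Fin 3 → K9 :=
  w.foldr (fun b u => g2Mv (if b then g2A1 else g2A2) u) s

set_option maxRecDepth 100000 in
theorem g2_zero : ∀ r : Fin 12, chevG2.xMat (ZMod 2) r 0 = 1 := by decide +kernel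

set_option maxRecDepth 100000 in
theorem g2_xmat : ∀ r : Fin 12, chevG2.xMat (ZMod 2) r 1 = g2X r := by decide +kernel

set_option maxRecDepth 100000 in
theorem g2X_sq : ∀ r : Fin 12, g2X r * g2X r = 1 := by
  decide +kernel

set_option maxRecDepth 100000 in
theorem g2X_act : ∀ (r : Fin 12) (p : Fin 64),
    g2Bmv (g2Cols r) (g2Bits p) = g2Bits (g2Pi r p) := by
  decide +kernel

theorem g2_sq (r : Fin 12) :
    chevG2.xMat (ZMod 2) r 1 * chevG2.xMat (ZMod 2) r 1 = 1 := by
  rw [g2_xmat]
  exact g2X_sq r

theorem g2_act (r : Fin 12) (p : Fin 64) :
    (chevG2.xMat (ZMod 2) r 1).mulVec (g2Tbl p) = g2Tbl (g2Pi r p) := by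
  rw [g2_xmat]
  exact (g2Bmv_spec (g2Cols r) (g2Bits p)).trans (congrArg g2Vec (g2X_act r p))

set_option maxRecDepth 100000 in
theorem g2_comb : ∀ k : chevG2.Idx, ((g2Comb k).map g2Tbl).sum = Pi.single k 1 := by
  decide +kernel

set_option maxRecDepth 100000 in
theorem g2Tbl_inj : ∀ p q : Fin 64, g2Tbl p = g2Tbl q → p = q := by
  decide +kernel

set_option maxRecDepth 100000 in
theorem g2_rep : ∀ p : Fin 64, g2Idx (g2Rep p) = p := by
  decide +kernel

set_option maxRecDepth 100000 in
theorem g2C_eq : ∀ p : Fin 64, g2C1 p = g2Pi 0 (g2Pi 8 (g2Pi 0 (g2Pi 8 p))) ∧
    g2C2 p = g2Pi 4 (g2Pi 7 (g2Pi 4 (g2Pi 7 p))) := by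
  decide +kernel

set_option maxRecDepth 100000 in
theorem g2_wordR : ∀ (r : Fin 12) (p : Fin 64),
    g2Wp (g2WordR r) p = if g2Sh r then g2Pi 2 (g2Pi r p) else g2Pi r p := by
  decide +kernel

set_option maxRecDepth 100000 in
theorem g2_wordT : ∀ p : Fin 64,
    g2Wp (g2WordT 0) p = g2Pi 2 (g2C1 (g2Pi 2 p)) ∧ g2Wp (g2WordT 1) p = g2Pi 2 (g2C2 (g2Pi 2 p)) := by
  decide +kernel

set_option maxRecDepth 100000 in
theorem g2_actA1 : ∀ x0 x1 y0 y1 z0 z1 : ZMod 3,
    g2Idx (g2Mv g2A1 (g2S x0 x1 y0 y1 z0 z1)) = g2C1 (g2Idx (g2S x0 x1 y0 y1 z0 z1)) := by
  decide +kernel

set_option maxRecDepth 100000 in
theorem g2_actA2 : ∀ x0 x1 y0 y1 z0 z1 : ZMod 3,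
    g2Idx (g2Mv g2A2 (g2S x0 x1 y0 y1 z0 z1)) = g2C2 (g2Idx (g2S x0 x1 y0 y1 z0 z1)) := by
  decide +kernel

set_option maxRecDepth 100000 in
theorem g2A_unitary : (g2A1.det = 1 ∧ g2A1ᵀ * g2A1.map (fun x => x * x * x) = 1) ∧
    (g2A2.det = 1 ∧ g2A2ᵀ * g2A2.map (fun x => x * x * x) = 1) := by
  decide +kernel

set_option maxRecDepth 100000 in
theorem g2_fix : ∀ x0 x1 y0 y1 z0 z1 : ZMod 3,
    (g2Idx (g2S x0 x1 y0 y1 z0 z1) = g2Idx (g2S 1 0 0 0 0 0) →
      y0 = 0 ∧ y1 = 0 ∧ z0 = 0 ∧ z1 = 0) ∧
    (g2Idx (g2S x0 x1 y0 y1 z0 z1) = g2Idx (g2S 0 0 1 0 0 0) →
      x0 = 0 ∧ x1 = 0 ∧ z0 = 0 ∧ z1 = 0) ∧
    (g2Idx (g2S x0 x1 y0 y1 z0 z1) = g2Idx (g2S 0 0 0 0 1 0) →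
      x0 = 0 ∧ x1 = 0 ∧ y0 = 0 ∧ y1 = 0) ∧
    (g2Idx (g2S x0 x1 y0 y1 z0 z1) = g2Idx (g2S 1 0 1 0 0 0) →
      x0 = y0 ∧ x1 = y1) ∧
    (g2Idx (g2S x0 x1 y0 y1 z0 z1) = g2Idx (g2S 0 0 1 0 1 0) →
      y0 = z0 ∧ y1 = z1) := by
  decide +kernel

theorem g2_cube : ∀ x0 x1 : ZMod 3,
    (⟨x0, x1⟩ : K9) * ⟨x0, x1⟩ * ⟨x0, x1⟩ = 1 → x0 = 1 ∧ x1 = 0 := by
  decide +kernel

theorem g2WordsO_length : g2WordsO.length = 252 := by decide +kernel

theorem g2WordsS_length : g2WordsS.length = 24 := by decide +kernel

set_option maxRecDepth 100000 in
theorem g2_orbit : (g2WordsO.map (fun w => g2Code (g2Wv w (g2S 1 0 0 0 0 0)))).Nodup := by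
  decide +kernel

set_option maxRecDepth 100000 in
theorem g2_stab : ∀ w ∈ g2WordsS, g2Wv w (g2S 1 0 0 0 0 0) = g2S 1 0 0 0 0 0 := by
  decide +kernel

set_option maxRecDepth 100000 in
theorem g2_stab_nodup : (g2WordsS.map (fun w => g2Code (g2Wv w (g2S 0 0 1 0 0 0)))).Nodup := by
  decide +kernel

end Cfsg.Agent.Helper57
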