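import Mathlib
import Cfsg.Agent.Helper57.G3Defs
import Cfsg.Agent.Helper57.G3DataB

/-!
# The Chevalley group `G₂(3)` on 728 points: the check of the element orders (seat helper57)

For every product of a table of `g3TU`, a table of `g3T1` and a table of `g3T2`, the cycle lengths of
the three base points `0`, `5`, `10` have a least common multiple in `{1, 2, 3, 4, 6, 7, 8, 9, 12, 13}`
(`g3_chk_0`, ...); `g3N6` is the table of an element of order 6.
-/

set_option autoImplicit false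

namespace Cfsg.Agent.Helper57

open Cfsg.Lie Matrix

theorem g3_chk_0 : (g3T1_0.all fun N1 => g3TU.all fun Nu => g3T2.all fun N2 =>
    g3Chk 5 10 Nu N1 N2) = true := by decide +kernel

theorem g3_chk_1 : (g3T1_1.all fun N1 => g3TU.all fun Nu => g3T2.all fun N2 =>
    g3Chk 5 10 Nu N1 N2) = true := by decide +kernel

theorem g3_chk_2 : (g3T1_2.all fun N1 => g3TU.all fun Nu => g3T2.all fun N2 =>
    g3Chk 5 10 Nu N1 N2) = true := by decide +kernel

theorem g3_chk_3 : (g3T1_3.all fun N1 => g3TU.all fun Nu => g3T2.all fun N2 =>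
    g3Chk 5 10 Nu N1 N2) = true := by decide +kernel

theorem g3_chk_4 : (g3T1_4.all fun N1 => g3TU.all fun Nu => g3T2.all fun N2 =>
    g3Chk 5 10 Nu N1 N2) = true := by decide +kernel

theorem g3_chk_5 : (g3T1_5.all fun N1 => g3TU.all fun Nu => g3T2.all fun N2 =>
    g3Chk 5 10 Nu N1 N2) = true := by decide +kernel

theorem g3_chk_6 : (g3T1_6.all fun N1 => g3TU.all fun Nu => g3T2.all fun N2 =>
    g3Chk 5 10 Nu N1 N2) = true := by decide +kernel

theorem g3_chk_7 : (g3T1_7.all fun N1 => g3TU.all fun Nu => g3T2.all fun N2 =>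
    g3Chk 5 10 Nu N1 N2) = true := by decide +kernel

theorem g3_chk_8 : (g3T1_8.all fun N1 => g3TU.all fun Nu => g3T2.all fun N2 =>
    g3Chk 5 10 Nu N1 N2) = true := by decide +kernel

theorem g3_chk_9 : (g3T1_9.all fun N1 => g3TU.all fun Nu => g3T2.all fun N2 =>
    g3Chk 5 10 Nu N1 N2) = true := by decide +kernel

theorem g3_chk_10 : (g3T1_10.all fun N1 => g3TU.all fun Nu => g3T2.all fun N2 =>
    g3Chk 5 10 Nu N1 N2) = true := by decide +kernel

theorem g3_chk_11 : (g3T1_11.all fun N1 => g3TU.all fun Nu => g3T2.all fun N2 =>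
    g3Chk 5 10 Nu N1 N2) = true := by decide +kernel

theorem g3_chk_12 : (g3T1_12.all fun N1 => g3TU.all fun Nu => g3T2.all fun N2 =>
    g3Chk 5 10 Nu N1 N2) = true := by decide +kernel

theorem g3_chk_13 : (g3T1_13.all fun N1 => g3TU.all fun Nu => g3T2.all fun N2 =>
    g3Chk 5 10 Nu N1 N2) = true := by decide +kernel

theorem g3_chk_14 : (g3T1_14.all fun N1 => g3TU.all fun Nu => g3T2.all fun N2 =>
    g3Chk 5 10 Nu N1 N2) = true := by decide +kernel

theorem g3_chk_15 : (g3T1_15.all fun N1 => g3TU.all fun Nu => g3T2.all fun N2 =>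
    g3Chk 5 10 Nu N1 N2) = true := by decide +kernel

theorem g3_chk_16 : (g3T1_16.all fun N1 => g3TU.all fun Nu => g3T2.all fun N2 =>
    g3Chk 5 10 Nu N1 N2) = true := by decide +kernel

theorem g3_chk_17 : (g3T1_17.all fun N1 => g3TU.all fun Nu => g3T2.all fun N2 =>
    g3Chk 5 10 Nu N1 N2) = true := by decide +kernel

/-- The table of an element of order 6. -/
def g3N6 : ℕ :=
  0xb5db54827c86a309a6634a1ed60927a2eb65d2c7b3ac1b2e92a21fc7eda3896080f69badcc65997b81e81736ac7fa276113b9ea0a746d499a24696a4a9644b22a8a8a9f876854f1eba71e1af24e8becf3f1bf5b684a01679d995b295885e1cb02bb5ae5172618a803b69a57b4cd59de7448e10856af845d98125f38e7e9e6998523f239750ae676ceb9342334de581492b8f96f32aa386690816b287ebd79ed6955ff7c6641fa94a62525c29a2fdf03fc917e8cb1acbb325b77b0265663d248449012f8edc12052d2c5c02c2d1b4ab42bcae9058630c7c60d7f290a52719a28ac688a1b93c9fa5a95a85d083e8fa0e23a36aab54e0848273ce32a18c15964d91a5b2da005da477498c4026e21d064c2b52a24c8594826dde3e1325811d8c66f899db64a43a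9e9e640761720d1a58a9522056ab89ad51941f833a48662789b2baa2961671d692d4b45de33c5218b9b8301263352e9a2a66f8d656c3e438b8ababe41d642f8c5979e53b4ec4b066510721c071431ad94d915e50355cd28b29170ce4479ea3bd9b679505c8f56ba829eec25c4b922a36351ef6b1ee4f8596514a9825d9c0549ceb30f16958acd4e8e9160cc6bc5050c5361539139d77dde83f4d18eaad7e44d4cdf2a2645afe624f44250a3497203230f217c499b68c8055c48a1e551a820d4fa1d995f54d2590245997798ea90901515dd5b29da5ec961d9d16d8fac18bb117e5e1a2769a117993a38934a9d8925d344eab731fd386c354dca72cdf9f67273952722c52229379181435b9884417822d659c66ada90dd4c465154251a42c35601c53b85535cd98f06a47c349c5e21316858c4a12c484954e504154e134451054480a1b27f3dcde394dc254a79d46702c743d0e8388e64a41b49213825c46c051309f3929bc0a56ab310a8309051a61626566e98d4d9b68e5d5771bb8e025218282f4c42d4432dcb48d6370581a559c7089f41003a298eb69c208a0ab07eb11e46d2809e3ecf93e8f628df633d107082e0c87b500ba2f1472b4890e5181cdb1aa4fe579b43690f63857621a04fda431c605e97c34dcf5b973751b2470ac4465946d318aa2b0c4111f47f04c301886303d5557e291682c375f583a062000eb408422e65048180366a23c9a6f6020649d7a4e7261046a97767d35574465246f77ca92846e050093620b030450e03f0b4470bc9419007234c84225a1d40608c972a8210741e0cc2a1e824194361a0561744f214f000c0236cb220899184771e001010b3014080401707000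

theorem g3_six_word : g3WordsChk [g3TU.getD 0 0, g3T1.getD 0 0, g3T2.getD 5 0] [g3N6] [[0, 1, 2]] = true := by
  decide +kernel

theorem g3_six_mem : g3TU.getD 0 0 ∈ g3TU ∧ g3T1.getD 0 0 ∈ g3T1 ∧ g3T2.getD 5 0 ∈ g3T2 := by
  decide +kernel

theorem g3_six_pow : g3All 728 (fun x =>
    Nat.beq (g3Ent g3N6 (g3Ent g3N6 (g3Ent g3N6 (g3Ent g3N6 (g3Ent g3N6 (g3Ent g3N6 x)))))) x) = true := by
  decide +kernel

theorem g3_six_ne : g3Ent g3N6 (g3Ent g3N6 1) ≠ 1 ∧ g3Ent g3N6 (g3Ent g3N6 (g3Ent g3N6 1)) ≠ 1 := by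
  decide +kernel

end Cfsg.Agent.Helper57
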