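import Mathlib

/-!
# Kernel-friendly 2×2 and 3×3 matrices as structures (seat helper57)

`Q2 R` and `Q3 R` are plain structures with explicit multiplication formulas; `decide +kernel` handles
lists of them well (unlike `Matrix`, whose product unfolds through `Finset.sum`).
-/

set_option autoImplicit false

namespace Cfsg.Agent.Helper57

/-- 2×2 matrices as a structure. -/
structure Q2 (R : Type*) where
  /-- entry (0,0) -/
  a : R
  /-- entry (0,1) -/
  b : R
  /-- entry (1,0) -/
  c : R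
  /-- entry (1,1) -/
  d : R
  deriving DecidableEq

namespace Q2

variable {R : Type*}

/-- product -/
def mul [Mul R] [Add R] (x y : Q2 R) : Q2 R :=
  ⟨x.a * y.a + x.b * y.c, x.a * y.b + x.b * y.d, x.c * y.a + x.d * y.c, x.c * y.b + x.d * y.d⟩

/-- identity -/
def one [Zero R] [One R] : Q2 R := ⟨1, 0, 0, 1⟩

/-- the matrix -/
def toMat (x : Q2 R) : Matrix (Fin 2) (Fin 2) R := !![x.a, x.b; x.c, x.d]

theorem toMat_mul [NonUnitalNonAssocSemiring R] (x y : Q2 R) :
    toMat (mul x y) = toMat x * toMat y := by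
  ext i j
  fin_cases i <;> fin_cases j <;> simp [toMat, mul, Matrix.mul_apply, Fin.sum_univ_two]

theorem toMat_one [NonAssocSemiring R] : toMat (one : Q2 R) = 1 := by
  ext i j
  fin_cases i <;> fin_cases j <;> simp [toMat, one]

theorem toMat_injective : Function.Injective (toMat : Q2 R → Matrix (Fin 2) (Fin 2) R) := by
  intro x y h
  have h00 := congrFun (congrFun h 0) 0
  have h01 := congrFun (congrFun h 0) 1
  have h10 := congrFun (congrFun h 1) 0
  have h11 := congrFun (congrFun h 1) 1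
  cases x
  cases y
  simp [toMat] at h00 h01 h10 h11
  subst h00 h01 h10 h11
  rfl

theorem det_toMat [CommRing R] (x : Q2 R) : (toMat x).det = x.a * x.d - x.b * x.c := by
  simp [toMat, Matrix.det_fin_two]

end Q2

/-- 3×3 matrices as a structure. -/
structure Q3 (R : Type*) where
  /-- entry (0,0) -/
  a00 : R
  /-- entry (0,1) -/
  a01 : R
  /-- entry (0,2) -/
  a02 : R
  /-- entry (1,0) -/
  a10 : R
  /-- entry (1,1) -/
  a11 : R
  /-- entry (1,2) -/
  a12 : R
  /-- entry (2,0) -/
  a20 : R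
  /-- entry (2,1) -/
  a21 : R
  /-- entry (2,2) -/
  a22 : R
  deriving DecidableEq

namespace Q3

variable {R : Type*}

/-- product -/
def mul [Mul R] [Add R] (x y : Q3 R) : Q3 R :=
  ⟨x.a00 * y.a00 + x.a01 * y.a10 + x.a02 * y.a20,
   x.a00 * y.a01 + x.a01 * y.a11 + x.a02 * y.a21,
   x.a00 * y.a02 + x.a01 * y.a12 + x.a02 * y.a22,
   x.a10 * y.a00 + x.a11 * y.a10 + x.a12 * y.a20,
   x.a10 * y.a01 + x.a11 * y.a11 + x.a12 * y.a21,
   x.a10 * y.a02 + x.a11 * y.a12 + x.a12 * y.a22,
   x.a20 * y.a00 + x.a21 * y.a10 + x.a22 * y.a20,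
   x.a20 * y.a01 + x.a21 * y.a11 + x.a22 * y.a21,
   x.a20 * y.a02 + x.a21 * y.a12 + x.a22 * y.a22⟩

/-- identity -/
def one [Zero R] [One R] : Q3 R := ⟨1, 0, 0, 0, 1, 0, 0, 0, 1⟩

/-- the matrix -/
def toMat (x : Q3 R) : Matrix (Fin 3) (Fin 3) R :=
  !![x.a00, x.a01, x.a02; x.a10, x.a11, x.a12; x.a20, x.a21, x.a22]

theorem toMat_mul [NonUnitalNonAssocSemiring R] (x y : Q3 R) :
    toMat (mul x y) = toMat x * toMat y := by
  ext i j
  fin_cases i <;> fin_cases j <;>
    simp [toMat, mul, Matrix.mul_apply, Fin.sum_univ_three, add_assoc]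

theorem toMat_one [NonAssocSemiring R] : toMat (one : Q3 R) = 1 := by
  ext i j
  fin_cases i <;> fin_cases j <;> simp [toMat, one]

theorem toMat_injective : Function.Injective (toMat : Q3 R → Matrix (Fin 3) (Fin 3) R) := by
  intro x y h
  have h00 := congrFun (congrFun h 0) 0
  have h01 := congrFun (congrFun h 0) 1
  have h02 := congrFun (congrFun h 0) 2
  have h10 := congrFun (congrFun h 1) 0
  have h11 := congrFun (congrFun h 1) 1
  have h12 := congrFun (congrFun h 1) 2
  have h20 := congrFun (congrFun h 2) 0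
  have h21 := congrFun (congrFun h 2) 1
  have h22 := congrFun (congrFun h 2) 2
  cases x
  cases y
  simp [toMat] at h00 h01 h02 h10 h11 h12 h20 h21 h22
  subst h00 h01 h02 h10 h11 h12 h20 h21 h22
  rfl

theorem det_toMat [CommRing R] (x : Q3 R) : (toMat x).det =
    x.a00 * x.a11 * x.a22 - x.a00 * x.a12 * x.a21 - x.a01 * x.a10 * x.a22
      + x.a01 * x.a12 * x.a20 + x.a02 * x.a10 * x.a21 - x.a02 * x.a11 * x.a20 := by
  simp [toMat, Matrix.det_fin_three]

end Q3

end Cfsg.Agent.Helper57
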