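import Cfsg.Agent.Helper57.SU33
import Cfsg.Agent.Helper57.ListSub
import Cfsg.Agent.Helper57.QMat

/-!
# A binary icosahedral subgroup of `SL(2, 9)` (seat helper57)

`icoL` lists the 120 elements of a subgroup `2.A5` of `SL(2, K9)` (as `Q2 K9` codes, in reverse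
breadth-first order); the certificates show that the two generators `icoA`, `icoB` generate exactly this list.
-/

set_option autoImplicit false

namespace Cfsg.Agent.Helper57

set_option maxRecDepth 1000000 in
/-- The 120 elements of a copy of `2.A5` inside `SL(2, 9)`. -/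
def icoL : List (Q2 K9) := [
  ⟨⟨2, 0⟩, ⟨0, 2⟩, ⟨0, 1⟩, ⟨1, 0⟩⟩,
  ⟨⟨2, 0⟩, ⟨0, 1⟩, ⟨0, 2⟩, ⟨1, 0⟩⟩,
  ⟨⟨0, 2⟩, ⟨2, 2⟩, ⟨0, 0⟩, ⟨0, 1⟩⟩,
  ⟨⟨1, 2⟩, ⟨2, 1⟩, ⟨0, 1⟩, ⟨2, 1⟩⟩,
  ⟨⟨1, 0⟩, ⟨0, 2⟩, ⟨0, 1⟩, ⟨2, 0⟩⟩,
  ⟨⟨0, 0⟩, ⟨1, 0⟩, ⟨2, 0⟩, ⟨2, 1⟩⟩,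
  ⟨⟨1, 1⟩, ⟨2, 2⟩, ⟨1, 1⟩, ⟨1, 0⟩⟩,
  ⟨⟨1, 0⟩, ⟨1, 1⟩, ⟨2, 2⟩, ⟨1, 1⟩⟩,
  ⟨⟨1, 0⟩, ⟨0, 1⟩, ⟨0, 2⟩, ⟨2, 0⟩⟩,
  ⟨⟨2, 1⟩, ⟨2, 0⟩, ⟨1, 0⟩, ⟨0, 0⟩⟩,
  ⟨⟨0, 1⟩, ⟨1, 1⟩, ⟨0, 0⟩, ⟨0, 2⟩⟩,
  ⟨⟨2, 1⟩, ⟨1, 2⟩, ⟨0, 2⟩, ⟨1, 2⟩⟩,
  ⟨⟨0, 2⟩, ⟨0, 0⟩, ⟨1, 1⟩, ⟨0, 1⟩⟩,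
  ⟨⟨1, 2⟩, ⟨0, 2⟩, ⟨1, 2⟩, ⟨2, 1⟩⟩,
  ⟨⟨0, 1⟩, ⟨0, 0⟩, ⟨0, 2⟩, ⟨0, 2⟩⟩,
  ⟨⟨2, 0⟩, ⟨2, 1⟩, ⟨1, 1⟩, ⟨1, 0⟩⟩,
  ⟨⟨1, 0⟩, ⟨1, 0⟩, ⟨2, 0⟩, ⟨0, 0⟩⟩,
  ⟨⟨0, 0⟩, ⟨2, 0⟩, ⟨1, 0⟩, ⟨1, 2⟩⟩,
  ⟨⟨2, 0⟩, ⟨2, 2⟩, ⟨1, 1⟩, ⟨2, 2⟩⟩,
  ⟨⟨1, 0⟩, ⟨1, 0⟩, ⟨2, 2⟩, ⟨0, 2⟩⟩,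
  ⟨⟨1, 2⟩, ⟨1, 0⟩, ⟨2, 0⟩, ⟨0, 0⟩⟩,
  ⟨⟨2, 2⟩, ⟨1, 1⟩, ⟨2, 2⟩, ⟨2, 0⟩⟩,
  ⟨⟨1, 1⟩, ⟨0, 1⟩, ⟨0, 2⟩, ⟨1, 2⟩⟩,
  ⟨⟨2, 2⟩, ⟨0, 2⟩, ⟨0, 1⟩, ⟨2, 1⟩⟩,
  ⟨⟨2, 0⟩, ⟨2, 0⟩, ⟨1, 0⟩, ⟨0, 0⟩⟩,
  ⟨⟨2, 1⟩, ⟨2, 0⟩, ⟨0, 2⟩, ⟨0, 2⟩⟩,
  ⟨⟨1, 2⟩, ⟨0, 2⟩, ⟨0, 1⟩, ⟨1, 1⟩⟩,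
  ⟨⟨0, 0⟩, ⟨1, 0⟩, ⟨2, 0⟩, ⟨2, 0⟩⟩,
  ⟨⟨0, 2⟩, ⟨0, 2⟩, ⟨2, 0⟩, ⟨2, 1⟩⟩,
  ⟨⟨0, 2⟩, ⟨2, 0⟩, ⟨1, 1⟩, ⟨1, 0⟩⟩,
  ⟨⟨0, 2⟩, ⟨0, 2⟩, ⟨0, 0⟩, ⟨0, 1⟩⟩,
  ⟨⟨0, 1⟩, ⟨0, 0⟩, ⟨2, 2⟩, ⟨0, 2⟩⟩,
  ⟨⟨2, 1⟩, ⟨0, 1⟩, ⟨2, 1⟩, ⟨1, 2⟩⟩,
  ⟨⟨2, 0⟩, ⟨2, 2⟩, ⟨1, 2⟩, ⟨1, 0⟩⟩,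
  ⟨⟨1, 0⟩, ⟨1, 1⟩, ⟨2, 1⟩, ⟨2, 0⟩⟩,
  ⟨⟨0, 2⟩, ⟨0, 0⟩, ⟨0, 1⟩, ⟨0, 1⟩⟩,
  ⟨⟨2, 0⟩, ⟨2, 0⟩, ⟨1, 1⟩, ⟨0, 1⟩⟩,
  ⟨⟨1, 0⟩, ⟨1, 2⟩, ⟨2, 2⟩, ⟨2, 0⟩⟩,
  ⟨⟨0, 1⟩, ⟨0, 1⟩, ⟨0, 0⟩, ⟨0, 2⟩⟩,
  ⟨⟨0, 1⟩, ⟨1, 1⟩, ⟨2, 0⟩, ⟨2, 0⟩⟩,
  ⟨⟨1, 2⟩, ⟨0, 2⟩, ⟨2, 0⟩, ⟨0, 1⟩⟩,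
  ⟨⟨1, 0⟩, ⟨0, 1⟩, ⟨0, 1⟩, ⟨0, 0⟩⟩,
  ⟨⟨2, 0⟩, ⟨0, 0⟩, ⟨0, 2⟩, ⟨2, 0⟩⟩,
  ⟨⟨0, 1⟩, ⟨2, 0⟩, ⟨0, 2⟩, ⟨1, 2⟩⟩,
  ⟨⟨2, 0⟩, ⟨0, 0⟩, ⟨0, 1⟩, ⟨2, 0⟩⟩,
  ⟨⟨1, 2⟩, ⟨1, 0⟩, ⟨0, 1⟩, ⟨0, 1⟩⟩,
  ⟨⟨2, 1⟩, ⟨0, 1⟩, ⟨0, 2⟩, ⟨2, 2⟩⟩,
  ⟨⟨0, 0⟩, ⟨2, 0⟩, ⟨1, 0⟩, ⟨1, 0⟩⟩,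
  ⟨⟨0, 1⟩, ⟨0, 1⟩, ⟨1, 0⟩, ⟨1, 2⟩⟩,
  ⟨⟨0, 0⟩, ⟨0, 1⟩, ⟨0, 1⟩, ⟨2, 0⟩⟩,
  ⟨⟨0, 0⟩, ⟨0, 2⟩, ⟨0, 2⟩, ⟨1, 0⟩⟩,
  ⟨⟨0, 1⟩, ⟨1, 0⟩, ⟨2, 2⟩, ⟨2, 0⟩⟩,
  ⟨⟨1, 0⟩, ⟨0, 0⟩, ⟨0, 2⟩, ⟨1, 0⟩⟩,
  ⟨⟨2, 0⟩, ⟨0, 1⟩, ⟨0, 1⟩, ⟨0, 0⟩⟩,
  ⟨⟨2, 0⟩, ⟨2, 2⟩, ⟨1, 0⟩, ⟨0, 1⟩⟩,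
  ⟨⟨1, 0⟩, ⟨0, 2⟩, ⟨0, 0⟩, ⟨1, 0⟩⟩,
  ⟨⟨1, 1⟩, ⟨0, 1⟩, ⟨1, 1⟩, ⟨2, 2⟩⟩,
  ⟨⟨0, 2⟩, ⟨1, 2⟩, ⟨0, 0⟩, ⟨0, 1⟩⟩,
  ⟨⟨0, 0⟩, ⟨0, 1⟩, ⟨0, 1⟩, ⟨1, 0⟩⟩,
  ⟨⟨0, 2⟩, ⟨2, 2⟩, ⟨1, 0⟩, ⟨1, 0⟩⟩,
  ⟨⟨1, 0⟩, ⟨0, 1⟩, ⟨0, 0⟩, ⟨1, 0⟩⟩,
  ⟨⟨2, 0⟩, ⟨0, 2⟩, ⟨0, 0⟩, ⟨2, 0⟩⟩,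
  ⟨⟨2, 1⟩, ⟨0, 1⟩, ⟨1, 0⟩, ⟨0, 2⟩⟩,
  ⟨⟨2, 0⟩, ⟨0, 2⟩, ⟨0, 2⟩, ⟨0, 0⟩⟩,
  ⟨⟨1, 0⟩, ⟨0, 0⟩, ⟨0, 1⟩, ⟨1, 0⟩⟩,
  ⟨⟨0, 2⟩, ⟨1, 0⟩, ⟨0, 1⟩, ⟨2, 1⟩⟩,
  ⟨⟨0, 0⟩, ⟨0, 2⟩, ⟨0, 2⟩, ⟨2, 0⟩⟩,
  ⟨⟨0, 2⟩, ⟨2, 0⟩, ⟨2, 1⟩, ⟨1, 2⟩⟩,
  ⟨⟨1, 2⟩, ⟨2, 1⟩, ⟨1, 2⟩, ⟨1, 0⟩⟩,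
  ⟨⟨0, 0⟩, ⟨1, 0⟩, ⟨2, 0⟩, ⟨2, 2⟩⟩,
  ⟨⟨2, 1⟩, ⟨1, 2⟩, ⟨1, 0⟩, ⟨0, 1⟩⟩,
  ⟨⟨1, 0⟩, ⟨1, 2⟩, ⟨2, 1⟩, ⟨1, 2⟩⟩,
  ⟨⟨2, 2⟩, ⟨2, 0⟩, ⟨1, 0⟩, ⟨0, 0⟩⟩,
  ⟨⟨0, 2⟩, ⟨1, 2⟩, ⟨1, 0⟩, ⟨1, 2⟩⟩,
  ⟨⟨0, 1⟩, ⟨2, 0⟩, ⟨2, 2⟩, ⟨1, 1⟩⟩,
  ⟨⟨1, 0⟩, ⟨0, 2⟩, ⟨0, 2⟩, ⟨0, 0⟩⟩,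
  ⟨⟨1, 0⟩, ⟨1, 1⟩, ⟨2, 0⟩, ⟨0, 2⟩⟩,
  ⟨⟨2, 0⟩, ⟨0, 1⟩, ⟨0, 0⟩, ⟨2, 0⟩⟩,
  ⟨⟨2, 2⟩, ⟨1, 1⟩, ⟨1, 0⟩, ⟨0, 2⟩⟩,
  ⟨⟨1, 1⟩, ⟨2, 2⟩, ⟨2, 0⟩, ⟨0, 1⟩⟩,
  ⟨⟨2, 2⟩, ⟨0, 2⟩, ⟨2, 2⟩, ⟨1, 1⟩⟩,
  ⟨⟨0, 1⟩, ⟨2, 1⟩, ⟨0, 0⟩, ⟨0, 2⟩⟩,
  ⟨⟨0, 2⟩, ⟨1, 0⟩, ⟨1, 1⟩, ⟨2, 2⟩⟩,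
  ⟨⟨1, 1⟩, ⟨2, 2⟩, ⟨0, 2⟩, ⟨2, 2⟩⟩,
  ⟨⟨0, 2⟩, ⟨0, 0⟩, ⟨2, 1⟩, ⟨0, 1⟩⟩,
  ⟨⟨0, 2⟩, ⟨2, 2⟩, ⟨2, 0⟩, ⟨2, 2⟩⟩,
  ⟨⟨0, 1⟩, ⟨1, 0⟩, ⟨0, 2⟩, ⟨2, 2⟩⟩,
  ⟨⟨2, 2⟩, ⟨2, 0⟩, ⟨2, 2⟩, ⟨0, 2⟩⟩,
  ⟨⟨0, 1⟩, ⟨1, 0⟩, ⟨1, 2⟩, ⟨2, 1⟩⟩,
  ⟨⟨2, 1⟩, ⟨1, 2⟩, ⟨2, 1⟩, ⟨2, 0⟩⟩,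
  ⟨⟨0, 0⟩, ⟨2, 0⟩, ⟨1, 0⟩, ⟨1, 1⟩⟩,
  ⟨⟨1, 2⟩, ⟨2, 1⟩, ⟨2, 0⟩, ⟨0, 2⟩⟩,
  ⟨⟨2, 0⟩, ⟨2, 1⟩, ⟨1, 2⟩, ⟨2, 1⟩⟩,
  ⟨⟨1, 1⟩, ⟨1, 0⟩, ⟨2, 0⟩, ⟨0, 0⟩⟩,
  ⟨⟨0, 1⟩, ⟨2, 1⟩, ⟨2, 0⟩, ⟨2, 1⟩⟩,
  ⟨⟨2, 0⟩, ⟨2, 1⟩, ⟨1, 0⟩, ⟨0, 2⟩⟩,
  ⟨⟨2, 1⟩, ⟨2, 0⟩, ⟨2, 1⟩, ⟨0, 1⟩⟩,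
  ⟨⟨0, 2⟩, ⟨1, 0⟩, ⟨2, 1⟩, ⟨2, 0⟩⟩,
  ⟨⟨2, 2⟩, ⟨2, 0⟩, ⟨0, 1⟩, ⟨0, 1⟩⟩,
  ⟨⟨2, 2⟩, ⟨1, 1⟩, ⟨0, 1⟩, ⟨1, 1⟩⟩,
  ⟨⟨0, 1⟩, ⟨0, 0⟩, ⟨1, 2⟩, ⟨0, 2⟩⟩,
  ⟨⟨0, 1⟩, ⟨1, 1⟩, ⟨1, 0⟩, ⟨1, 1⟩⟩,
  ⟨⟨0, 2⟩, ⟨2, 0⟩, ⟨0, 1⟩, ⟨1, 1⟩⟩,
  ⟨⟨1, 1⟩, ⟨1, 0⟩, ⟨1, 1⟩, ⟨0, 1⟩⟩,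
  ⟨⟨1, 1⟩, ⟨0, 1⟩, ⟨2, 0⟩, ⟨0, 2⟩⟩,
  ⟨⟨1, 0⟩, ⟨1, 0⟩, ⟨2, 1⟩, ⟨0, 1⟩⟩,
  ⟨⟨0, 1⟩, ⟨2, 1⟩, ⟨1, 0⟩, ⟨1, 0⟩⟩,
  ⟨⟨1, 0⟩, ⟨1, 2⟩, ⟨2, 0⟩, ⟨0, 1⟩⟩,
  ⟨⟨1, 2⟩, ⟨1, 0⟩, ⟨1, 2⟩, ⟨0, 2⟩⟩,
  ⟨⟨0, 1⟩, ⟨2, 0⟩, ⟨1, 2⟩, ⟨1, 0⟩⟩,
  ⟨⟨1, 1⟩, ⟨1, 0⟩, ⟨0, 2⟩, ⟨0, 2⟩⟩,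
  ⟨⟨0, 2⟩, ⟨0, 2⟩, ⟨1, 0⟩, ⟨1, 1⟩⟩,
  ⟨⟨0, 0⟩, ⟨0, 2⟩, ⟨0, 2⟩, ⟨0, 0⟩⟩,
  ⟨⟨2, 2⟩, ⟨0, 2⟩, ⟨1, 0⟩, ⟨0, 1⟩⟩,
  ⟨⟨2, 0⟩, ⟨2, 0⟩, ⟨1, 2⟩, ⟨0, 2⟩⟩,
  ⟨⟨0, 2⟩, ⟨1, 2⟩, ⟨2, 0⟩, ⟨2, 0⟩⟩,
  ⟨⟨2, 0⟩, ⟨0, 0⟩, ⟨0, 0⟩, ⟨2, 0⟩⟩,
  ⟨⟨0, 1⟩, ⟨0, 1⟩, ⟨2, 0⟩, ⟨2, 2⟩⟩,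
  ⟨⟨0, 0⟩, ⟨0, 1⟩, ⟨0, 1⟩, ⟨0, 0⟩⟩,
  ⟨⟨1, 0⟩, ⟨0, 0⟩, ⟨0, 0⟩, ⟨1, 0⟩⟩]

/-- first generator (order 4) -/
def icoA : Q2 K9 := ⟨⟨0, 0⟩, ⟨0, 1⟩, ⟨0, 1⟩, ⟨0, 0⟩⟩
/-- second generator (order 3) -/
def icoB : Q2 K9 := ⟨⟨0, 1⟩, ⟨0, 1⟩, ⟨2, 0⟩, ⟨2, 2⟩⟩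
/-- inverse of the first generator -/
def icoAi : Q2 K9 := ⟨⟨0, 0⟩, ⟨0, 2⟩, ⟨0, 2⟩, ⟨0, 0⟩⟩
/-- inverse of the second generator -/
def icoBi : Q2 K9 := ⟨⟨2, 2⟩, ⟨0, 2⟩, ⟨1, 0⟩, ⟨0, 1⟩⟩
/-- the code of `-1` -/
def icoN : Q2 K9 := ⟨⟨2, 0⟩, ⟨0, 0⟩, ⟨0, 0⟩, ⟨2, 0⟩⟩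

set_option maxRecDepth 1000000 in
theorem icoL_length : icoL.length = 120 := by decide +kernel

set_option maxRecDepth 1000000 in
theorem icoL_one : (Q2.one : Q2 K9) ∈ icoL := by decide +kernel

set_option maxRecDepth 1000000 in
theorem icoL_neg_one : icoN ∈ icoL := by decide +kernel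

set_option maxRecDepth 1000000 in
theorem icoL_nodup : icoL.Nodup := by decide +kernel

set_option maxRecDepth 1000000 in
theorem icoL_mulA : ∀ x ∈ icoL, Q2.mul x icoA ∈ icoL := by decide +kernel

set_option maxRecDepth 1000000 in
theorem icoL_mulB : ∀ x ∈ icoL, Q2.mul x icoB ∈ icoL := by decide +kernel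

set_option maxRecDepth 1000000 in
theorem icoL_bfs : bfsCheckC Q2.mul (Q2.one : Q2 K9) [icoAi, icoBi] icoL = true := by decide +kernel

theorem icoA_det : icoA.a * icoA.d - icoA.b * icoA.c = 1 := by decide +kernel
theorem icoB_det : icoB.a * icoB.d - icoB.b * icoB.c = 1 := by decide +kernel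
theorem icoAi_mul : Q2.mul icoAi icoA = Q2.one := by decide +kernel
theorem icoBi_mul : Q2.mul icoBi icoB = Q2.one := by decide +kernel

end Cfsg.Agent.Helper57
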