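import Mathlib
import Cfsg.Agent.Helper57.IcoData
import Cfsg.Agent.Helper57.J2Line

/-!
# The reflections of four canonical roots on the 315 canonical roots (seat helper57)

`icoGenK g` (`g : Fin 4`) are the places of four canonical roots; the reflection in the root number
`icoGenK g` carries the canonical root `k` to the unit `icoUnit (icoLu g k)` times the canonical root
`lnPiT g k`: this is `ico_link`, checked by evaluation in the integer model.
-/

set_option autoImplicit false

namespace Cfsg.Agent.Helper57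

/-- The 120 units, packed. -/
def icoUnitN : ℕ :=
  0x84a1284a1283a1284a1284a0e84a1283a0e84a12841f18c6128422f8c6128c6107c6127be107c6127c631842128be31842127c5ef842128bdef842128c6108be127be108be12841f17be128422f7be1284a1283a1283a1283a1284a0e83a1283a0e83a127c61084a318be1084a31842127c6318420e7c631849f184231839f18423184a2f8423183a2f84231842128be318420e8be317c61083a318be1083a3184231849f1841ef849f184a108c5f183a108c5f18c612841f17be12841f18c60e841f17be0e841f184a107bdf183a107bdf184231839f1841ef839f184210852108c5f184a107bdf184a108c62f84a107be2f84a107c6128c6108be128c6107c60e8c6108be0e8c61084a317c61083a317c610849ef7c610839ef7c6108421484210852108421083210842108420c8421084a318be1083a318be10849ef8be10839ef8be107c6127be108be127be107c60e7be108be0e7be108c5f183a107bdf183a108c62f83a107be2f83a1084210832108423184a2f841ef84a2f84a108c62f83a108c62f8c6128422f7be128422f8c60e8422f7be0e8422f84a107be2f83a107be2f8423183a2f841ef83a2f7c610849ef8be10849ef842127c5ef8420e7c5ef849f1841ef839f1841ef84a2f841ef83a2f841ef842128bdef8420e8bdef7c610839ef8be10839ef84a1284a0e83a1284a0e84a0e84a0e83a0e84a0e841f18c60e8422f8c60e8c6107c60e7be107c60e7c6318420e8be318420e7c5ef8420e8bdef8420e8c6108be0e7be108be0e841f17be0e8422f7be0e84a1283a0e83a1283a0e84a0e83a0e83a0e83a0e842108420c8421084214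

/-- The 120 units. -/
def icoUnit (i : Fin 120) : IcoQ := icoQAt icoUnitN i.val

theorem ico_unit_ok : ∀ i : Fin 120, (icoUnit i).InL ∧ (icoUnit i).A = 16 ∧ (icoUnit i).B = 0 := by
  decide +kernel

/-- The places of four canonical roots whose reflections generate the group. -/
def icoGenK : Fin 4 → Fin 315 := ![231, 286, 238, 260]

/-- The units of the images of the canonical roots under the four reflections, packed. -/
def icoLuN : ℕ :=
  0xad412809d48064993f4d1894f277db504dfe210083655c002e1360d5b652a47e7647829a3f8deefde88bdf802831c1c08196f9ebc76b8100ab6971be701e3d0d7c8ce10840f7158e4efaf700c813a800d38776311f400e4d4d29d811846cc9eedfe8e2dad1f902a7f1a87b161d806e0a01258b087478cc17c8d95d845eba83be9512f8eee818552a4c0f004b7cf7bb9e742a6e1da902b2116b26e6726dbd57c9015caf08504c37cd9dac399d12e454aa375731cc00575b684cfbc3b881014d381de0ebaa54e038d634b06c9360a0001b29d55970900144f400555acbc013a6502c68c64002140c476c638b9df25d12d6d150188847b0012e2295b564df6c0a2642d2290d3f6642b74852d18f077017ecbc7b7b080010800000000000000000000000000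0000000000000000000000000000000000000000000000000000000000000000000000000000000000000000000000000000001000000000000000000000000004a0000000000000000000000000000000000000cc000000000000000000000000000000000000000000000000400000000000000000000000002000000000000000000000000000000000000000000000000000000000000000000000002300000000000000000000000000000000000005e000000000000000000000000000000000000000000000000000000000000000000000000000000000000000000000000000000000000000000000000000000000000000000000000000000000001b8000028612430858337440018373923d543860af27481e3c1011e24084a871416bb70400007b061000ac620004e001f4cf02321c5d825750002f870efd16775b396d0200a0479bb610a92b1a6a592e6a7839fce415bbac89532238df00700000614015a57c01b4e26c91c204b80cc26e0a2c6c0170a7ee8e03880f717ded87ec0101a1238e5bb98c39b625501301a7219d196c5fc1acf082034095c0050820564021bc3f8501c0ed94be2071e1602d1bc580c9351738021004a00025025c12844820262f2d026cdf03a09ee2e47719b344c08620889144383660a788d0cb56b5811978363e8707a71c5b00038032d9c65405ab66c0002f7ef513a0fb0102384642bc8f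1c3858e9121d421732285b10b7b563e64d05adb41ebd793f82da4ab4a8a72aae74c0700f121ef510632f8aacb67cc6874d9fad7c380cf9f3e01103191a036c834a2c16cee368b3d761f1661ace53d9af149034aed14ab90760b9894b03ca68a333cb2b01d656c1b335ecb4e1bd72152c5d9c6171a77a703b3cf245de46cd42afbd88f52c00b092517cd1f34c6bc40390bbf600595d2eee7b784ed51885700a600fd7ad5fa5001ba700a9474809dc27176b865c114058ae3d6ccecc14e65dd34e4003c9260698fa74babbf1f2891908bc2713d797bf2ed312141100f6d1a0000b809a00056d34af706326a9329794f0034004fe076e4fa5bd104c833120bd16a13136fa083204adcb4bd12a1d6ea109b5a939bc113080c9fa00e9d2cd5a03b951b9bd0e33f50b3c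

/-- The units of the images of the canonical roots under the four reflections. -/
def icoLu (g : Fin 4) (k : Fin 315) : Fin 120 := Fin.ofNat 120 (j2Ent icoLuN (315 * g.val + k.val))

/-- The Hermitian product in the model (four times the product). -/
def IcoV.qipm (v r : IcoV) : IcoQ := v.x.mul r.x.conj + v.y.mul r.y.conj + v.z.mul r.z.conj

/-- The reflection in `r` carries `v` to `u` times `w`; `c` is the Hermitian product of `v` and `r`. -/
def icoLinkAt (r v w : IcoV) (u c : IcoQ) : Prop :=
  (32 : ℤ) • v.x - c.mul r.x = (8 : ℤ) • u.mul w.x ∧ (32 : ℤ) • v.y - c.mul r.y = (8 : ℤ) • u.mul w.y ∧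
    (32 : ℤ) • v.z - c.mul r.z = (8 : ℤ) • u.mul w.z

instance icoLinkAt.dec (r v w : IcoV) (u c : IcoQ) : Decidable (icoLinkAt r v w u c) := by
  unfold icoLinkAt
  infer_instance

/-- The link statement for a generator and a canonical root. -/
def icoLinkOK (g : Fin 4) (k : Fin 315) : Prop :=
  icoLinkAt (icoRho (icoGenK g)) (icoRho k) (icoRho (lnPiT g k)) (icoUnit (icoLu g k))
    ((icoRho k).qipm (icoRho (icoGenK g)))

instance icoLinkOK.dec (g : Fin 4) (k : Fin 315) : Decidable (icoLinkOK g k) := by
  unfold icoLinkOK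
  infer_instance

theorem ico_link_0_0 : ∀ k : Fin 315, 0 ≤ k.val → k.val < 53 → icoLinkOK 0 k := by decide +kernel

theorem ico_link_0_1 : ∀ k : Fin 315, 53 ≤ k.val → k.val < 106 → icoLinkOK 0 k := by decide +kernel

theorem ico_link_0_2 : ∀ k : Fin 315, 106 ≤ k.val → k.val < 159 → icoLinkOK 0 k := by decide +kernel

theorem ico_link_0_3 : ∀ k : Fin 315, 159 ≤ k.val → k.val < 212 → icoLinkOK 0 k := by decide +kernel

theorem ico_link_0_4 : ∀ k : Fin 315, 212 ≤ k.val → k.val < 265 → icoLinkOK 0 k := by decide +kernel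

theorem ico_link_0_5 : ∀ k : Fin 315, 265 ≤ k.val → k.val < 315 → icoLinkOK 0 k := by decide +kernel

theorem ico_link_1_0 : ∀ k : Fin 315, 0 ≤ k.val → k.val < 53 → icoLinkOK 1 k := by decide +kernel

theorem ico_link_1_1 : ∀ k : Fin 315, 53 ≤ k.val → k.val < 106 → icoLinkOK 1 k := by decide +kernel

theorem ico_link_1_2 : ∀ k : Fin 315, 106 ≤ k.val → k.val < 159 → icoLinkOK 1 k := by decide +kernel

theorem ico_link_1_3 : ∀ k : Fin 315, 159 ≤ k.val → k.val < 212 → icoLinkOK 1 k := by decide +kernel

theorem ico_link_1_4 : ∀ k : Fin 315, 212 ≤ k.val → k.val < 265 → icoLinkOK 1 k := by decide +kernel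

theorem ico_link_1_5 : ∀ k : Fin 315, 265 ≤ k.val → k.val < 315 → icoLinkOK 1 k := by decide +kernel

theorem ico_link_2_0 : ∀ k : Fin 315, 0 ≤ k.val → k.val < 53 → icoLinkOK 2 k := by decide +kernel

theorem ico_link_2_1 : ∀ k : Fin 315, 53 ≤ k.val → k.val < 106 → icoLinkOK 2 k := by decide +kernel

theorem ico_link_2_2 : ∀ k : Fin 315, 106 ≤ k.val → k.val < 159 → icoLinkOK 2 k := by decide +kernel

theorem ico_link_2_3 : ∀ k : Fin 315, 159 ≤ k.val → k.val < 212 → icoLinkOK 2 k := by decide +kernel

theorem ico_link_2_4 : ∀ k : Fin 315, 212 ≤ k.val → k.val < 265 → icoLinkOK 2 k := by decide +kernel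

theorem ico_link_2_5 : ∀ k : Fin 315, 265 ≤ k.val → k.val < 315 → icoLinkOK 2 k := by decide +kernel

theorem ico_link_3_0 : ∀ k : Fin 315, 0 ≤ k.val → k.val < 53 → icoLinkOK 3 k := by decide +kernel

theorem ico_link_3_1 : ∀ k : Fin 315, 53 ≤ k.val → k.val < 106 → icoLinkOK 3 k := by decide +kernel

theorem ico_link_3_2 : ∀ k : Fin 315, 106 ≤ k.val → k.val < 159 → icoLinkOK 3 k := by decide +kernel

theorem ico_link_3_3 : ∀ k : Fin 315, 159 ≤ k.val → k.val < 212 → icoLinkOK 3 k := by decide +kernel

theorem ico_link_3_4 : ∀ k : Fin 315, 212 ≤ k.val → k.val < 265 → icoLinkOK 3 k := by decide +kernel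

theorem ico_link_3_5 : ∀ k : Fin 315, 265 ≤ k.val → k.val < 315 → icoLinkOK 3 k := by decide +kernel

theorem ico_link : ∀ (g : Fin 4) (k : Fin 315), icoLinkOK g k := by
  intro g k
  have h := k.isLt
  fin_cases g
  · by_cases h0 : k.val < 53
    · exact ico_link_0_0 k (by omega) (by omega)
    by_cases h1 : k.val < 106
    · exact ico_link_0_1 k (by omega) (by omega)
    by_cases h2 : k.val < 159
    · exact ico_link_0_2 k (by omega) (by omega)
    by_cases h3 : k.val < 212
    · exact ico_link_0_3 k (by omega) (by omega)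
    by_cases h4 : k.val < 265
    · exact ico_link_0_4 k (by omega) (by omega)
    exact ico_link_0_5 k (by omega) (by omega)
  · by_cases h0 : k.val < 53
    · exact ico_link_1_0 k (by omega) (by omega)
    by_cases h1 : k.val < 106
    · exact ico_link_1_1 k (by omega) (by omega)
    by_cases h2 : k.val < 159
    · exact ico_link_1_2 k (by omega) (by omega)
    by_cases h3 : k.val < 212
    · exact ico_link_1_3 k (by omega) (by omega)
    by_cases h4 : k.val < 265
    · exact ico_link_1_4 k (by omega) (by omega)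
    exact ico_link_1_5 k (by omega) (by omega)
  · by_cases h0 : k.val < 53
    · exact ico_link_2_0 k (by omega) (by omega)
    by_cases h1 : k.val < 106
    · exact ico_link_2_1 k (by omega) (by omega)
    by_cases h2 : k.val < 159
    · exact ico_link_2_2 k (by omega) (by omega)
    by_cases h3 : k.val < 212
    · exact ico_link_2_3 k (by omega) (by omega)
    by_cases h4 : k.val < 265
    · exact ico_link_2_4 k (by omega) (by omega)
    exact ico_link_2_5 k (by omega) (by omega)
  · by_cases h0 : k.val < 53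
    · exact ico_link_3_0 k (by omega) (by omega)
    by_cases h1 : k.val < 106
    · exact ico_link_3_1 k (by omega) (by omega)
    by_cases h2 : k.val < 159
    · exact ico_link_3_2 k (by omega) (by omega)
    by_cases h3 : k.val < 212
    · exact ico_link_3_3 k (by omega) (by omega)
    by_cases h4 : k.val < 265
    · exact ico_link_3_4 k (by omega) (by omega)
    exact ico_link_3_5 k (by omega) (by omega)

theorem ico_special : icoRho 156 = ⟨⟨8, 0, 0, 0, 0, 0, 0, 0⟩, 0, 0⟩ ∧ icoRho 157 = ⟨0, ⟨8, 0, 0, 0, 0, 0, 0, 0⟩, 0⟩ ∧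
    icoRho 172 = ⟨0, 0, ⟨8, 0, 0, 0, 0, 0, 0, 0⟩⟩ ∧ icoRho 238 = ⟨0, icoHm, icoHm⟩ ∧
    icoRho 160 = ⟨icoHm, icoHm, 0⟩ ∧ (icoRho 1).x = ⟨4, 0, 0, 0, 0, 0, 0, 0⟩ ∧
    (icoRho 1).y = ⟨0, 0, 4, 0, 0, 0, 0, 0⟩ ∧ (icoRho 9).x = ⟨4, 0, 0, 0, 0, 0, 0, 0⟩ ∧
    (icoRho 9).y = ⟨0, 0, 0, 0, 4, 0, 0, 0⟩ := by
  decide +kernel

theorem ln_pi_noncomm : lnPiT 0 (lnPiT 1 0) ≠ lnPiT 1 (lnPiT 0 0) := by decide +kernel

end Cfsg.Agent.Helper57
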