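import Mathlib
import Cfsg.Agent.Helper57.IcoJ2c

/-!
# The image of a reflection in the Hall-Janko group on 100 points (seat helper57)

`ln_iso_gen`: an isomorphism of `Cfsg.Agent.S0423.K0` with the group generated by the `lnPi g` which
carries the generator `j2G0 j` to `lnSg j`.  `ico_refl_image`: for every reflection `f` of the icosian Leech
lattice there is an isomorphism of `Cfsg.Spor.J2` with `K0` which carries the class of `f` to the element
`pcWord j2G0 (lnWpi 0)` of `K0` (an involution of `Fin 100`, equal to `lnInv 231`).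
-/

set_option autoImplicit false

namespace Cfsg.Agent.Helper57

open Cfsg.Spor Quaternion Cfsg.Agent.S0423

theorem ln_iso_gen : ∃ e : ↥K0 ≃* ↥(Subgroup.closure (Set.range lnPi)), ∀ j : Fin 2,
    ((e ⟨j2G0 j, Subgroup.subset_closure ⟨j, rfl⟩⟩ : ↥(Subgroup.closure (Set.range lnPi))) :
      Equiv.Perm (Fin 315)) = lnSg j := by
  show ∃ e : ↥(Subgroup.closure (Set.range j2G0)) ≃* ↥(Subgroup.closure (Set.range lnPi)), ∀ j : Fin 2,
    ((e ⟨j2G0 j, Subgroup.subset_closure ⟨j, rfl⟩⟩ : ↥(Subgroup.closure (Set.range lnPi))) :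
      Equiv.Perm (Fin 315)) = lnSg j
  obtain ⟨θ, hθ⟩ := ln_hom
  have hs : IsSimpleGroup ↥(Subgroup.closure (Set.range j2G0)) := simple_K0
  have hinj : Function.Injective θ := by
    rw [← MonoidHom.ker_eq_bot_iff]
    rcases (MonoidHom.normal_ker θ).eq_bot_or_eq_top with h | h
    · exact h
    · exfalso
      have h0 : (⟨j2G0 0, Subgroup.subset_closure ⟨0, rfl⟩⟩ : ↥(Subgroup.closure (Set.range j2G0))) ∈
          θ.ker := by
        rw [h]; exact Subgroup.mem_top _
      rw [MonoidHom.mem_ker, hθ] at h0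
      exact ln_sg_ne h0
  have hrange : θ.range = Subgroup.closure (Set.range lnPi) := by
    rw [ln_closure_eq]
    apply le_antisymm
    · rintro _ ⟨⟨x, hx⟩, rfl⟩
      have key : ∀ (y : Equiv.Perm (Fin 100)) (hy : y ∈ Subgroup.closure (Set.range j2G0)),
          θ ⟨y, hy⟩ ∈ Subgroup.closure (Set.range lnSg) := by
        intro y hy
        induction hy using Subgroup.closure_induction with
        | mem y hy =>
          obtain ⟨j, rfl⟩ := hy
          rw [hθ]
          exact Subgroup.subset_closure ⟨j, rfl⟩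
        | one => exact (map_one θ) ▸ Subgroup.one_mem _
        | mul a b ha hb iha ihb =>
          have : (⟨a * b, Subgroup.mul_mem _ ha hb⟩ : ↥(Subgroup.closure (Set.range j2G0))) =
              ⟨a, ha⟩ * ⟨b, hb⟩ := rfl
          rw [this, map_mul]
          exact Subgroup.mul_mem _ iha ihb
        | inv a ha iha =>
          have : (⟨a⁻¹, Subgroup.inv_mem _ ha⟩ : ↥(Subgroup.closure (Set.range j2G0))) =
              (⟨a, ha⟩ : ↥(Subgroup.closure (Set.range j2G0)))⁻¹ := rfl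
          rw [this, map_inv]
          exact Subgroup.inv_mem _ iha
      exact key x hx
    · rw [Subgroup.closure_le]
      rintro _ ⟨j, rfl⟩
      exact ⟨⟨j2G0 j, Subgroup.subset_closure ⟨j, rfl⟩⟩, hθ j⟩
  exact ⟨(MonoidHom.ofInjective hinj).trans (MulEquiv.subgroupCongr hrange), fun j => hθ j⟩

theorem lnPi_eq_word (g : Fin 4) : lnPi g = pcWord lnSg (lnWpi g) := by
  ext k
  rw [pcWord_apply lnSg lnSgT lnSgI lnSg_apply ln_sg_b, ln_wpi, lnPi_apply]

theorem ln_iso_word (e : ↥K0 ≃* ↥(Subgroup.closure (Set.range lnPi)))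
    (he : ∀ j : Fin 2, ((e ⟨j2G0 j, Subgroup.subset_closure ⟨j, rfl⟩⟩ :
      ↥(Subgroup.closure (Set.range lnPi))) : Equiv.Perm (Fin 315)) = lnSg j)
    (w : List (Fin 2 × Bool)) :
    ((e ⟨pcWord j2G0 w, pcWord_mem j2G0 w⟩ : ↥(Subgroup.closure (Set.range lnPi))) :
      Equiv.Perm (Fin 315)) = pcWord lnSg w := by
  induction w with
  | nil =>
    have : (⟨pcWord j2G0 [], pcWord_mem j2G0 []⟩ : ↥K0) = 1 := rfl
    rw [this, map_one]
    rfl
  | cons a w ih =>
    obtain ⟨j, b⟩ := a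
    cases b
    · have : (⟨pcWord j2G0 ((j, false) :: w), pcWord_mem j2G0 _⟩ : ↥K0) =
          ⟨j2G0 j, Subgroup.subset_closure ⟨j, rfl⟩⟩ * ⟨pcWord j2G0 w, pcWord_mem j2G0 w⟩ := rfl
      rw [this, map_mul]
      show (e _ : Equiv.Perm (Fin 315)) * (e _ : Equiv.Perm (Fin 315)) = lnSg j * pcWord lnSg w
      rw [he, ih]
    · have : (⟨pcWord j2G0 ((j, true) :: w), pcWord_mem j2G0 _⟩ : ↥K0) =
          (⟨j2G0 j, Subgroup.subset_closure ⟨j, rfl⟩⟩ : ↥K0)⁻¹ * ⟨pcWord j2G0 w, pcWord_mem j2G0 w⟩ := rfl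
      rw [this, map_mul, map_inv]
      show (e _ : Equiv.Perm (Fin 315))⁻¹ * (e _ : Equiv.Perm (Fin 315)) = (lnSg j)⁻¹ * pcWord lnSg w
      rw [he, ih]

/-- The isomorphism of `Cfsg.Spor.J2` with the group generated by the `lnPi g`. -/
noncomputable def icoE0 : J2 ≃* ↥(Subgroup.closure (Set.range lnPi)) :=
  (QuotientGroup.quotientMulEquivOfEq ico_center).trans
    ((QuotientGroup.quotientKerEquivRange icoTheta).trans (MulEquiv.subgroupCongr icoTheta_range))

theorem icoE0_mk (g : ↥twoJ2) :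
    ((icoE0 (QuotientGroup.mk g) : ↥(Subgroup.closure (Set.range lnPi))) : Equiv.Perm (Fin 315)) =
      icoTheta g := rfl

theorem ico_refl_image (f : Equiv.Perm icoLeech) (hf : IsIcoReflection f) (hfm : f ∈ twoJ2) :
    ∃ e : J2 ≃* ↥K0, e (QuotientGroup.mk ⟨f, hfm⟩) =
      ⟨pcWord j2G0 (lnWpi 0), pcWord_mem j2G0 (lnWpi 0)⟩ := by
  obtain ⟨k, rfl⟩ := ico_refl_eq_S f hf
  obtain ⟨h, hh⟩ := icoTheta_trans k 231
  have hc := icoS_conj k 231 h hh
  obtain ⟨e1, he1⟩ := ln_iso_gen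
  refine ⟨(MulAut.conj (QuotientGroup.mk h : J2)).trans (icoE0.trans e1.symm), ?_⟩
  show e1.symm (icoE0 ((QuotientGroup.mk h : J2) * QuotientGroup.mk ⟨icoS k, hfm⟩ *
    (QuotientGroup.mk h : J2)⁻¹)) = _
  rw [MulEquiv.symm_apply_eq]
  apply Subtype.ext
  rw [ln_iso_word e1 he1, ← lnPi_eq_word]
  have h2 : (QuotientGroup.mk h : J2) * QuotientGroup.mk ⟨icoS k, hfm⟩ * (QuotientGroup.mk h : J2)⁻¹ =
      QuotientGroup.mk (⟨icoS 231, icoS_mem 231⟩ : ↥twoJ2) := by
    rw [← QuotientGroup.mk_mul, ← QuotientGroup.mk_inv, ← QuotientGroup.mk_mul]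
    congr 1
    exact Subtype.ext hc
  rw [h2, icoE0_mk]
  exact icoTheta_gen 0

end Cfsg.Agent.Helper57
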