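import Mathlib
import Cfsg.Agent.Helper86.J2FGrp
import Cfsg.Agent.Helper57.J2Line

/-!
# The centraliser of a central involution of the Hall-Janko group on 100 points: data (seat helper57)

`jcBlk` labels the five orbits of length 16 of the normal subgroup `Q` of order 32 of the centraliser
`jfCC` of the involution `jfA 0` (seat helper86) by `0, ..., 4`, and the twenty fixed points of the
involution by `5`; `jcPT j` is the permutation of the five orbits induced by the generator `jfGC j`.
-/

set_option autoImplicit false

namespace Cfsg.Agent.Helper57

open Cfsg.Agent.Helper86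

/-- The labels of the points, packed. -/
def jcBlkN : ℕ :=
  0x614281040808000102840604281021018402141850208080041000506101020a1010406081830a1428104000000a0020406080850014182080c203060818404040040a04080040400202101850a102800a002830400080

/-- The label of a point: the orbit of `Q` of length 16 containing it, or `5`. -/
def jcBlk (x : Fin 100) : Fin 6 := Fin.ofNat 6 (j2Ent jcBlkN x.val)

/-- The permutations of the five orbits induced by the eight generators, as tables. -/
def jcPT : Fin 8 → Fin 5 → Fin 5 :=
  ![![0, 1, 2, 3, 4], ![0, 1, 2, 3, 4], ![0, 1, 2, 3, 4], ![0, 1, 2, 3, 4], ![0, 1, 2, 3, 4], ![0, 3, 4, 1, 2], ![0, 2, 1, 4, 3], ![1, 0, 2, 4, 3]]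

/-- A point in each orbit. -/
def jcRep : Fin 5 → Fin 100 := ![0, 1, 3, 4, 10]

theorem jc_t1 : ∀ (j : Fin 8) (x : Fin 100) (s : Fin 5), (jcBlk x).val = s.val →
    (jcBlk (jfGcT j x)).val = (jcPT j s).val := by decide +kernel

theorem jc_t2 : ∀ (j : Fin 8) (s : Fin 5), jcPT j (jcPT j s) = s := by decide

theorem jc_t3 : ∀ s : Fin 5, (jcBlk (jcRep s)).val = s.val := by decide +kernel

theorem jc_t4 : ∀ j : Fin 8, j.val < 5 → ∀ s : Fin 5, jcPT j s = s := by decide

theorem jc_t5 : ∀ (l : Fin 7) (e : Fin 128), l.val < 5 → e.val < 32 → (jfMul l e).val < 32 := by
  decide +kernel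

theorem jc_t6 : ∀ e e' : Fin 128, e.val < 32 → e'.val < 32 →
    (∀ b : Fin 4, jfNfT e (jfBase b) = jfNfT e' (jfBase b)) → e = e' := by decide +kernel

theorem jc_t7 : ∀ a b : Fin 128, a.val < 32 → b.val < 32 →
    (∀ β : Fin 4, jfNfT a (jfNfT b (jfBase β)) = jfNfT b (jfNfT a (jfBase β))) ∨
    (∀ β : Fin 4, jfNfT a (jfNfT b (jfBase β)) = jfAT 0 (jfNfT b (jfNfT a (jfBase β)))) := by
  decide +kernel

theorem jc_t8 : ∀ a : Fin 128, a.val < 32 →
    (∀ β : Fin 4, jfNfT a (jfNfT a (jfBase β)) = jfBase β) ∨
    (∀ β : Fin 4, jfNfT a (jfNfT a (jfBase β)) = jfAT 0 (jfBase β)) := by decide +kernel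

theorem jc_t9 : ∀ a : Fin 128, a.val < 32 →
    (∀ l : Fin 7, l.val < 5 → ∀ β : Fin 4,
      jfNfT a (jfAT l (jfBase β)) = jfAT l (jfNfT a (jfBase β))) → a.val < 2 := by decide +kernel

theorem jc_t10 : jfAT 1 (jfAT 2 0) ≠ jfAT 2 (jfAT 1 0) := by decide +kernel

/-- The permutations of the five orbits induced by the eight generators. -/
def jcP (j : Fin 8) : Equiv.Perm (Fin 5) := ⟨jcPT j, jcPT j, jc_t2 j, jc_t2 j⟩

theorem jcP_apply (j : Fin 8) (s : Fin 5) : jcP j s = jcPT j s := rfl

theorem jc_sign : ∀ j : Fin 8, Equiv.Perm.sign (jcP j) = 1 := by decide

/-- Words in the induced permutations, one for each even permutation of the five orbits. -/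
def jcWL : List (List (Fin 8 × Bool)) :=
  [[],
   [(5, false)],
   [(6, false)],
   [(7, false)],
   [(5, false), (7, false)],
   [(6, false), (5, false)],
   [(6, false), (7, false)],
   [(7, false), (5, false)],
   [(7, false), (6, false)],
   [(5, false), (7, false), (5, false)],
   [(5, false), (7, false), (6, false)],
   [(6, false), (5, false), (7, false)],
   [(6, false), (7, false), (5, false)],
   [(6, false), (7, false), (6, false)],
   [(7, false), (5, false), (7, false)],
   [(7, false), (6, false), (5, false)],
   [(5, false), (7, false), (5, false), (7, false)],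
   [(5, false), (7, false), (6, false), (5, false)],
   [(6, false), (5, false), (7, false), (5, false)],
   [(6, false), (5, false), (7, false), (6, false)],
   [(6, false), (7, false), (5, false), (7, false)],
   [(6, false), (7, false), (6, false), (5, false)],
   [(7, false), (5, false), (7, false), (5, false)],
   [(7, false), (5, false), (7, false), (6, false)],
   [(7, false), (6, false), (5, false), (7, false)],
   [(5, false), (7, false), (5, false), (7, false), (5, false)],
   [(5, false), (7, false), (5, false), (7, false), (6, false)],
   [(5, false), (7, false), (6, false), (5, false), (7, false)],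
   [(6, false), (5, false), (7, false), (5, false), (7, false)],
   [(6, false), (5, false), (7, false), (6, false), (5, false)],
   [(6, false), (7, false), (5, false), (7, false), (5, false)],
   [(6, false), (7, false), (5, false), (7, false), (6, false)],
   [(6, false), (7, false), (6, false), (5, false), (7, false)],
   [(7, false), (5, false), (7, false), (6, false), (5, false)],
   [(7, false), (6, false), (5, false), (7, false), (5, false)],
   [(7, false), (6, false), (5, false), (7, false), (6, false)],
   [(5, false), (7, false), (5, false), (7, false), (6, false), (5, false)],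
   [(5, false), (7, false), (6, false), (5, false), (7, false), (5, false)],
   [(5, false), (7, false), (6, false), (5, false), (7, false), (6, false)],
   [(6, false), (5, false), (7, false), (5, false), (7, false), (5, false)],
   [(6, false), (5, false), (7, false), (5, false), (7, false), (6, false)],
   [(6, false), (5, false), (7, false), (6, false), (5, false), (7, false)],
   [(6, false), (7, false), (5, false), (7, false), (6, false), (5, false)],
   [(6, false), (7, false), (6, false), (5, false), (7, false), (5, false)],
   [(6, false), (7, false), (6, false), (5, false), (7, false), (6, false)],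
   [(7, false), (5, false), (7, false), (6, false), (5, false), (7, false)],
   [(7, false), (6, false), (5, false), (7, false), (5, false), (7, false)],
   [(7, false), (6, false), (5, false), (7, false), (6, false), (5, false)],
   [(5, false), (7, false), (6, false), (5, false), (7, false), (5, false), (7, false)],
   [(5, false), (7, false), (6, false), (5, false), (7, false), (6, false), (5, false)],
   [(6, false), (5, false), (7, false), (5, false), (7, false), (6, false), (5, false)],
   [(6, false), (5, false), (7, false), (6, false), (5, false), (7, false), (5, false)],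
   [(6, false), (5, false), (7, false), (6, false), (5, false), (7, false), (6, false)],
   [(6, false), (7, false), (5, false), (7, false), (6, false), (5, false), (7, false)],
   [(6, false), (7, false), (6, false), (5, false), (7, false), (6, false), (5, false)],
   [(7, false), (5, false), (7, false), (6, false), (5, false), (7, false), (5, false)],
   [(7, false), (5, false), (7, false), (6, false), (5, false), (7, false), (6, false)],
   [(7, false), (6, false), (5, false), (7, false), (5, false), (7, false), (5, false)],
   [(7, false), (6, false), (5, false), (7, false), (5, false), (7, false), (6, false)],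
   [(7, false), (6, false), (5, false), (7, false), (6, false), (5, false), (7, false)]]

set_option maxRecDepth 100000 in
theorem jc_words : ∀ σ : Equiv.Perm (Fin 5), Equiv.Perm.sign σ = 1 →
    ∃ w ∈ jcWL, pcWord jcP w = σ := by decide

/-- A word conjugating the involution `pcWord j2G0 (lnWpi 0)` to `jfA 0`. -/
def jcWc : List (Fin 2 × Bool) := [(0, true), (1, true), (0, false), (1, true), (1, true), (0, false)]

theorem jc_t11 : ∀ x : Fin 100, pcWordAct j2GT0 j2GI0 jcWc (pcWordAct j2GT0 j2GI0 (lnWpi 0) x) =
    jfAT 0 (pcWordAct j2GT0 j2GI0 jcWc x) := by decide +kernel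

end Cfsg.Agent.Helper57
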