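import Mathlib

/-!
# CALL LM (helper21, row S4067), piece EA (helper57, double)
-/

set_option autoImplicit false

namespace Cfsg.Agent.Helper57.LM

/-- commutators lie in the commutator subgroup -/
theorem lmea_comm_mem {G : Type*} [Group G] (g h : G) : g * h * g⁻¹ * h⁻¹ ∈ commutator G := by
  rw [commutator_def]
  exact Subgroup.commutator_mem_commutator (Subgroup.mem_top g) (Subgroup.mem_top h)

/-- in a group with central commutators of exponent `p`, `p`-th powers are central -/
theorem lmea_pow_central {G : Type*} [Group G] [Finite G]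
    (hZ : commutator G ≤ Subgroup.center G) (g : G) :
    g ^ Nat.card (commutator G) ∈ Subgroup.center G := by
  rw [Subgroup.mem_center_iff]
  intro h
  have hw : g * h * g⁻¹ * h⁻¹ ∈ commutator G := lmea_comm_mem g h
  have hwZ : g * h * g⁻¹ * h⁻¹ ∈ Subgroup.center G := hZ hw
  have hwp : (g * h * g⁻¹ * h⁻¹) ^ Nat.card (commutator G) = 1 := by
    have h1 : (⟨g * h * g⁻¹ * h⁻¹, hw⟩ : commutator G) ^ Nat.card (commutator G) = 1 :=
      pow_card_eq_one'
    have h2 := congrArg Subtype.val h1
    rw [Subgroup.coe_pow, Subgroup.coe_one] at h2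
    exact h2
  have key : ∀ n : ℕ, g ^ n * h = (g * h * g⁻¹ * h⁻¹) ^ n * h * g ^ n := by
    intro n
    induction n with
    | zero => simp
    | succ n ih =>
      have hc : ∀ y : G, y * (g * h * g⁻¹ * h⁻¹) ^ n = (g * h * g⁻¹ * h⁻¹) ^ n * y := by
        intro y
        exact Subgroup.mem_center_iff.mp (Subgroup.pow_mem _ hwZ n) y
      calc g ^ (n + 1) * h = g * (g ^ n * h) := by rw [pow_succ', mul_assoc]
        _ = g * ((g * h * g⁻¹ * h⁻¹) ^ n * h * g ^ n) := by rw [ih]
        _ = (g * (g * h * g⁻¹ * h⁻¹) ^ n) * h * g ^ n := by simp only [mul_assoc]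
        _ = ((g * h * g⁻¹ * h⁻¹) ^ n * g) * h * g ^ n := by rw [hc g]
        _ = (g * h * g⁻¹ * h⁻¹) ^ n * ((g * h * g⁻¹ * h⁻¹) * h * g) * g ^ n := by group
        _ = (g * h * g⁻¹ * h⁻¹) ^ (n + 1) * h * g ^ (n + 1) := by
          rw [pow_succ, pow_succ']
          simp only [mul_assoc]
  have h3 := key (Nat.card (commutator G))
  rw [hwp, one_mul] at h3
  exact h3.symm

/-- EA: a central element of order `p` outside `G'` gives a central automorphism. -/
theorem lm_ea {G : Type*} [Group G] [Finite G] (hZ : commutator G ≤ Subgroup.center G)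
    (hc : Nat.card (commutator G) = (Nat.card G).minFac) (hna : ¬ IsMulCommutative G)
    (c : G) (hcZ : c ∈ Subgroup.center G) (hco : orderOf c = (Nat.card G).minFac)
    (hcG : c ∉ commutator G) :
    ∃ σ : MulAut G, ∃ M : Subgroup G, M.index = (Nat.card G).minFac ∧ Subgroup.center G ≤ M ∧
      ∀ g : G, g ∉ M → ¬ IsConj g (σ g) := by
  classical
  have hG1 : Nat.card G ≠ 1 := by
    intro h
    apply hna
    haveI : Subsingleton G := (Nat.card_eq_one_iff_unique.mp h).1
    exact ⟨⟨fun a b => Subsingleton.elim _ _⟩⟩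
  have hpp : (Nat.card G).minFac.Prime := Nat.minFac_prime hG1
  haveI : Fact (Nat.card G).minFac.Prime := ⟨hpp⟩
  -- the quotient by the centre is a nontrivial `p`-group
  have hQ : IsPGroup (Nat.card G).minFac (G ⧸ Subgroup.center G) := by
    intro q
    refine ⟨1, ?_⟩
    induction q using QuotientGroup.induction_on with
    | H g =>
      rw [pow_one, ← QuotientGroup.mk_pow, QuotientGroup.eq_one_iff, ← hc]
      exact lmea_pow_central hZ g
  have hZtop : Subgroup.center G ≠ ⊤ := by
    intro h
    apply hna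
    refine ⟨⟨fun a b => ?_⟩⟩
    have ha : a ∈ Subgroup.center G := by rw [h]; exact Subgroup.mem_top a
    exact (Subgroup.mem_center_iff.mp ha b).symm
  obtain ⟨k, hk⟩ := IsPGroup.iff_card.mp hQ
  have hk0 : k ≠ 0 := by
    intro h0
    rw [h0, pow_zero, ← Subgroup.index_eq_card, Subgroup.index_eq_one] at hk
    exact hZtop hk
  obtain ⟨K, hK⟩ := Sylow.exists_subgroup_card_pow_prime (G := G ⧸ Subgroup.center G)
    (Nat.card G).minFac (n := k - 1) (by rw [hk]; exact pow_dvd_pow _ (Nat.sub_le k 1))
  have hKi : K.index = (Nat.card G).minFac := by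
    have h1 := Subgroup.card_mul_index K
    rw [hK, hk] at h1
    have h2 : (Nat.card G).minFac ^ k = (Nat.card G).minFac ^ (k - 1) * (Nat.card G).minFac := by
      rw [← pow_succ]
      congr 1
      omega
    rw [h2] at h1
    exact Nat.eq_of_mul_eq_mul_left (pow_pos hpp.pos _) h1
  -- the subgroup `M`
  have hMi : (K.comap (QuotientGroup.mk' (Subgroup.center G))).index = (Nat.card G).minFac := by
    rw [Subgroup.index_comap_of_surjective K (QuotientGroup.mk'_surjective _), hKi]
  have hZM : Subgroup.center G ≤ K.comap (QuotientGroup.mk' (Subgroup.center G)) := by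
    intro z hz
    rw [Subgroup.mem_comap]
    have h1 : QuotientGroup.mk' (Subgroup.center G) z = 1 := (QuotientGroup.eq_one_iff z).mpr hz
    rw [h1]
    exact K.one_mem
  haveI hMn : (K.comap (QuotientGroup.mk' (Subgroup.center G))).Normal := by
    refine ⟨fun m hm g => ?_⟩
    have h1 : g * m * g⁻¹ = (g * m * g⁻¹ * m⁻¹) * m := by group
    rw [h1]
    exact Subgroup.mul_mem _ (hZM (hZ (lmea_comm_mem g m))) hm
  -- the homomorphism `φ : G → ⟨c⟩` with kernel `M`
  have h1 : Nat.card (G ⧸ K.comap (QuotientGroup.mk' (Subgroup.center G))) =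
      (Nat.card G).minFac := by
    rw [← Subgroup.index_eq_card, hMi]
  have h2 : Nat.card (Subgroup.zpowers c) = (Nat.card G).minFac := by
    rw [Nat.card_zpowers, hco]
  let e : (G ⧸ K.comap (QuotientGroup.mk' (Subgroup.center G))) ≃* Subgroup.zpowers c :=
    mulEquivOfPrimeCardEq h1 h2
  let φ : G →* G := (Subgroup.zpowers c).subtype.comp
    (e.toMonoidHom.comp (QuotientGroup.mk' (K.comap (QuotientGroup.mk' (Subgroup.center G)))))
  have hφc : ∀ g : G, φ g ∈ Subgroup.zpowers c := fun g =>
    (e (QuotientGroup.mk' (K.comap (QuotientGroup.mk' (Subgroup.center G))) g)).2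
  have hcle : Subgroup.zpowers c ≤ Subgroup.center G := Subgroup.zpowers_le.mpr hcZ
  have hφZ : ∀ g : G, φ g ∈ Subgroup.center G := fun g => hcle (hφc g)
  have hφ1 : ∀ g : G, φ g = 1 ↔ g ∈ K.comap (QuotientGroup.mk' (Subgroup.center G)) := by
    intro g
    have h3 : φ g = ((e (QuotientGroup.mk' (K.comap (QuotientGroup.mk' (Subgroup.center G))) g) :
        Subgroup.zpowers c) : G) := rfl
    rw [h3, OneMemClass.coe_eq_one, MulEquiv.map_eq_one_iff]
    exact QuotientGroup.eq_one_iff g
  let σ₀ : G →* G :=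
    { toFun := fun g => g * φ g
      map_one' := by rw [map_one, mul_one]
      map_mul' := fun g h => by
        have h4 : h * φ g = φ g * h := Subgroup.mem_center_iff.mp (hφZ g) h
        calc g * h * φ (g * h) = g * (h * φ g) * φ h := by rw [map_mul]; simp only [mul_assoc]
          _ = g * (φ g * h) * φ h := by rw [h4]
          _ = g * φ g * (h * φ h) := by simp only [mul_assoc] }
  have hσ₀ : ∀ g : G, σ₀ g = g * φ g := fun g => rfl
  have hinj : Function.Injective σ₀ := by
    rw [injective_iff_map_eq_one]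
    intro g hg
    rw [hσ₀] at hg
    have h5 : g = (φ g)⁻¹ := eq_inv_of_mul_eq_one_left hg
    have h6 : g ∈ K.comap (QuotientGroup.mk' (Subgroup.center G)) := by
      rw [h5]
      exact hZM (hcle (Subgroup.inv_mem _ (hφc g)))
    have h7 : φ g = 1 := (hφ1 g).mpr h6
    rw [h7, mul_one] at hg
    exact hg
  refine ⟨MulEquiv.ofBijective σ₀ (Finite.injective_iff_bijective.mp hinj),
    K.comap (QuotientGroup.mk' (Subgroup.center G)), hMi, hZM, ?_⟩
  intro g hg hconj
  rw [isConj_iff] at hconj
  obtain ⟨h, hh⟩ := hconj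
  have h8 : (MulEquiv.ofBijective σ₀ (Finite.injective_iff_bijective.mp hinj)) g = g * φ g := rfl
  rw [h8] at hh
  have h9 : φ g = g⁻¹ * h * g⁻¹⁻¹ * h⁻¹ := by
    have h10 : φ g = g⁻¹ * (h * g * h⁻¹) := by rw [hh]; group
    rw [h10]
    group
  have h11 : φ g ∈ commutator G := by
    rw [h9]
    exact lmea_comm_mem g⁻¹ h
  have h12 : φ g ≠ 1 := fun h0 => hg ((hφ1 g).mp h0)
  have h13 : orderOf (φ g) = (Nat.card G).minFac := by
    have h14 : orderOf (φ g) ∣ (Nat.card G).minFac := by
      rw [← hco]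
      exact orderOf_dvd_of_mem_zpowers (hφc g)
    rcases (Nat.dvd_prime hpp).mp h14 with h15 | h15
    · exact absurd (orderOf_eq_one_iff.mp h15) h12
    · exact h15
  have h16 : Subgroup.zpowers (φ g) = Subgroup.zpowers c := by
    apply Subgroup.eq_of_le_of_card_ge (Subgroup.zpowers_le.mpr (hφc g))
    rw [Nat.card_zpowers, Nat.card_zpowers, h13, hco]
  apply hcG
  have h17 : c ∈ Subgroup.zpowers (φ g) := by
    rw [h16]
    exact Subgroup.mem_zpowers c
  exact (Subgroup.zpowers_le.mpr h11) h17

end Cfsg.Agent.Helper57.LM
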