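import Mathlib
import Cfsg.Agent.Helper16.NGDefs
import Cfsg.Agent.Helper57.NGKEYA

/-!
# CALL S4404 (helper16), piece K2 (helper57): `M` is generated by the fixed points of the hyperplanes
-/

set_option autoImplicit false

namespace Cfsg.Agent.Helper57.NGK2

open Cfsg.Agent.Helper16.NG

variable {S : Type*} [Group S]

/-- K2: `M` is generated by the fixed points of the hyperplanes of `A` -/
theorem ng_gen [Finite S] (M : Subgroup S) [M.Normal] (hcomm : ∀ a ∈ M, ∀ b ∈ M, a * b = b * a)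
    (hsq : ∀ a ∈ M, a ^ 2 = 1) (r : ℕ) [Fact r.Prime] (hr2 : r ≠ 2) (A : Subgroup S)
    (hA : Cfsg.IsElementaryAbelian r A) (hA3 : Nat.card A = r ^ 3) :
    M ≤ ⨆ B : {B : Subgroup S // B ≤ A ∧ Nat.card B = r ^ 2},
      M ⊓ Subgroup.centralizer ((B : Subgroup S) : Set S) := by
  classical
  have : Fintype S := Fintype.ofFinite S
  have : Fintype {B : Subgroup S // B ≤ A ∧ Nat.card B = r ^ 2} := Fintype.ofFinite _
  obtain ⟨hodd, heven⟩ := Cfsg.Agent.Helper57.NGKEYA.ng_hyp_parity r hr2 A hA hA3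
  let _ : CommGroup ↥M := { (inferInstance : Group ↥M) with
    mul_comm := fun a b => Subtype.ext (hcomm a.1 a.2 b.1 b.2) }
  have hsq' : ∀ x : ↥M, x ^ 2 = 1 := fun x => Subtype.ext (by simpa using hsq x.1 x.2)
  obtain ⟨c, hc⟩ : ∃ c : S → ↥M →* ↥M, ∀ (g : S) (m : ↥M), ((c g m : ↥M) : S) = g * m * g⁻¹ :=
    ⟨fun g => (MulAut.conjNormal g : ↥M ≃* ↥M).toMonoidHom, fun g m => rfl⟩
  have hcmul : ∀ (g h : S) (m : ↥M), c g (c h m) = c (g * h) m := by
    intro g h m
    apply Subtype.ext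
    rw [hc, hc, hc]
    group
  have hc1 : ∀ m : ↥M, c 1 m = m := by
    intro m
    apply Subtype.ext
    rw [hc]
    group
  intro m hm
  obtain ⟨E, hEdef⟩ : ∃ E : {B : Subgroup S // B ≤ A ∧ Nat.card B = r ^ 2} → ↥M,
      ∀ B, E B = ∏ a : ↥A, if (a : S) ∈ B.1 then c (a : S) ⟨m, hm⟩ else 1 := ⟨_, fun B => rfl⟩
  have hE : ∀ B : {B : Subgroup S // B ≤ A ∧ Nat.card B = r ^ 2},
      ((E B : ↥M) : S) ∈ M ⊓ Subgroup.centralizer ((B.1 : Subgroup S) : Set S) := by
    intro B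
    refine Subgroup.mem_inf.mpr ⟨(E B).2, ?_⟩
    rw [Subgroup.mem_centralizer_iff]
    intro b₀ hb₀
    have hb₀A : b₀ ∈ A := B.2.1 hb₀
    have h1 : c b₀ (E B) = E B := by
      rw [hEdef, map_prod]
      rw [← Equiv.prod_comp (Equiv.mulLeft (⟨b₀, hb₀A⟩ : ↥A))
        (fun a : ↥A => if (a : S) ∈ B.1 then c (a : S) ⟨m, hm⟩ else 1)]
      apply Finset.prod_congr rfl
      intro a _
      have hval : (((Equiv.mulLeft (⟨b₀, hb₀A⟩ : ↥A)) a : ↥A) : S) = b₀ * (a : S) := rfl
      by_cases ha : (a : S) ∈ B.1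
      · have hmem : (((Equiv.mulLeft (⟨b₀, hb₀A⟩ : ↥A)) a : ↥A) : S) ∈ B.1 := by
          rw [hval]
          exact B.1.mul_mem hb₀ ha
        rw [if_pos ha]
        rw [if_pos hmem, hcmul, hval]
      · have hmem : ¬ (((Equiv.mulLeft (⟨b₀, hb₀A⟩ : ↥A)) a : ↥A) : S) ∈ B.1 := by
          rw [hval]
          exact fun h => ha ((Subgroup.mul_mem_cancel_left B.1 hb₀).mp h)
        rw [if_neg ha, map_one]
        rw [if_neg hmem]
    have h2 := congrArg Subtype.val h1
    rw [hc] at h2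
    calc b₀ * (E B : S) = b₀ * (E B : S) * b₀⁻¹ * b₀ := by group
      _ = (E B : S) * b₀ := by rw [h2]
  have hprod : ∏ B : {B : Subgroup S // B ≤ A ∧ Nat.card B = r ^ 2}, E B = ⟨m, hm⟩ := by
    have h0 : ∏ B : {B : Subgroup S // B ≤ A ∧ Nat.card B = r ^ 2}, E B =
        ∏ B : {B : Subgroup S // B ≤ A ∧ Nat.card B = r ^ 2},
          ∏ a : ↥A, if (a : S) ∈ B.1 then c (a : S) ⟨m, hm⟩ else 1 :=
      Finset.prod_congr rfl (fun B _ => hEdef B)
    rw [h0, Finset.prod_comm]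
    have hinner : ∀ a : ↥A, ∏ B : {B : Subgroup S // B ≤ A ∧ Nat.card B = r ^ 2},
        (if (a : S) ∈ B.1 then c (a : S) ⟨m, hm⟩ else (1 : ↥M))
        = (c (a : S) ⟨m, hm⟩) ^ (Finset.univ.filter
            (fun B : {B : Subgroup S // B ≤ A ∧ Nat.card B = r ^ 2} => (a : S) ∈ B.1)).card := by
      intro a
      rw [Finset.prod_ite, Finset.prod_const, Finset.prod_const_one, mul_one]
    rw [Finset.prod_congr rfl (fun a _ => hinner a)]
    rw [Fintype.prod_eq_single (1 : ↥A)]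
    · have hall : Finset.univ.filter
          (fun B : {B : Subgroup S // B ≤ A ∧ Nat.card B = r ^ 2} => ((1 : ↥A) : S) ∈ B.1) =
          Finset.univ := by
        apply Finset.filter_true_of_mem
        intro B _
        exact B.1.one_mem
      rw [hall, Finset.card_univ, ← Nat.card_eq_fintype_card]
      obtain ⟨k, hk⟩ := hodd
      rw [hk, pow_succ, pow_mul, hsq', one_pow, one_mul]
      exact hc1 _
    · intro a ha
      have ha1 : (a : S) ≠ 1 := fun h => ha (Subtype.ext h)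
      have hev := heven a a.2 ha1
      have hcard : (Finset.univ.filter
          (fun B : {B : Subgroup S // B ≤ A ∧ Nat.card B = r ^ 2} => (a : S) ∈ B.1)).card
          = Nat.card {B : Subgroup S // B ≤ A ∧ Nat.card B = r ^ 2 ∧ (a : S) ∈ B} := by
        rw [← Fintype.card_subtype, ← Nat.card_eq_fintype_card]
        apply Nat.card_congr
        exact (Equiv.subtypeSubtypeEquivSubtypeInter
          (fun B : Subgroup S => B ≤ A ∧ Nat.card B = r ^ 2) (fun B => (a : S) ∈ B)).trans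
          (Equiv.subtypeEquivRight (fun B => and_assoc))
      rw [hcard]
      obtain ⟨k, hk⟩ := hev
      rw [hk, ← two_mul, pow_mul, hsq', one_pow]
  have hmem : ∏ B : {B : Subgroup S // B ≤ A ∧ Nat.card B = r ^ 2}, E B ∈
      (⨆ B : {B : Subgroup S // B ≤ A ∧ Nat.card B = r ^ 2},
        M ⊓ Subgroup.centralizer ((B.1 : Subgroup S) : Set S)).subgroupOf M := by
    apply Subgroup.prod_mem
    intro B _
    rw [Subgroup.mem_subgroupOf]
    exact Subgroup.mem_iSup_of_mem B (hE B)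
  rw [hprod, Subgroup.mem_subgroupOf] at hmem
  exact hmem

end Cfsg.Agent.Helper57.NGK2
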