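import Cfsg.Agent.Helper57.Psl211

/-!
# The two classes of `A₅` in `PSL(2, 11)`: data and certificates (seat helper57)

* `g211K`: the 120 pairs of a second copy `K` of `2.A₅` in `A₅ × SL(2, 11)` (the image of the first under
  conjugation by `[[1, 1], [-1, 1]]`, of non-square determinant 2);
* `g211S`: conjugators taking every involution of `PSL(2, 11)` to the image of `a = [[0, 1], [-1, 0]]`;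
* `g211Y`: for every `n` of order 3 in `PSL(2, 11)` with `a · n` of order 5, a conjugator taking `a` and `n`
  into the first or into the second copy;
* certificates that no transvection conjugates one copy into another (or into itself).
-/

set_option autoImplicit false

namespace Cfsg.Agent.Helper57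

namespace Q2

variable {R : Type*}

/-- negation -/
def neg [Neg R] (x : Q2 R) : Q2 R := ⟨-x.a, -x.b, -x.c, -x.d⟩

/-- adjugate -/
def adj [Neg R] (x : Q2 R) : Q2 R := ⟨x.d, -x.b, -x.c, x.a⟩

/-- powers -/
def pow [Mul R] [Add R] [Zero R] [One R] (x : Q2 R) : ℕ → Q2 R
  | 0 => one
  | k + 1 => mul (pow x k) x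

/-- determinant -/
def det [Mul R] [Sub R] (x : Q2 R) : R := x.a * x.d - x.b * x.c

/-- conjugate `g x g⁻¹` (for `det g = 1`) -/
def conj [Mul R] [Add R] [Neg R] (g x : Q2 R) : Q2 R := mul (mul g x) (adj g)

end Q2

/-- membership of a matrix among the second components of a list of pairs -/
def inL (L : List C211) (v : Q2 (ZMod 11)) : Bool := L.any (fun x => decide (x.2 = v))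

set_option maxRecDepth 1000000 in
/-- The 120 pairs of the second copy. -/
def g211K : List C211 := [
  (⟨0, 1, 2, 3, 4⟩, ⟨1, 0, 0, 1⟩),
  (⟨1, 0, 3, 2, 4⟩, ⟨0, 1, 10, 0⟩),
  (⟨2, 1, 4, 3, 0⟩, ⟨3, 9, 1, 7⟩),
  (⟨0, 1, 2, 3, 4⟩, ⟨10, 0, 0, 10⟩),
  (⟨3, 0, 4, 2, 1⟩, ⟨1, 7, 8, 2⟩),
  (⟨1, 2, 3, 4, 0⟩, ⟨2, 3, 4, 1⟩),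
  (⟨4, 1, 0, 3, 2⟩, ⟨7, 2, 10, 3⟩),
  (⟨1, 0, 3, 2, 4⟩, ⟨0, 10, 1, 0⟩),
  (⟨2, 1, 4, 3, 0⟩, ⟨8, 2, 10, 4⟩),
  (⟨0, 3, 2, 4, 1⟩, ⟨4, 1, 9, 8⟩),
  (⟨4, 0, 1, 2, 3⟩, ⟨10, 3, 4, 9⟩),
  (⟨3, 2, 0, 4, 1⟩, ⟨9, 6, 2, 10⟩),
  (⟨1, 4, 3, 0, 2⟩, ⟨9, 7, 8, 10⟩),
  (⟨3, 0, 4, 2, 1⟩, ⟨10, 4, 3, 9⟩),
  (⟨1, 2, 3, 4, 0⟩, ⟨9, 8, 7, 10⟩),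
  (⟨4, 1, 0, 3, 2⟩, ⟨4, 9, 1, 8⟩),
  (⟨2, 3, 1, 4, 0⟩, ⟨2, 10, 2, 5⟩),
  (⟨0, 4, 2, 1, 3⟩, ⟨8, 10, 2, 4⟩),
  (⟨2, 3, 4, 0, 1⟩, ⟨5, 9, 1, 2⟩),
  (⟨0, 2, 1, 4, 3⟩, ⟨0, 2, 5, 0⟩),
  (⟨3, 4, 2, 0, 1⟩, ⟨1, 9, 1, 10⟩),
  (⟨0, 3, 2, 4, 1⟩, ⟨7, 10, 2, 3⟩),
  (⟨4, 0, 1, 2, 3⟩, ⟨1, 8, 7, 2⟩),
  (⟨3, 2, 0, 4, 1⟩, ⟨2, 5, 9, 1⟩),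
  (⟨1, 4, 3, 0, 2⟩, ⟨2, 4, 3, 1⟩),
  (⟨3, 2, 4, 1, 0⟩, ⟨1, 2, 6, 2⟩),
  (⟨1, 3, 0, 4, 2⟩, ⟨5, 0, 0, 9⟩),
  (⟨2, 4, 3, 1, 0⟩, ⟨1, 10, 10, 2⟩),
  (⟨4, 3, 1, 0, 2⟩, ⟨2, 9, 5, 1⟩),
  (⟨2, 0, 4, 1, 3⟩, ⟨9, 0, 0, 5⟩),
  (⟨4, 3, 0, 2, 1⟩, ⟨2, 1, 1, 1⟩),
  (⟨2, 4, 1, 0, 3⟩, ⟨1, 6, 2, 2⟩),
  (⟨2, 3, 1, 4, 0⟩, ⟨9, 1, 9, 6⟩),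
  (⟨0, 4, 2, 1, 3⟩, ⟨3, 1, 9, 7⟩),
  (⟨2, 3, 4, 0, 1⟩, ⟨6, 2, 10, 9⟩),
  (⟨0, 2, 1, 4, 3⟩, ⟨0, 9, 6, 0⟩),
  (⟨3, 4, 2, 0, 1⟩, ⟨10, 2, 10, 1⟩),
  (⟨4, 2, 0, 1, 3⟩, ⟨5, 1, 9, 2⟩),
  (⟨3, 1, 4, 0, 2⟩, ⟨0, 5, 2, 0⟩),
  (⟨4, 2, 1, 3, 0⟩, ⟨1, 1, 9, 10⟩),
  (⟨3, 4, 0, 1, 2⟩, ⟨2, 2, 10, 5⟩),
  (⟨1, 3, 2, 0, 4⟩, ⟨4, 4, 5, 8⟩),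
  (⟨4, 0, 3, 1, 2⟩, ⟨5, 4, 5, 2⟩),
  (⟨0, 3, 1, 2, 4⟩, ⟨7, 3, 4, 5⟩),
  (⟨3, 2, 4, 1, 0⟩, ⟨10, 9, 5, 9⟩),
  (⟨1, 3, 0, 4, 2⟩, ⟨6, 0, 0, 2⟩),
  (⟨2, 4, 3, 1, 0⟩, ⟨10, 1, 1, 9⟩),
  (⟨4, 3, 1, 0, 2⟩, ⟨9, 2, 6, 10⟩),
  (⟨2, 0, 4, 1, 3⟩, ⟨2, 0, 0, 6⟩),
  (⟨4, 3, 0, 2, 1⟩, ⟨9, 10, 10, 10⟩),
  (⟨2, 4, 1, 0, 3⟩, ⟨10, 5, 9, 9⟩),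
  (⟨0, 2, 3, 1, 4⟩, ⟨5, 8, 7, 7⟩),
  (⟨4, 1, 2, 0, 3⟩, ⟨5, 2, 6, 7⟩),
  (⟨1, 2, 0, 3, 4⟩, ⟨4, 5, 4, 8⟩),
  (⟨3, 1, 0, 2, 4⟩, ⟨7, 4, 3, 5⟩),
  (⟨0, 4, 1, 3, 2⟩, ⟨7, 5, 9, 5⟩),
  (⟨3, 0, 2, 1, 4⟩, ⟨8, 7, 6, 4⟩),
  (⟨1, 3, 4, 2, 0⟩, ⟨2, 7, 6, 5⟩),
  (⟨4, 2, 0, 1, 3⟩, ⟨6, 10, 2, 9⟩),
  (⟨3, 1, 4, 0, 2⟩, ⟨0, 6, 9, 0⟩),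
  (⟨4, 2, 1, 3, 0⟩, ⟨10, 10, 2, 1⟩),
  (⟨3, 4, 0, 1, 2⟩, ⟨9, 9, 1, 6⟩),
  (⟨1, 3, 2, 0, 4⟩, ⟨7, 7, 6, 3⟩),
  (⟨4, 0, 3, 1, 2⟩, ⟨6, 7, 6, 9⟩),
  (⟨0, 3, 1, 2, 4⟩, ⟨4, 8, 7, 6⟩),
  (⟨2, 0, 1, 3, 4⟩, ⟨3, 5, 4, 7⟩),
  (⟨1, 4, 0, 2, 3⟩, ⟨9, 5, 4, 6⟩),
  (⟨2, 1, 3, 0, 4⟩, ⟨6, 4, 3, 4⟩),
  (⟨0, 2, 4, 3, 1⟩, ⟨6, 5, 9, 4⟩),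
  (⟨0, 1, 4, 2, 3⟩, ⟨3, 3, 3, 7⟩),
  (⟨1, 4, 2, 3, 0⟩, ⟨4, 10, 10, 6⟩),
  (⟨3, 1, 2, 4, 0⟩, ⟨4, 2, 6, 6⟩),
  (⟨0, 2, 3, 1, 4⟩, ⟨6, 3, 4, 4⟩),
  (⟨4, 1, 2, 0, 3⟩, ⟨6, 9, 5, 4⟩),
  (⟨1, 2, 0, 3, 4⟩, ⟨7, 6, 7, 3⟩),
  (⟨3, 1, 0, 2, 4⟩, ⟨4, 7, 8, 6⟩),
  (⟨0, 4, 1, 3, 2⟩, ⟨4, 6, 2, 6⟩),
  (⟨3, 0, 2, 1, 4⟩, ⟨3, 4, 5, 7⟩),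
  (⟨1, 3, 4, 2, 0⟩, ⟨9, 4, 5, 6⟩),
  (⟨1, 0, 4, 3, 2⟩, ⟨3, 7, 8, 8⟩),
  (⟨0, 4, 3, 2, 1⟩, ⟨10, 6, 7, 1⟩),
  (⟨2, 0, 3, 4, 1⟩, ⟨6, 6, 7, 9⟩),
  (⟨1, 0, 2, 4, 3⟩, ⟨8, 3, 4, 3⟩),
  (⟨4, 1, 3, 2, 0⟩, ⟨1, 4, 5, 10⟩),
  (⟨2, 4, 0, 3, 1⟩, ⟨0, 7, 3, 0⟩),
  (⟨2, 1, 0, 4, 3⟩, ⟨3, 6, 2, 8⟩),
  (⟨2, 0, 1, 3, 4⟩, ⟨8, 6, 7, 4⟩),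
  (⟨1, 4, 0, 2, 3⟩, ⟨2, 6, 7, 5⟩),
  (⟨2, 1, 3, 0, 4⟩, ⟨5, 7, 8, 7⟩),
  (⟨0, 2, 4, 3, 1⟩, ⟨5, 6, 2, 7⟩),
  (⟨0, 1, 4, 2, 3⟩, ⟨8, 8, 8, 4⟩),
  (⟨1, 4, 2, 3, 0⟩, ⟨7, 1, 1, 5⟩),
  (⟨3, 1, 2, 4, 0⟩, ⟨7, 9, 5, 5⟩),
  (⟨0, 1, 3, 4, 2⟩, ⟨4, 3, 3, 8⟩),
  (⟨4, 0, 2, 3, 1⟩, ⟨5, 10, 10, 7⟩),
  (⟨3, 4, 1, 2, 0⟩, ⟨3, 0, 0, 4⟩),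
  (⟨3, 0, 1, 4, 2⟩, ⟨2, 8, 8, 5⟩),
  (⟨2, 0, 3, 4, 1⟩, ⟨5, 5, 4, 2⟩),
  (⟨4, 2, 3, 0, 1⟩, ⟨4, 0, 0, 3⟩),
  (⟨1, 2, 4, 0, 3⟩, ⟨5, 3, 3, 2⟩),
  (⟨1, 0, 4, 3, 2⟩, ⟨8, 4, 3, 3⟩),
  (⟨0, 4, 3, 2, 1⟩, ⟨1, 5, 4, 10⟩),
  (⟨1, 0, 2, 4, 3⟩, ⟨3, 8, 7, 8⟩),
  (⟨4, 1, 3, 2, 0⟩, ⟨10, 7, 6, 1⟩),
  (⟨2, 4, 0, 3, 1⟩, ⟨0, 4, 8, 0⟩),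
  (⟨2, 1, 0, 4, 3⟩, ⟨8, 5, 9, 3⟩),
  (⟨4, 3, 2, 1, 0⟩, ⟨0, 3, 7, 0⟩),
  (⟨0, 3, 4, 1, 2⟩, ⟨3, 2, 6, 8⟩),
  (⟨3, 0, 1, 4, 2⟩, ⟨9, 3, 3, 6⟩),
  (⟨3, 2, 1, 0, 4⟩, ⟨1, 3, 3, 10⟩),
  (⟨4, 2, 3, 0, 1⟩, ⟨7, 0, 0, 8⟩),
  (⟨0, 1, 3, 4, 2⟩, ⟨7, 8, 8, 3⟩),
  (⟨4, 0, 2, 3, 1⟩, ⟨6, 1, 1, 4⟩),
  (⟨3, 4, 1, 2, 0⟩, ⟨8, 0, 0, 7⟩),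
  (⟨1, 2, 4, 0, 3⟩, ⟨6, 8, 8, 9⟩),
  (⟨2, 3, 0, 1, 4⟩, ⟨3, 10, 10, 8⟩),
  (⟨4, 3, 2, 1, 0⟩, ⟨0, 8, 4, 0⟩),
  (⟨0, 3, 4, 1, 2⟩, ⟨8, 9, 5, 3⟩),
  (⟨2, 3, 0, 1, 4⟩, ⟨8, 1, 1, 3⟩),
  (⟨3, 2, 1, 0, 4⟩, ⟨10, 8, 8, 1⟩)]

/-- the second generating pair of the second copy -/
def g211B' : C211 := (⟨2, 1, 4, 3, 0⟩, ⟨3, 9, 1, 7⟩)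
/-- inverse of `g211A` -/
def g211Ai : C211 := (⟨1, 0, 3, 2, 4⟩, ⟨0, 10, 1, 0⟩)
/-- inverse of `g211B` -/
def g211Bi : C211 := (⟨4, 1, 0, 3, 2⟩, ⟨10, 9, 6, 0⟩)
/-- inverse of `g211B'` -/
def g211Bi' : C211 := (⟨4, 1, 0, 3, 2⟩, ⟨7, 2, 10, 3⟩)

theorem g211Ai_mul : c211mul g211Ai g211A = (P5.one, Q2.one) := by decide +kernel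
theorem g211Bi_mul : c211mul g211Bi g211B = (P5.one, Q2.one) := by decide +kernel
theorem g211Bi'_mul : c211mul g211Bi' g211B' = (P5.one, Q2.one) := by decide +kernel

set_option maxRecDepth 1000000 in
theorem g211L_bfs : bfsCheckC c211mul (P5.one, Q2.one) [g211Ai, g211Bi] g211L.reverse = true := by
  decide +kernel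

set_option maxRecDepth 1000000 in
theorem g211L_neg : ∀ x ∈ g211L, (x.1, Q2.neg x.2) ∈ g211L := by decide +kernel

set_option maxRecDepth 1000000 in
theorem g211K_one : ((P5.one, Q2.one) : C211) ∈ g211K := by decide +kernel

set_option maxRecDepth 1000000 in
theorem g211K_mulA : ∀ x ∈ g211K, c211mul x g211A ∈ g211K := by decide +kernel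

set_option maxRecDepth 1000000 in
theorem g211K_mulB : ∀ x ∈ g211K, c211mul x g211B' ∈ g211K := by decide +kernel

set_option maxRecDepth 1000000 in
theorem g211K_fst_one : ∀ x ∈ g211K, x.1 = P5.one → x.2 = Q2.one ∨ x.2 = ⟨10, 0, 0, 10⟩ := by
  decide +kernel

set_option maxRecDepth 1000000 in
theorem g211K_bfs : bfsCheckC c211mul (P5.one, Q2.one) [g211Ai, g211Bi'] g211K.reverse = true := by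
  decide +kernel

set_option maxRecDepth 1000000 in
theorem g211K_neg : ∀ x ∈ g211K, (x.1, Q2.neg x.2) ∈ g211K := by decide +kernel

/-- Conjugators for the involutions. -/
def g211S : List (Q2 (ZMod 11)) := [
  ⟨0, 1, 10, 0⟩,
  ⟨0, 3, 7, 0⟩,
  ⟨0, 5, 2, 0⟩,
  ⟨0, 2, 5, 0⟩,
  ⟨0, 4, 8, 0⟩,
  ⟨0, 4, 8, 4⟩,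
  ⟨0, 1, 10, 10⟩,
  ⟨0, 2, 5, 2⟩,
  ⟨0, 3, 7, 3⟩,
  ⟨0, 5, 2, 5⟩,
  ⟨0, 5, 2, 6⟩,
  ⟨0, 3, 7, 8⟩,
  ⟨0, 2, 5, 9⟩,
  ⟨0, 1, 10, 1⟩,
  ⟨0, 4, 8, 7⟩,
  ⟨0, 3, 7, 5⟩,
  ⟨0, 2, 5, 4⟩,
  ⟨0, 4, 8, 3⟩,
  ⟨0, 5, 2, 1⟩,
  ⟨0, 1, 10, 9⟩,
  ⟨0, 1, 10, 2⟩,
  ⟨0, 5, 2, 10⟩,
  ⟨0, 4, 8, 8⟩,
  ⟨0, 2, 5, 7⟩,
  ⟨0, 3, 7, 6⟩,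
  ⟨0, 1, 10, 3⟩,
  ⟨0, 3, 7, 2⟩,
  ⟨0, 5, 2, 4⟩,
  ⟨0, 2, 5, 6⟩,
  ⟨0, 4, 8, 1⟩,
  ⟨0, 4, 8, 10⟩,
  ⟨0, 2, 5, 5⟩,
  ⟨0, 5, 2, 7⟩,
  ⟨0, 3, 7, 9⟩,
  ⟨0, 1, 10, 8⟩,
  ⟨0, 3, 7, 1⟩,
  ⟨0, 2, 5, 3⟩,
  ⟨0, 4, 8, 5⟩,
  ⟨0, 5, 2, 9⟩,
  ⟨0, 1, 10, 4⟩,
  ⟨0, 1, 10, 7⟩,
  ⟨0, 5, 2, 2⟩,
  ⟨0, 4, 8, 6⟩,
  ⟨0, 2, 5, 8⟩,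
  ⟨0, 3, 7, 10⟩,
  ⟨0, 5, 2, 8⟩,
  ⟨0, 4, 8, 9⟩,
  ⟨0, 3, 7, 7⟩,
  ⟨0, 1, 10, 6⟩,
  ⟨0, 2, 5, 1⟩,
  ⟨0, 2, 5, 10⟩,
  ⟨0, 1, 10, 5⟩,
  ⟨0, 3, 7, 4⟩,
  ⟨0, 4, 8, 2⟩,
  ⟨0, 5, 2, 3⟩]

/-- Conjugators for the elements of order 3: pairs `(n, g)`. -/
def g211Y : List (Q2 (ZMod 11) × Q2 (ZMod 11)) := [
  (⟨0, 2, 5, 1⟩, ⟨0, 1, 10, 3⟩),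
  (⟨0, 2, 5, 10⟩, ⟨0, 1, 10, 0⟩),
  (⟨0, 3, 7, 1⟩, ⟨0, 1, 10, 4⟩),
  (⟨0, 3, 7, 10⟩, ⟨0, 1, 10, 10⟩),
  (⟨0, 4, 8, 1⟩, ⟨0, 1, 10, 10⟩),
  (⟨0, 4, 8, 10⟩, ⟨0, 1, 10, 4⟩),
  (⟨0, 5, 2, 1⟩, ⟨0, 1, 10, 3⟩),
  (⟨0, 5, 2, 10⟩, ⟨0, 1, 10, 0⟩),
  (⟨0, 6, 9, 1⟩, ⟨0, 1, 10, 0⟩),
  (⟨0, 6, 9, 10⟩, ⟨0, 1, 10, 3⟩),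
  (⟨0, 7, 3, 1⟩, ⟨0, 1, 10, 4⟩),
  (⟨0, 7, 3, 10⟩, ⟨0, 1, 10, 10⟩),
  (⟨0, 8, 4, 1⟩, ⟨0, 1, 10, 10⟩),
  (⟨0, 8, 4, 10⟩, ⟨0, 1, 10, 4⟩),
  (⟨0, 9, 6, 1⟩, ⟨0, 1, 10, 0⟩),
  (⟨0, 9, 6, 10⟩, ⟨0, 1, 10, 3⟩),
  (⟨1, 1, 8, 9⟩, ⟨0, 1, 10, 0⟩),
  (⟨1, 2, 5, 0⟩, ⟨0, 1, 10, 0⟩),
  (⟨1, 3, 7, 0⟩, ⟨0, 1, 10, 10⟩),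
  (⟨1, 3, 10, 9⟩, ⟨0, 1, 10, 3⟩),
  (⟨1, 4, 8, 0⟩, ⟨0, 1, 10, 4⟩),
  (⟨1, 5, 2, 0⟩, ⟨0, 1, 10, 0⟩),
  (⟨1, 6, 9, 0⟩, ⟨0, 1, 10, 3⟩),
  (⟨1, 7, 3, 0⟩, ⟨0, 1, 10, 10⟩),
  (⟨1, 8, 1, 9⟩, ⟨0, 1, 10, 0⟩),
  (⟨1, 8, 4, 0⟩, ⟨0, 1, 10, 4⟩),
  (⟨1, 9, 6, 0⟩, ⟨0, 1, 10, 3⟩),
  (⟨1, 10, 3, 9⟩, ⟨0, 1, 10, 3⟩),
  (⟨2, 1, 4, 8⟩, ⟨0, 1, 10, 10⟩),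
  (⟨2, 1, 8, 10⟩, ⟨0, 1, 10, 0⟩),
  (⟨2, 3, 10, 10⟩, ⟨0, 1, 10, 3⟩),
  (⟨2, 4, 1, 8⟩, ⟨0, 1, 10, 10⟩),
  (⟨2, 7, 10, 8⟩, ⟨0, 1, 10, 4⟩),
  (⟨2, 8, 1, 10⟩, ⟨0, 1, 10, 0⟩),
  (⟨2, 10, 3, 10⟩, ⟨0, 1, 10, 3⟩),
  (⟨2, 10, 7, 8⟩, ⟨0, 1, 10, 4⟩),
  (⟨3, 1, 4, 9⟩, ⟨0, 1, 10, 10⟩),
  (⟨3, 1, 9, 7⟩, ⟨0, 1, 10, 0⟩),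
  (⟨3, 2, 10, 7⟩, ⟨0, 1, 10, 3⟩),
  (⟨3, 4, 1, 9⟩, ⟨0, 1, 10, 10⟩),
  (⟨3, 7, 10, 9⟩, ⟨0, 1, 10, 4⟩),
  (⟨3, 9, 1, 7⟩, ⟨0, 1, 10, 0⟩),
  (⟨3, 10, 2, 7⟩, ⟨0, 1, 10, 3⟩),
  (⟨3, 10, 7, 9⟩, ⟨0, 1, 10, 4⟩),
  (⟨4, 1, 9, 8⟩, ⟨0, 1, 10, 0⟩),
  (⟨4, 2, 6, 6⟩, ⟨0, 1, 10, 0⟩),
  (⟨4, 2, 10, 8⟩, ⟨0, 1, 10, 3⟩),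
  (⟨4, 5, 9, 6⟩, ⟨0, 1, 10, 3⟩),
  (⟨4, 6, 2, 6⟩, ⟨0, 1, 10, 0⟩),
  (⟨4, 9, 1, 8⟩, ⟨0, 1, 10, 0⟩),
  (⟨4, 9, 5, 6⟩, ⟨0, 1, 10, 3⟩),
  (⟨4, 10, 2, 8⟩, ⟨0, 1, 10, 3⟩),
  (⟨5, 2, 6, 7⟩, ⟨0, 1, 10, 0⟩),
  (⟨5, 5, 9, 7⟩, ⟨0, 1, 10, 3⟩),
  (⟨5, 6, 2, 7⟩, ⟨0, 1, 10, 0⟩),
  (⟨5, 9, 5, 7⟩, ⟨0, 1, 10, 3⟩),
  (⟨6, 2, 6, 4⟩, ⟨0, 1, 10, 3⟩),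
  (⟨6, 5, 9, 4⟩, ⟨0, 1, 10, 0⟩),
  (⟨6, 6, 2, 4⟩, ⟨0, 1, 10, 3⟩),
  (⟨6, 9, 5, 4⟩, ⟨0, 1, 10, 0⟩),
  (⟨7, 1, 9, 3⟩, ⟨0, 1, 10, 3⟩),
  (⟨7, 2, 6, 5⟩, ⟨0, 1, 10, 3⟩),
  (⟨7, 2, 10, 3⟩, ⟨0, 1, 10, 0⟩),
  (⟨7, 5, 9, 5⟩, ⟨0, 1, 10, 0⟩),
  (⟨7, 6, 2, 5⟩, ⟨0, 1, 10, 3⟩),
  (⟨7, 9, 1, 3⟩, ⟨0, 1, 10, 3⟩),
  (⟨7, 9, 5, 5⟩, ⟨0, 1, 10, 0⟩),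
  (⟨7, 10, 2, 3⟩, ⟨0, 1, 10, 0⟩),
  (⟨8, 1, 4, 2⟩, ⟨0, 1, 10, 4⟩),
  (⟨8, 1, 9, 4⟩, ⟨0, 1, 10, 3⟩),
  (⟨8, 2, 10, 4⟩, ⟨0, 1, 10, 0⟩),
  (⟨8, 4, 1, 2⟩, ⟨0, 1, 10, 4⟩),
  (⟨8, 7, 10, 2⟩, ⟨0, 1, 10, 10⟩),
  (⟨8, 9, 1, 4⟩, ⟨0, 1, 10, 3⟩),
  (⟨8, 10, 2, 4⟩, ⟨0, 1, 10, 0⟩),
  (⟨8, 10, 7, 2⟩, ⟨0, 1, 10, 10⟩),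
  (⟨9, 1, 4, 3⟩, ⟨0, 1, 10, 4⟩),
  (⟨9, 1, 8, 1⟩, ⟨0, 1, 10, 3⟩),
  (⟨9, 3, 10, 1⟩, ⟨0, 1, 10, 0⟩),
  (⟨9, 4, 1, 3⟩, ⟨0, 1, 10, 4⟩),
  (⟨9, 7, 10, 3⟩, ⟨0, 1, 10, 10⟩),
  (⟨9, 8, 1, 1⟩, ⟨0, 1, 10, 3⟩),
  (⟨9, 10, 3, 1⟩, ⟨0, 1, 10, 0⟩),
  (⟨9, 10, 7, 3⟩, ⟨0, 1, 10, 10⟩),
  (⟨10, 1, 8, 2⟩, ⟨0, 1, 10, 3⟩),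
  (⟨10, 2, 5, 0⟩, ⟨0, 1, 10, 3⟩),
  (⟨10, 3, 7, 0⟩, ⟨0, 1, 10, 4⟩),
  (⟨10, 3, 10, 2⟩, ⟨0, 1, 10, 0⟩),
  (⟨10, 4, 8, 0⟩, ⟨0, 1, 10, 10⟩),
  (⟨10, 5, 2, 0⟩, ⟨0, 1, 10, 3⟩),
  (⟨10, 6, 9, 0⟩, ⟨0, 1, 10, 0⟩),
  (⟨10, 7, 3, 0⟩, ⟨0, 1, 10, 4⟩),
  (⟨10, 8, 1, 2⟩, ⟨0, 1, 10, 3⟩),
  (⟨10, 8, 4, 0⟩, ⟨0, 1, 10, 10⟩),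
  (⟨10, 9, 6, 0⟩, ⟨0, 1, 10, 0⟩),
  (⟨10, 10, 3, 2⟩, ⟨0, 1, 10, 0⟩)]

end Cfsg.Agent.Helper57
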