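import Cfsg.Agent.Helper57.Psl211b

/-!
# The two classes of `A₅` in `PSL(2, 11)`: certificates over all of `SL(2, 11)` (seat helper57)

The checks over all matrices are split by the value of the first entry, to keep every kernel computation
small.
-/

set_option autoImplicit false

namespace Cfsg.Agent.Helper57

theorem zmod11_cases (a : ZMod 11) : a = 0 ∨ a = 1 ∨ a = 2 ∨ a = 3 ∨ a = 4 ∨ a = 5 ∨ a = 6 ∨ a = 7 ∨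
    a = 8 ∨ a = 9 ∨ a = 10 := by
  revert a
  decide

set_option maxRecDepth 1000000 in
theorem g211S_spec0 : ∀ b c d : ZMod 11, (0 : ZMod 11) * d - b * c = 1 →
    (Q2.mul ⟨(0 : ZMod 11), b, c, d⟩ ⟨(0 : ZMod 11), b, c, d⟩ = Q2.one ∨ Q2.mul ⟨(0 : ZMod 11), b, c, d⟩ ⟨(0 : ZMod 11), b, c, d⟩ = ⟨10, 0, 0, 10⟩) →
    (⟨(0 : ZMod 11), b, c, d⟩ : Q2 (ZMod 11)) ≠ Q2.one → (⟨(0 : ZMod 11), b, c, d⟩ : Q2 (ZMod 11)) ≠ ⟨10, 0, 0, 10⟩ →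
    ∃ g ∈ g211S, Q2.det g = 1 ∧ (Q2.mul g ⟨(0 : ZMod 11), b, c, d⟩ = Q2.mul g211A.2 g ∨
      Q2.mul g ⟨(0 : ZMod 11), b, c, d⟩ = Q2.mul (Q2.neg g211A.2) g) := by
  decide +kernel

set_option maxRecDepth 1000000 in
theorem g211S_spec1 : ∀ b c d : ZMod 11, (1 : ZMod 11) * d - b * c = 1 →
    (Q2.mul ⟨(1 : ZMod 11), b, c, d⟩ ⟨(1 : ZMod 11), b, c, d⟩ = Q2.one ∨ Q2.mul ⟨(1 : ZMod 11), b, c, d⟩ ⟨(1 : ZMod 11), b, c, d⟩ = ⟨10, 0, 0, 10⟩) →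
    (⟨(1 : ZMod 11), b, c, d⟩ : Q2 (ZMod 11)) ≠ Q2.one → (⟨(1 : ZMod 11), b, c, d⟩ : Q2 (ZMod 11)) ≠ ⟨10, 0, 0, 10⟩ →
    ∃ g ∈ g211S, Q2.det g = 1 ∧ (Q2.mul g ⟨(1 : ZMod 11), b, c, d⟩ = Q2.mul g211A.2 g ∨
      Q2.mul g ⟨(1 : ZMod 11), b, c, d⟩ = Q2.mul (Q2.neg g211A.2) g) := by
  decide +kernel

set_option maxRecDepth 1000000 in
theorem g211S_spec2 : ∀ b c d : ZMod 11, (2 : ZMod 11) * d - b * c = 1 →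
    (Q2.mul ⟨(2 : ZMod 11), b, c, d⟩ ⟨(2 : ZMod 11), b, c, d⟩ = Q2.one ∨ Q2.mul ⟨(2 : ZMod 11), b, c, d⟩ ⟨(2 : ZMod 11), b, c, d⟩ = ⟨10, 0, 0, 10⟩) →
    (⟨(2 : ZMod 11), b, c, d⟩ : Q2 (ZMod 11)) ≠ Q2.one → (⟨(2 : ZMod 11), b, c, d⟩ : Q2 (ZMod 11)) ≠ ⟨10, 0, 0, 10⟩ →
    ∃ g ∈ g211S, Q2.det g = 1 ∧ (Q2.mul g ⟨(2 : ZMod 11), b, c, d⟩ = Q2.mul g211A.2 g ∨
      Q2.mul g ⟨(2 : ZMod 11), b, c, d⟩ = Q2.mul (Q2.neg g211A.2) g) := by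
  decide +kernel

set_option maxRecDepth 1000000 in
theorem g211S_spec3 : ∀ b c d : ZMod 11, (3 : ZMod 11) * d - b * c = 1 →
    (Q2.mul ⟨(3 : ZMod 11), b, c, d⟩ ⟨(3 : ZMod 11), b, c, d⟩ = Q2.one ∨ Q2.mul ⟨(3 : ZMod 11), b, c, d⟩ ⟨(3 : ZMod 11), b, c, d⟩ = ⟨10, 0, 0, 10⟩) →
    (⟨(3 : ZMod 11), b, c, d⟩ : Q2 (ZMod 11)) ≠ Q2.one → (⟨(3 : ZMod 11), b, c, d⟩ : Q2 (ZMod 11)) ≠ ⟨10, 0, 0, 10⟩ →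
    ∃ g ∈ g211S, Q2.det g = 1 ∧ (Q2.mul g ⟨(3 : ZMod 11), b, c, d⟩ = Q2.mul g211A.2 g ∨
      Q2.mul g ⟨(3 : ZMod 11), b, c, d⟩ = Q2.mul (Q2.neg g211A.2) g) := by
  decide +kernel

set_option maxRecDepth 1000000 in
theorem g211S_spec4 : ∀ b c d : ZMod 11, (4 : ZMod 11) * d - b * c = 1 →
    (Q2.mul ⟨(4 : ZMod 11), b, c, d⟩ ⟨(4 : ZMod 11), b, c, d⟩ = Q2.one ∨ Q2.mul ⟨(4 : ZMod 11), b, c, d⟩ ⟨(4 : ZMod 11), b, c, d⟩ = ⟨10, 0, 0, 10⟩) →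
    (⟨(4 : ZMod 11), b, c, d⟩ : Q2 (ZMod 11)) ≠ Q2.one → (⟨(4 : ZMod 11), b, c, d⟩ : Q2 (ZMod 11)) ≠ ⟨10, 0, 0, 10⟩ →
    ∃ g ∈ g211S, Q2.det g = 1 ∧ (Q2.mul g ⟨(4 : ZMod 11), b, c, d⟩ = Q2.mul g211A.2 g ∨
      Q2.mul g ⟨(4 : ZMod 11), b, c, d⟩ = Q2.mul (Q2.neg g211A.2) g) := by
  decide +kernel

set_option maxRecDepth 1000000 in
theorem g211S_spec5 : ∀ b c d : ZMod 11, (5 : ZMod 11) * d - b * c = 1 →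
    (Q2.mul ⟨(5 : ZMod 11), b, c, d⟩ ⟨(5 : ZMod 11), b, c, d⟩ = Q2.one ∨ Q2.mul ⟨(5 : ZMod 11), b, c, d⟩ ⟨(5 : ZMod 11), b, c, d⟩ = ⟨10, 0, 0, 10⟩) →
    (⟨(5 : ZMod 11), b, c, d⟩ : Q2 (ZMod 11)) ≠ Q2.one → (⟨(5 : ZMod 11), b, c, d⟩ : Q2 (ZMod 11)) ≠ ⟨10, 0, 0, 10⟩ →
    ∃ g ∈ g211S, Q2.det g = 1 ∧ (Q2.mul g ⟨(5 : ZMod 11), b, c, d⟩ = Q2.mul g211A.2 g ∨
      Q2.mul g ⟨(5 : ZMod 11), b, c, d⟩ = Q2.mul (Q2.neg g211A.2) g) := by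
  decide +kernel

set_option maxRecDepth 1000000 in
theorem g211S_spec6 : ∀ b c d : ZMod 11, (6 : ZMod 11) * d - b * c = 1 →
    (Q2.mul ⟨(6 : ZMod 11), b, c, d⟩ ⟨(6 : ZMod 11), b, c, d⟩ = Q2.one ∨ Q2.mul ⟨(6 : ZMod 11), b, c, d⟩ ⟨(6 : ZMod 11), b, c, d⟩ = ⟨10, 0, 0, 10⟩) →
    (⟨(6 : ZMod 11), b, c, d⟩ : Q2 (ZMod 11)) ≠ Q2.one → (⟨(6 : ZMod 11), b, c, d⟩ : Q2 (ZMod 11)) ≠ ⟨10, 0, 0, 10⟩ →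
    ∃ g ∈ g211S, Q2.det g = 1 ∧ (Q2.mul g ⟨(6 : ZMod 11), b, c, d⟩ = Q2.mul g211A.2 g ∨
      Q2.mul g ⟨(6 : ZMod 11), b, c, d⟩ = Q2.mul (Q2.neg g211A.2) g) := by
  decide +kernel

set_option maxRecDepth 1000000 in
theorem g211S_spec7 : ∀ b c d : ZMod 11, (7 : ZMod 11) * d - b * c = 1 →
    (Q2.mul ⟨(7 : ZMod 11), b, c, d⟩ ⟨(7 : ZMod 11), b, c, d⟩ = Q2.one ∨ Q2.mul ⟨(7 : ZMod 11), b, c, d⟩ ⟨(7 : ZMod 11), b, c, d⟩ = ⟨10, 0, 0, 10⟩) →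
    (⟨(7 : ZMod 11), b, c, d⟩ : Q2 (ZMod 11)) ≠ Q2.one → (⟨(7 : ZMod 11), b, c, d⟩ : Q2 (ZMod 11)) ≠ ⟨10, 0, 0, 10⟩ →
    ∃ g ∈ g211S, Q2.det g = 1 ∧ (Q2.mul g ⟨(7 : ZMod 11), b, c, d⟩ = Q2.mul g211A.2 g ∨
      Q2.mul g ⟨(7 : ZMod 11), b, c, d⟩ = Q2.mul (Q2.neg g211A.2) g) := by
  decide +kernel

set_option maxRecDepth 1000000 in
theorem g211S_spec8 : ∀ b c d : ZMod 11, (8 : ZMod 11) * d - b * c = 1 →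
    (Q2.mul ⟨(8 : ZMod 11), b, c, d⟩ ⟨(8 : ZMod 11), b, c, d⟩ = Q2.one ∨ Q2.mul ⟨(8 : ZMod 11), b, c, d⟩ ⟨(8 : ZMod 11), b, c, d⟩ = ⟨10, 0, 0, 10⟩) →
    (⟨(8 : ZMod 11), b, c, d⟩ : Q2 (ZMod 11)) ≠ Q2.one → (⟨(8 : ZMod 11), b, c, d⟩ : Q2 (ZMod 11)) ≠ ⟨10, 0, 0, 10⟩ →
    ∃ g ∈ g211S, Q2.det g = 1 ∧ (Q2.mul g ⟨(8 : ZMod 11), b, c, d⟩ = Q2.mul g211A.2 g ∨
      Q2.mul g ⟨(8 : ZMod 11), b, c, d⟩ = Q2.mul (Q2.neg g211A.2) g) := by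
  decide +kernel

set_option maxRecDepth 1000000 in
theorem g211S_spec9 : ∀ b c d : ZMod 11, (9 : ZMod 11) * d - b * c = 1 →
    (Q2.mul ⟨(9 : ZMod 11), b, c, d⟩ ⟨(9 : ZMod 11), b, c, d⟩ = Q2.one ∨ Q2.mul ⟨(9 : ZMod 11), b, c, d⟩ ⟨(9 : ZMod 11), b, c, d⟩ = ⟨10, 0, 0, 10⟩) →
    (⟨(9 : ZMod 11), b, c, d⟩ : Q2 (ZMod 11)) ≠ Q2.one → (⟨(9 : ZMod 11), b, c, d⟩ : Q2 (ZMod 11)) ≠ ⟨10, 0, 0, 10⟩ →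
    ∃ g ∈ g211S, Q2.det g = 1 ∧ (Q2.mul g ⟨(9 : ZMod 11), b, c, d⟩ = Q2.mul g211A.2 g ∨
      Q2.mul g ⟨(9 : ZMod 11), b, c, d⟩ = Q2.mul (Q2.neg g211A.2) g) := by
  decide +kernel

set_option maxRecDepth 1000000 in
theorem g211S_spec10 : ∀ b c d : ZMod 11, (10 : ZMod 11) * d - b * c = 1 →
    (Q2.mul ⟨(10 : ZMod 11), b, c, d⟩ ⟨(10 : ZMod 11), b, c, d⟩ = Q2.one ∨ Q2.mul ⟨(10 : ZMod 11), b, c, d⟩ ⟨(10 : ZMod 11), b, c, d⟩ = ⟨10, 0, 0, 10⟩) →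
    (⟨(10 : ZMod 11), b, c, d⟩ : Q2 (ZMod 11)) ≠ Q2.one → (⟨(10 : ZMod 11), b, c, d⟩ : Q2 (ZMod 11)) ≠ ⟨10, 0, 0, 10⟩ →
    ∃ g ∈ g211S, Q2.det g = 1 ∧ (Q2.mul g ⟨(10 : ZMod 11), b, c, d⟩ = Q2.mul g211A.2 g ∨
      Q2.mul g ⟨(10 : ZMod 11), b, c, d⟩ = Q2.mul (Q2.neg g211A.2) g) := by
  decide +kernel

/-- Every involution of `PSL(2, 11)` is conjugate to the image of `a`. -/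
theorem g211S_spec : ∀ a b c d : ZMod 11, a * d - b * c = 1 →
    (Q2.mul ⟨a, b, c, d⟩ ⟨a, b, c, d⟩ = Q2.one ∨ Q2.mul ⟨a, b, c, d⟩ ⟨a, b, c, d⟩ = ⟨10, 0, 0, 10⟩) →
    (⟨a, b, c, d⟩ : Q2 (ZMod 11)) ≠ Q2.one → (⟨a, b, c, d⟩ : Q2 (ZMod 11)) ≠ ⟨10, 0, 0, 10⟩ →
    ∃ g ∈ g211S, Q2.det g = 1 ∧ (Q2.mul g ⟨a, b, c, d⟩ = Q2.mul g211A.2 g ∨
      Q2.mul g ⟨a, b, c, d⟩ = Q2.mul (Q2.neg g211A.2) g) := by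
  intro a
  rcases zmod11_cases a with rfl | rfl | rfl | rfl | rfl | rfl | rfl | rfl | rfl | rfl | rfl
  exacts [g211S_spec0, g211S_spec1, g211S_spec2, g211S_spec3, g211S_spec4, g211S_spec5, g211S_spec6,
    g211S_spec7, g211S_spec8, g211S_spec9, g211S_spec10]

set_option maxRecDepth 1000000 in
theorem g211Y_spec0 : ∀ b c d : ZMod 11, (0 : ZMod 11) * d - b * c = 1 →
    (Q2.pow ⟨(0 : ZMod 11), b, c, d⟩ 3 = Q2.one ∨ Q2.pow ⟨(0 : ZMod 11), b, c, d⟩ 3 = ⟨10, 0, 0, 10⟩) →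
    (⟨(0 : ZMod 11), b, c, d⟩ : Q2 (ZMod 11)) ≠ Q2.one → (⟨(0 : ZMod 11), b, c, d⟩ : Q2 (ZMod 11)) ≠ ⟨10, 0, 0, 10⟩ →
    (Q2.pow (Q2.mul g211A.2 ⟨(0 : ZMod 11), b, c, d⟩) 5 = Q2.one ∨
      Q2.pow (Q2.mul g211A.2 ⟨(0 : ZMod 11), b, c, d⟩) 5 = ⟨10, 0, 0, 10⟩) →
    ∃ p ∈ g211Y, p.1 = ⟨(0 : ZMod 11), b, c, d⟩ ∧ Q2.det p.2 = 1 ∧
      ((inL g211L (Q2.conj p.2 g211A.2) = true ∧ inL g211L (Q2.conj p.2 ⟨(0 : ZMod 11), b, c, d⟩) = true) ∨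
       (inL g211K (Q2.conj p.2 g211A.2) = true ∧ inL g211K (Q2.conj p.2 ⟨(0 : ZMod 11), b, c, d⟩) = true)) := by
  decide +kernel

set_option maxRecDepth 1000000 in
theorem g211Y_spec1 : ∀ b c d : ZMod 11, (1 : ZMod 11) * d - b * c = 1 →
    (Q2.pow ⟨(1 : ZMod 11), b, c, d⟩ 3 = Q2.one ∨ Q2.pow ⟨(1 : ZMod 11), b, c, d⟩ 3 = ⟨10, 0, 0, 10⟩) →
    (⟨(1 : ZMod 11), b, c, d⟩ : Q2 (ZMod 11)) ≠ Q2.one → (⟨(1 : ZMod 11), b, c, d⟩ : Q2 (ZMod 11)) ≠ ⟨10, 0, 0, 10⟩ →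
    (Q2.pow (Q2.mul g211A.2 ⟨(1 : ZMod 11), b, c, d⟩) 5 = Q2.one ∨
      Q2.pow (Q2.mul g211A.2 ⟨(1 : ZMod 11), b, c, d⟩) 5 = ⟨10, 0, 0, 10⟩) →
    ∃ p ∈ g211Y, p.1 = ⟨(1 : ZMod 11), b, c, d⟩ ∧ Q2.det p.2 = 1 ∧
      ((inL g211L (Q2.conj p.2 g211A.2) = true ∧ inL g211L (Q2.conj p.2 ⟨(1 : ZMod 11), b, c, d⟩) = true) ∨
       (inL g211K (Q2.conj p.2 g211A.2) = true ∧ inL g211K (Q2.conj p.2 ⟨(1 : ZMod 11), b, c, d⟩) = true)) := by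
  decide +kernel

set_option maxRecDepth 1000000 in
theorem g211Y_spec2 : ∀ b c d : ZMod 11, (2 : ZMod 11) * d - b * c = 1 →
    (Q2.pow ⟨(2 : ZMod 11), b, c, d⟩ 3 = Q2.one ∨ Q2.pow ⟨(2 : ZMod 11), b, c, d⟩ 3 = ⟨10, 0, 0, 10⟩) →
    (⟨(2 : ZMod 11), b, c, d⟩ : Q2 (ZMod 11)) ≠ Q2.one → (⟨(2 : ZMod 11), b, c, d⟩ : Q2 (ZMod 11)) ≠ ⟨10, 0, 0, 10⟩ →
    (Q2.pow (Q2.mul g211A.2 ⟨(2 : ZMod 11), b, c, d⟩) 5 = Q2.one ∨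
      Q2.pow (Q2.mul g211A.2 ⟨(2 : ZMod 11), b, c, d⟩) 5 = ⟨10, 0, 0, 10⟩) →
    ∃ p ∈ g211Y, p.1 = ⟨(2 : ZMod 11), b, c, d⟩ ∧ Q2.det p.2 = 1 ∧
      ((inL g211L (Q2.conj p.2 g211A.2) = true ∧ inL g211L (Q2.conj p.2 ⟨(2 : ZMod 11), b, c, d⟩) = true) ∨
       (inL g211K (Q2.conj p.2 g211A.2) = true ∧ inL g211K (Q2.conj p.2 ⟨(2 : ZMod 11), b, c, d⟩) = true)) := by
  decide +kernel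

set_option maxRecDepth 1000000 in
theorem g211Y_spec3 : ∀ b c d : ZMod 11, (3 : ZMod 11) * d - b * c = 1 →
    (Q2.pow ⟨(3 : ZMod 11), b, c, d⟩ 3 = Q2.one ∨ Q2.pow ⟨(3 : ZMod 11), b, c, d⟩ 3 = ⟨10, 0, 0, 10⟩) →
    (⟨(3 : ZMod 11), b, c, d⟩ : Q2 (ZMod 11)) ≠ Q2.one → (⟨(3 : ZMod 11), b, c, d⟩ : Q2 (ZMod 11)) ≠ ⟨10, 0, 0, 10⟩ →
    (Q2.pow (Q2.mul g211A.2 ⟨(3 : ZMod 11), b, c, d⟩) 5 = Q2.one ∨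
      Q2.pow (Q2.mul g211A.2 ⟨(3 : ZMod 11), b, c, d⟩) 5 = ⟨10, 0, 0, 10⟩) →
    ∃ p ∈ g211Y, p.1 = ⟨(3 : ZMod 11), b, c, d⟩ ∧ Q2.det p.2 = 1 ∧
      ((inL g211L (Q2.conj p.2 g211A.2) = true ∧ inL g211L (Q2.conj p.2 ⟨(3 : ZMod 11), b, c, d⟩) = true) ∨
       (inL g211K (Q2.conj p.2 g211A.2) = true ∧ inL g211K (Q2.conj p.2 ⟨(3 : ZMod 11), b, c, d⟩) = true)) := by
  decide +kernel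

set_option maxRecDepth 1000000 in
theorem g211Y_spec4 : ∀ b c d : ZMod 11, (4 : ZMod 11) * d - b * c = 1 →
    (Q2.pow ⟨(4 : ZMod 11), b, c, d⟩ 3 = Q2.one ∨ Q2.pow ⟨(4 : ZMod 11), b, c, d⟩ 3 = ⟨10, 0, 0, 10⟩) →
    (⟨(4 : ZMod 11), b, c, d⟩ : Q2 (ZMod 11)) ≠ Q2.one → (⟨(4 : ZMod 11), b, c, d⟩ : Q2 (ZMod 11)) ≠ ⟨10, 0, 0, 10⟩ →
    (Q2.pow (Q2.mul g211A.2 ⟨(4 : ZMod 11), b, c, d⟩) 5 = Q2.one ∨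
      Q2.pow (Q2.mul g211A.2 ⟨(4 : ZMod 11), b, c, d⟩) 5 = ⟨10, 0, 0, 10⟩) →
    ∃ p ∈ g211Y, p.1 = ⟨(4 : ZMod 11), b, c, d⟩ ∧ Q2.det p.2 = 1 ∧
      ((inL g211L (Q2.conj p.2 g211A.2) = true ∧ inL g211L (Q2.conj p.2 ⟨(4 : ZMod 11), b, c, d⟩) = true) ∨
       (inL g211K (Q2.conj p.2 g211A.2) = true ∧ inL g211K (Q2.conj p.2 ⟨(4 : ZMod 11), b, c, d⟩) = true)) := by
  decide +kernel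

set_option maxRecDepth 1000000 in
theorem g211Y_spec5 : ∀ b c d : ZMod 11, (5 : ZMod 11) * d - b * c = 1 →
    (Q2.pow ⟨(5 : ZMod 11), b, c, d⟩ 3 = Q2.one ∨ Q2.pow ⟨(5 : ZMod 11), b, c, d⟩ 3 = ⟨10, 0, 0, 10⟩) →
    (⟨(5 : ZMod 11), b, c, d⟩ : Q2 (ZMod 11)) ≠ Q2.one → (⟨(5 : ZMod 11), b, c, d⟩ : Q2 (ZMod 11)) ≠ ⟨10, 0, 0, 10⟩ →
    (Q2.pow (Q2.mul g211A.2 ⟨(5 : ZMod 11), b, c, d⟩) 5 = Q2.one ∨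
      Q2.pow (Q2.mul g211A.2 ⟨(5 : ZMod 11), b, c, d⟩) 5 = ⟨10, 0, 0, 10⟩) →
    ∃ p ∈ g211Y, p.1 = ⟨(5 : ZMod 11), b, c, d⟩ ∧ Q2.det p.2 = 1 ∧
      ((inL g211L (Q2.conj p.2 g211A.2) = true ∧ inL g211L (Q2.conj p.2 ⟨(5 : ZMod 11), b, c, d⟩) = true) ∨
       (inL g211K (Q2.conj p.2 g211A.2) = true ∧ inL g211K (Q2.conj p.2 ⟨(5 : ZMod 11), b, c, d⟩) = true)) := by
  decide +kernel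

set_option maxRecDepth 1000000 in
theorem g211Y_spec6 : ∀ b c d : ZMod 11, (6 : ZMod 11) * d - b * c = 1 →
    (Q2.pow ⟨(6 : ZMod 11), b, c, d⟩ 3 = Q2.one ∨ Q2.pow ⟨(6 : ZMod 11), b, c, d⟩ 3 = ⟨10, 0, 0, 10⟩) →
    (⟨(6 : ZMod 11), b, c, d⟩ : Q2 (ZMod 11)) ≠ Q2.one → (⟨(6 : ZMod 11), b, c, d⟩ : Q2 (ZMod 11)) ≠ ⟨10, 0, 0, 10⟩ →
    (Q2.pow (Q2.mul g211A.2 ⟨(6 : ZMod 11), b, c, d⟩) 5 = Q2.one ∨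
      Q2.pow (Q2.mul g211A.2 ⟨(6 : ZMod 11), b, c, d⟩) 5 = ⟨10, 0, 0, 10⟩) →
    ∃ p ∈ g211Y, p.1 = ⟨(6 : ZMod 11), b, c, d⟩ ∧ Q2.det p.2 = 1 ∧
      ((inL g211L (Q2.conj p.2 g211A.2) = true ∧ inL g211L (Q2.conj p.2 ⟨(6 : ZMod 11), b, c, d⟩) = true) ∨
       (inL g211K (Q2.conj p.2 g211A.2) = true ∧ inL g211K (Q2.conj p.2 ⟨(6 : ZMod 11), b, c, d⟩) = true)) := by
  decide +kernel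

set_option maxRecDepth 1000000 in
theorem g211Y_spec7 : ∀ b c d : ZMod 11, (7 : ZMod 11) * d - b * c = 1 →
    (Q2.pow ⟨(7 : ZMod 11), b, c, d⟩ 3 = Q2.one ∨ Q2.pow ⟨(7 : ZMod 11), b, c, d⟩ 3 = ⟨10, 0, 0, 10⟩) →
    (⟨(7 : ZMod 11), b, c, d⟩ : Q2 (ZMod 11)) ≠ Q2.one → (⟨(7 : ZMod 11), b, c, d⟩ : Q2 (ZMod 11)) ≠ ⟨10, 0, 0, 10⟩ →
    (Q2.pow (Q2.mul g211A.2 ⟨(7 : ZMod 11), b, c, d⟩) 5 = Q2.one ∨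
      Q2.pow (Q2.mul g211A.2 ⟨(7 : ZMod 11), b, c, d⟩) 5 = ⟨10, 0, 0, 10⟩) →
    ∃ p ∈ g211Y, p.1 = ⟨(7 : ZMod 11), b, c, d⟩ ∧ Q2.det p.2 = 1 ∧
      ((inL g211L (Q2.conj p.2 g211A.2) = true ∧ inL g211L (Q2.conj p.2 ⟨(7 : ZMod 11), b, c, d⟩) = true) ∨
       (inL g211K (Q2.conj p.2 g211A.2) = true ∧ inL g211K (Q2.conj p.2 ⟨(7 : ZMod 11), b, c, d⟩) = true)) := by
  decide +kernel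

set_option maxRecDepth 1000000 in
theorem g211Y_spec8 : ∀ b c d : ZMod 11, (8 : ZMod 11) * d - b * c = 1 →
    (Q2.pow ⟨(8 : ZMod 11), b, c, d⟩ 3 = Q2.one ∨ Q2.pow ⟨(8 : ZMod 11), b, c, d⟩ 3 = ⟨10, 0, 0, 10⟩) →
    (⟨(8 : ZMod 11), b, c, d⟩ : Q2 (ZMod 11)) ≠ Q2.one → (⟨(8 : ZMod 11), b, c, d⟩ : Q2 (ZMod 11)) ≠ ⟨10, 0, 0, 10⟩ →
    (Q2.pow (Q2.mul g211A.2 ⟨(8 : ZMod 11), b, c, d⟩) 5 = Q2.one ∨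
      Q2.pow (Q2.mul g211A.2 ⟨(8 : ZMod 11), b, c, d⟩) 5 = ⟨10, 0, 0, 10⟩) →
    ∃ p ∈ g211Y, p.1 = ⟨(8 : ZMod 11), b, c, d⟩ ∧ Q2.det p.2 = 1 ∧
      ((inL g211L (Q2.conj p.2 g211A.2) = true ∧ inL g211L (Q2.conj p.2 ⟨(8 : ZMod 11), b, c, d⟩) = true) ∨
       (inL g211K (Q2.conj p.2 g211A.2) = true ∧ inL g211K (Q2.conj p.2 ⟨(8 : ZMod 11), b, c, d⟩) = true)) := by
  decide +kernel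

set_option maxRecDepth 1000000 in
theorem g211Y_spec9 : ∀ b c d : ZMod 11, (9 : ZMod 11) * d - b * c = 1 →
    (Q2.pow ⟨(9 : ZMod 11), b, c, d⟩ 3 = Q2.one ∨ Q2.pow ⟨(9 : ZMod 11), b, c, d⟩ 3 = ⟨10, 0, 0, 10⟩) →
    (⟨(9 : ZMod 11), b, c, d⟩ : Q2 (ZMod 11)) ≠ Q2.one → (⟨(9 : ZMod 11), b, c, d⟩ : Q2 (ZMod 11)) ≠ ⟨10, 0, 0, 10⟩ →
    (Q2.pow (Q2.mul g211A.2 ⟨(9 : ZMod 11), b, c, d⟩) 5 = Q2.one ∨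
      Q2.pow (Q2.mul g211A.2 ⟨(9 : ZMod 11), b, c, d⟩) 5 = ⟨10, 0, 0, 10⟩) →
    ∃ p ∈ g211Y, p.1 = ⟨(9 : ZMod 11), b, c, d⟩ ∧ Q2.det p.2 = 1 ∧
      ((inL g211L (Q2.conj p.2 g211A.2) = true ∧ inL g211L (Q2.conj p.2 ⟨(9 : ZMod 11), b, c, d⟩) = true) ∨
       (inL g211K (Q2.conj p.2 g211A.2) = true ∧ inL g211K (Q2.conj p.2 ⟨(9 : ZMod 11), b, c, d⟩) = true)) := by
  decide +kernel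

set_option maxRecDepth 1000000 in
theorem g211Y_spec10 : ∀ b c d : ZMod 11, (10 : ZMod 11) * d - b * c = 1 →
    (Q2.pow ⟨(10 : ZMod 11), b, c, d⟩ 3 = Q2.one ∨ Q2.pow ⟨(10 : ZMod 11), b, c, d⟩ 3 = ⟨10, 0, 0, 10⟩) →
    (⟨(10 : ZMod 11), b, c, d⟩ : Q2 (ZMod 11)) ≠ Q2.one → (⟨(10 : ZMod 11), b, c, d⟩ : Q2 (ZMod 11)) ≠ ⟨10, 0, 0, 10⟩ →
    (Q2.pow (Q2.mul g211A.2 ⟨(10 : ZMod 11), b, c, d⟩) 5 = Q2.one ∨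
      Q2.pow (Q2.mul g211A.2 ⟨(10 : ZMod 11), b, c, d⟩) 5 = ⟨10, 0, 0, 10⟩) →
    ∃ p ∈ g211Y, p.1 = ⟨(10 : ZMod 11), b, c, d⟩ ∧ Q2.det p.2 = 1 ∧
      ((inL g211L (Q2.conj p.2 g211A.2) = true ∧ inL g211L (Q2.conj p.2 ⟨(10 : ZMod 11), b, c, d⟩) = true) ∨
       (inL g211K (Q2.conj p.2 g211A.2) = true ∧ inL g211K (Q2.conj p.2 ⟨(10 : ZMod 11), b, c, d⟩) = true)) := by
  decide +kernel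

/-- Every `n` of order 3 with `a · n` of order 5 is conjugate, together with `a`, into one of the two
copies. -/
theorem g211Y_spec : ∀ a b c d : ZMod 11, a * d - b * c = 1 →
    (Q2.pow ⟨a, b, c, d⟩ 3 = Q2.one ∨ Q2.pow ⟨a, b, c, d⟩ 3 = ⟨10, 0, 0, 10⟩) →
    (⟨a, b, c, d⟩ : Q2 (ZMod 11)) ≠ Q2.one → (⟨a, b, c, d⟩ : Q2 (ZMod 11)) ≠ ⟨10, 0, 0, 10⟩ →
    (Q2.pow (Q2.mul g211A.2 ⟨a, b, c, d⟩) 5 = Q2.one ∨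
      Q2.pow (Q2.mul g211A.2 ⟨a, b, c, d⟩) 5 = ⟨10, 0, 0, 10⟩) →
    ∃ p ∈ g211Y, p.1 = ⟨a, b, c, d⟩ ∧ Q2.det p.2 = 1 ∧
      ((inL g211L (Q2.conj p.2 g211A.2) = true ∧ inL g211L (Q2.conj p.2 ⟨a, b, c, d⟩) = true) ∨
       (inL g211K (Q2.conj p.2 g211A.2) = true ∧ inL g211K (Q2.conj p.2 ⟨a, b, c, d⟩) = true)) := by
  intro a
  rcases zmod11_cases a with rfl | rfl | rfl | rfl | rfl | rfl | rfl | rfl | rfl | rfl | rfl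
  exacts [g211Y_spec0, g211Y_spec1, g211Y_spec2, g211Y_spec3, g211Y_spec4, g211Y_spec5, g211Y_spec6,
    g211Y_spec7, g211Y_spec8, g211Y_spec9, g211Y_spec10]

set_option maxRecDepth 1000000 in
theorem g211_HK : ∀ t : ZMod 11, ∃ c ∈ g211L,
    inL g211K (Q2.mul (Q2.mul ⟨1, t, 0, 1⟩ c.2) ⟨1, -t, 0, 1⟩) = false := by
  decide +kernel

set_option maxRecDepth 1000000 in
theorem g211_HH : ∀ t : ZMod 11, t ≠ 0 → ∃ c ∈ g211L,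
    inL g211L (Q2.mul (Q2.mul ⟨1, t, 0, 1⟩ c.2) ⟨1, -t, 0, 1⟩) = false := by
  decide +kernel

set_option maxRecDepth 1000000 in
theorem g211_KK : ∀ t : ZMod 11, t ≠ 0 → ∃ c ∈ g211K,
    inL g211K (Q2.mul (Q2.mul ⟨1, t, 0, 1⟩ c.2) ⟨1, -t, 0, 1⟩) = false := by
  decide +kernel

end Cfsg.Agent.Helper57
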