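import Cfsg.Agent.Helper57.ListSub
import Cfsg.Agent.Helper57.QMat

/-!
# The graph of a homomorphism `SL(2, 7) → SL(3, 2)` (seat helper57)

`g27L` lists the 336 pairs `(g, φ g)`; the certificates show that the list is stable under right
multiplication by the two generating pairs `(T, A)`, `(T', B)`, where `T`, `T'` are the elementary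
transvections of `SL(2, 7)`.
-/

set_option autoImplicit false

namespace Cfsg.Agent.Helper57

/-- codes: a 2×2 matrix mod 7 and a 3×3 matrix mod 2 -/
abbrev C27 : Type := Q2 (ZMod 7) × Q3 (ZMod 2)

/-- componentwise product of codes -/
def c27mul (x y : C27) : C27 := (Q2.mul x.1 y.1, Q3.mul x.2 y.2)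

set_option maxRecDepth 1000000 in
/-- The 336 pairs of the graph. -/
def g27L : List C27 := [
  (⟨1, 0, 0, 1⟩, ⟨1, 0, 0, 0, 1, 0, 0, 0, 1⟩),
  (⟨1, 1, 0, 1⟩, ⟨0, 0, 1, 0, 1, 1, 1, 1, 0⟩),
  (⟨1, 0, 1, 1⟩, ⟨0, 0, 1, 1, 0, 1, 0, 1, 0⟩),
  (⟨1, 2, 0, 1⟩, ⟨1, 1, 0, 1, 0, 1, 0, 1, 0⟩),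
  (⟨2, 1, 1, 1⟩, ⟨0, 1, 0, 1, 1, 1, 1, 0, 0⟩),
  (⟨1, 1, 1, 2⟩, ⟨1, 1, 0, 1, 1, 1, 0, 1, 1⟩),
  (⟨1, 0, 2, 1⟩, ⟨0, 1, 0, 0, 1, 1, 1, 0, 1⟩),
  (⟨1, 3, 0, 1⟩, ⟨0, 1, 0, 1, 1, 1, 0, 1, 1⟩),
  (⟨3, 2, 1, 1⟩, ⟨1, 0, 0, 0, 1, 1, 1, 0, 1⟩),
  (⟨2, 3, 1, 2⟩, ⟨0, 1, 1, 1, 0, 0, 0, 0, 1⟩),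
  (⟨3, 1, 2, 1⟩, ⟨1, 0, 1, 1, 1, 0, 0, 0, 1⟩),
  (⟨1, 2, 1, 3⟩, ⟨0, 1, 0, 1, 0, 0, 1, 0, 1⟩),
  (⟨2, 1, 3, 2⟩, ⟨1, 0, 0, 1, 1, 0, 1, 1, 1⟩),
  (⟨1, 1, 2, 3⟩, ⟨0, 1, 1, 1, 0, 1, 1, 1, 1⟩),
  (⟨1, 0, 3, 1⟩, ⟨1, 0, 1, 1, 1, 1, 0, 1, 1⟩),
  (⟨1, 4, 0, 1⟩, ⟨0, 1, 1, 1, 0, 0, 1, 0, 1⟩),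
  (⟨4, 3, 1, 1⟩, ⟨1, 0, 1, 1, 1, 0, 1, 1, 1⟩),
  (⟨3, 5, 1, 2⟩, ⟨0, 0, 1, 1, 0, 1, 1, 1, 1⟩),
  (⟨5, 2, 2, 1⟩, ⟨0, 0, 1, 1, 1, 1, 0, 1, 1⟩),
  (⟨2, 5, 1, 3⟩, ⟨1, 0, 1, 0, 0, 1, 1, 1, 0⟩),
  (⟨5, 3, 3, 2⟩, ⟨1, 1, 1, 0, 0, 1, 0, 1, 0⟩),
  (⟨3, 4, 2, 3⟩, ⟨1, 1, 1, 0, 1, 0, 1, 1, 0⟩),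
  (⟨4, 1, 3, 1⟩, ⟨0, 1, 1, 1, 0, 0, 0, 1, 0⟩),
  (⟨1, 3, 1, 4⟩, ⟨0, 1, 1, 0, 0, 1, 1, 1, 1⟩),
  (⟨3, 2, 4, 3⟩, ⟨1, 0, 1, 0, 0, 1, 0, 1, 1⟩),
  (⟨2, 3, 3, 5⟩, ⟨0, 0, 1, 0, 1, 0, 1, 0, 0⟩),
  (⟨3, 1, 5, 2⟩, ⟨0, 0, 1, 1, 0, 0, 1, 1, 0⟩),
  (⟨1, 2, 2, 5⟩, ⟨1, 0, 1, 1, 1, 1, 1, 0, 0⟩),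
  (⟨2, 1, 5, 3⟩, ⟨1, 1, 1, 0, 1, 1, 1, 1, 0⟩),
  (⟨1, 1, 3, 4⟩, ⟨1, 1, 1, 1, 0, 0, 1, 0, 1⟩),
  (⟨1, 0, 4, 1⟩, ⟨0, 1, 1, 1, 1, 0, 1, 1, 1⟩),
  (⟨1, 5, 0, 1⟩, ⟨1, 0, 1, 0, 0, 1, 1, 1, 1⟩),
  (⟨5, 4, 1, 1⟩, ⟨1, 1, 1, 0, 0, 1, 0, 1, 1⟩),
  (⟨4, 0, 1, 2⟩, ⟨1, 1, 1, 0, 1, 0, 1, 0, 0⟩),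
  (⟨0, 3, 2, 1⟩, ⟨0, 1, 1, 1, 0, 0, 1, 1, 0⟩),
  (⟨3, 1, 1, 3⟩, ⟨1, 1, 0, 1, 1, 1, 1, 0, 0⟩),
  (⟨1, 5, 3, 2⟩, ⟨0, 1, 0, 0, 1, 1, 1, 1, 0⟩),
  (⟨5, 0, 2, 3⟩, ⟨1, 1, 0, 1, 0, 0, 1, 0, 1⟩),
  (⟨0, 2, 3, 1⟩, ⟨0, 1, 0, 1, 1, 0, 1, 1, 1⟩),
  (⟨2, 0, 1, 4⟩, ⟨1, 1, 1, 1, 1, 0, 0, 1, 0⟩),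
  (⟨0, 5, 4, 3⟩, ⟨0, 1, 1, 0, 1, 0, 1, 0, 0⟩),
  (⟨5, 1, 3, 5⟩, ⟨1, 0, 0, 1, 1, 0, 0, 1, 1⟩),
  (⟨1, 3, 5, 2⟩, ⟨1, 1, 0, 0, 1, 0, 1, 0, 1⟩),
  (⟨3, 0, 2, 5⟩, ⟨1, 0, 0, 0, 1, 1, 0, 1, 0⟩),
  (⟨0, 4, 5, 3⟩, ⟨1, 1, 0, 1, 0, 1, 1, 0, 0⟩),
  (⟨4, 5, 3, 4⟩, ⟨1, 0, 1, 0, 0, 1, 0, 1, 1⟩),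
  (⟨5, 1, 4, 1⟩, ⟨1, 1, 1, 0, 0, 1, 1, 0, 1⟩),
  (⟨1, 4, 1, 5⟩, ⟨1, 0, 1, 1, 1, 0, 1, 0, 0⟩),
  (⟨4, 3, 5, 4⟩, ⟨1, 1, 1, 0, 1, 0, 1, 1, 0⟩),
  (⟨3, 5, 4, 0⟩, ⟨1, 1, 1, 1, 1, 0, 1, 0, 1⟩),
  (⟨5, 2, 0, 3⟩, ⟨0, 1, 1, 0, 1, 0, 1, 1, 1⟩),
  (⟨2, 5, 3, 1⟩, ⟨1, 1, 0, 0, 1, 1, 0, 0, 1⟩),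
  (⟨5, 3, 1, 5⟩, ⟨0, 1, 0, 1, 0, 1, 0, 0, 1⟩),
  (⟨3, 4, 5, 0⟩, ⟨1, 1, 0, 0, 0, 1, 0, 1, 0⟩),
  (⟨4, 1, 0, 2⟩, ⟨0, 1, 0, 0, 0, 1, 1, 0, 0⟩),
  (⟨1, 3, 2, 0⟩, ⟨1, 1, 1, 1, 0, 0, 0, 0, 1⟩),
  (⟨3, 2, 0, 5⟩, ⟨0, 1, 1, 1, 1, 0, 0, 0, 1⟩),
  (⟨2, 3, 5, 1⟩, ⟨1, 0, 0, 1, 0, 1, 0, 1, 0⟩),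
  (⟨1, 2, 3, 0⟩, ⟨1, 0, 0, 0, 0, 1, 1, 1, 1⟩),
  (⟨2, 1, 0, 4⟩, ⟨1, 1, 0, 0, 0, 1, 0, 1, 1⟩),
  (⟨1, 1, 4, 5⟩, ⟨1, 0, 1, 0, 1, 0, 1, 0, 0⟩),
  (⟨1, 0, 5, 1⟩, ⟨1, 1, 1, 1, 0, 0, 1, 1, 0⟩),
  (⟨1, 6, 0, 1⟩, ⟨1, 1, 1, 1, 1, 0, 1, 0, 0⟩),
  (⟨6, 5, 1, 1⟩, ⟨0, 1, 1, 0, 1, 0, 1, 1, 0⟩),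
  (⟨5, 2, 1, 2⟩, ⟨1, 0, 0, 1, 1, 0, 1, 0, 1⟩),
  (⟨2, 4, 2, 1⟩, ⟨1, 1, 0, 0, 1, 0, 1, 1, 1⟩),
  (⟨4, 4, 1, 3⟩, ⟨1, 0, 0, 0, 1, 1, 0, 0, 1⟩),
  (⟨4, 0, 3, 2⟩, ⟨1, 1, 0, 1, 0, 1, 0, 0, 1⟩),
  (⟨0, 3, 2, 3⟩, ⟨1, 0, 1, 0, 0, 1, 0, 1, 0⟩),
  (⟨3, 3, 3, 1⟩, ⟨1, 1, 1, 0, 0, 1, 1, 0, 0⟩),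
  (⟨3, 4, 1, 4⟩, ⟨0, 1, 0, 1, 0, 0, 0, 0, 1⟩),
  (⟨4, 1, 4, 3⟩, ⟨1, 0, 0, 1, 1, 0, 0, 0, 1⟩),
  (⟨1, 6, 3, 5⟩, ⟨0, 1, 1, 1, 0, 1, 0, 1, 0⟩),
  (⟨6, 5, 5, 2⟩, ⟨1, 0, 1, 1, 1, 1, 1, 0, 0⟩),
  (⟨5, 5, 2, 5⟩, ⟨0, 1, 0, 0, 0, 1, 1, 1, 1⟩),
  (⟨5, 0, 5, 3⟩, ⟨1, 0, 0, 0, 0, 1, 0, 1, 1⟩),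
  (⟨0, 2, 3, 4⟩, ⟨0, 1, 1, 0, 1, 0, 1, 0, 0⟩),
  (⟨2, 2, 4, 1⟩, ⟨1, 0, 1, 1, 0, 0, 1, 1, 0⟩),
  (⟨2, 2, 1, 5⟩, ⟨1, 0, 0, 0, 1, 0, 0, 1, 1⟩),
  (⟨2, 0, 5, 4⟩, ⟨1, 1, 0, 1, 0, 0, 1, 0, 1⟩),
  (⟨0, 5, 4, 0⟩, ⟨1, 0, 1, 0, 1, 1, 0, 0, 1⟩),
  (⟨5, 5, 0, 3⟩, ⟨1, 1, 1, 1, 0, 1, 0, 0, 1⟩),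
  (⟨5, 6, 3, 1⟩, ⟨0, 0, 1, 0, 1, 0, 1, 0, 1⟩),
  (⟨6, 1, 1, 5⟩, ⟨0, 0, 1, 1, 0, 0, 1, 1, 1⟩),
  (⟨1, 4, 5, 0⟩, ⟨0, 1, 0, 0, 1, 1, 1, 1, 1⟩),
  (⟨4, 3, 0, 2⟩, ⟨1, 0, 0, 1, 0, 1, 0, 1, 1⟩),
  (⟨3, 3, 2, 0⟩, ⟨0, 0, 1, 1, 0, 1, 0, 1, 1⟩),
  (⟨3, 0, 0, 5⟩, ⟨0, 0, 1, 1, 1, 1, 1, 0, 1⟩),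
  (⟨0, 4, 5, 1⟩, ⟨0, 1, 0, 1, 1, 1, 0, 0, 1⟩),
  (⟨4, 2, 3, 0⟩, ⟨1, 1, 1, 1, 1, 0, 1, 0, 1⟩),
  (⟨2, 5, 0, 4⟩, ⟨0, 1, 1, 0, 1, 0, 1, 1, 1⟩),
  (⟨5, 6, 4, 5⟩, ⟨1, 0, 0, 1, 1, 0, 1, 1, 1⟩),
  (⟨6, 1, 5, 1⟩, ⟨1, 1, 0, 0, 1, 0, 0, 1, 1⟩),
  (⟨1, 5, 1, 6⟩, ⟨1, 1, 1, 0, 1, 0, 0, 0, 1⟩),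
  (⟨5, 4, 6, 5⟩, ⟨0, 1, 1, 1, 0, 0, 0, 0, 1⟩),
  (⟨4, 0, 5, 2⟩, ⟨1, 0, 0, 0, 1, 1, 0, 1, 0⟩),
  (⟨0, 3, 2, 4⟩, ⟨1, 1, 0, 1, 0, 1, 1, 0, 0⟩),
  (⟨3, 1, 4, 4⟩, ⟨1, 0, 0, 0, 1, 0, 1, 1, 1⟩),
  (⟨1, 5, 4, 0⟩, ⟨1, 1, 0, 1, 0, 0, 0, 1, 1⟩),
  (⟨5, 0, 0, 3⟩, ⟨1, 0, 1, 0, 1, 1, 1, 0, 0⟩),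
  (⟨0, 2, 3, 3⟩, ⟨1, 1, 1, 1, 0, 1, 1, 1, 0⟩),
  (⟨2, 0, 3, 4⟩, ⟨0, 1, 0, 1, 0, 1, 1, 1, 0⟩),
  (⟨0, 5, 4, 1⟩, ⟨1, 0, 0, 1, 1, 1, 0, 1, 0⟩),
  (⟨5, 1, 1, 6⟩, ⟨0, 1, 1, 1, 1, 1, 1, 1, 0⟩),
  (⟨1, 3, 6, 5⟩, ⟨1, 0, 1, 0, 1, 1, 0, 1, 0⟩),
  (⟨3, 0, 5, 5⟩, ⟨0, 1, 0, 1, 1, 0, 0, 1, 1⟩),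
  (⟨0, 4, 5, 0⟩, ⟨1, 0, 0, 0, 1, 0, 1, 0, 1⟩),
  (⟨4, 5, 0, 2⟩, ⟨0, 1, 1, 1, 1, 0, 0, 0, 1⟩),
  (⟨5, 1, 2, 2⟩, ⟨1, 0, 1, 0, 1, 0, 0, 0, 1⟩),
  (⟨1, 4, 2, 2⟩, ⟨1, 0, 0, 0, 0, 1, 1, 1, 0⟩),
  (⟨4, 3, 2, 0⟩, ⟨1, 1, 0, 0, 0, 1, 0, 1, 0⟩),
  (⟨3, 5, 0, 5⟩, ⟨1, 0, 1, 0, 1, 0, 1, 1, 0⟩),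
  (⟨5, 2, 5, 5⟩, ⟨1, 1, 1, 1, 0, 0, 0, 1, 0⟩),
  (⟨2, 5, 5, 6⟩, ⟨0, 0, 1, 1, 1, 1, 0, 1, 1⟩),
  (⟨5, 3, 6, 1⟩, ⟨0, 0, 1, 0, 1, 1, 1, 0, 1⟩),
  (⟨1, 3, 3, 3⟩, ⟨0, 0, 1, 1, 1, 0, 1, 0, 0⟩),
  (⟨3, 2, 3, 0⟩, ⟨0, 0, 1, 0, 1, 0, 1, 1, 0⟩),
  (⟨2, 3, 0, 4⟩, ⟨0, 1, 0, 1, 1, 0, 1, 0, 1⟩),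
  (⟨1, 2, 4, 2⟩, ⟨1, 1, 1, 0, 1, 1, 0, 0, 1⟩),
  (⟨2, 1, 2, 5⟩, ⟨0, 1, 1, 1, 0, 1, 0, 0, 1⟩),
  (⟨1, 1, 5, 6⟩, ⟨1, 0, 0, 0, 0, 1, 0, 1, 0⟩),
  (⟨1, 0, 6, 1⟩, ⟨1, 1, 0, 0, 0, 1, 1, 0, 0⟩),
  (⟨0, 6, 1, 1⟩, ⟨1, 1, 0, 1, 0, 0, 0, 0, 1⟩),
  (⟨6, 4, 1, 2⟩, ⟨1, 0, 1, 0, 1, 1, 0, 1, 0⟩),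
  (⟨4, 5, 2, 1⟩, ⟨1, 1, 1, 1, 0, 1, 1, 0, 0⟩),
  (⟨5, 0, 1, 3⟩, ⟨0, 0, 1, 0, 1, 0, 1, 1, 1⟩),
  (⟨0, 2, 3, 2⟩, ⟨0, 0, 1, 1, 0, 0, 0, 1, 1⟩),
  (⟨2, 6, 2, 3⟩, ⟨0, 1, 0, 0, 1, 1, 1, 0, 0⟩),
  (⟨6, 4, 3, 1⟩, ⟨1, 0, 0, 1, 0, 1, 1, 1, 0⟩),
  (⟨4, 1, 1, 4⟩, ⟨0, 0, 1, 1, 0, 1, 1, 1, 0⟩),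
  (⟨1, 4, 4, 3⟩, ⟨0, 0, 1, 1, 1, 1, 0, 1, 0⟩),
  (⟨4, 4, 3, 5⟩, ⟨0, 1, 0, 1, 1, 1, 1, 1, 0⟩),
  (⟨0, 3, 2, 5⟩, ⟨1, 1, 1, 1, 1, 0, 0, 1, 1⟩),
  (⟨3, 3, 5, 3⟩, ⟨0, 1, 1, 0, 1, 0, 1, 0, 1⟩),
  (⟨3, 6, 3, 4⟩, ⟨1, 0, 0, 1, 1, 0, 0, 0, 1⟩),
  (⟨6, 3, 4, 1⟩, ⟨1, 1, 0, 0, 1, 0, 0, 0, 1⟩),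
  (⟨3, 0, 1, 5⟩, ⟨0, 1, 1, 0, 0, 1, 1, 1, 0⟩),
  (⟨0, 4, 5, 4⟩, ⟨1, 0, 1, 0, 0, 1, 0, 1, 0⟩),
  (⟨4, 5, 4, 0⟩, ⟨0, 0, 1, 0, 1, 0, 1, 1, 0⟩),
  (⟨5, 1, 0, 3⟩, ⟨0, 0, 1, 1, 0, 0, 0, 1, 0⟩),
  (⟨0, 6, 1, 5⟩, ⟨1, 1, 1, 0, 1, 1, 1, 0, 1⟩),
  (⟨6, 4, 5, 0⟩, ⟨1, 1, 1, 1, 0, 0, 0, 0, 1⟩),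
  (⟨5, 3, 2, 0⟩, ⟨0, 1, 1, 1, 1, 0, 1, 0, 0⟩),
  (⟨5, 5, 5, 1⟩, ⟨0, 0, 1, 1, 1, 0, 1, 0, 1⟩),
  (⟨0, 2, 3, 0⟩, ⟨1, 0, 1, 0, 1, 1, 0, 0, 1⟩),
  (⟨2, 2, 0, 4⟩, ⟨1, 1, 1, 1, 0, 1, 0, 0, 1⟩),
  (⟨2, 4, 4, 5⟩, ⟨1, 1, 1, 0, 0, 1, 0, 1, 0⟩),
  (⟨4, 2, 5, 1⟩, ⟨0, 1, 1, 0, 0, 1, 1, 0, 0⟩),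
  (⟨2, 4, 1, 6⟩, ⟨0, 0, 1, 0, 1, 1, 1, 0, 1⟩),
  (⟨4, 2, 6, 5⟩, ⟨0, 0, 1, 1, 0, 1, 1, 1, 1⟩),
  (⟨2, 2, 5, 2⟩, ⟨0, 1, 0, 0, 0, 1, 1, 1, 1⟩),
  (⟨2, 0, 2, 4⟩, ⟨1, 0, 0, 0, 0, 1, 0, 1, 1⟩),
  (⟨0, 5, 4, 4⟩, ⟨1, 1, 1, 1, 0, 1, 1, 1, 0⟩),
  (⟨5, 5, 4, 0⟩, ⟨0, 1, 1, 1, 1, 1, 0, 1, 0⟩),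
  (⟨5, 3, 0, 3⟩, ⟨1, 0, 0, 1, 1, 1, 1, 1, 0⟩),
  (⟨3, 5, 3, 3⟩, ⟨1, 1, 0, 0, 1, 1, 0, 1, 0⟩),
  (⟨5, 4, 3, 4⟩, ⟨1, 1, 0, 0, 1, 1, 1, 1, 1⟩),
  (⟨4, 6, 4, 1⟩, ⟨0, 1, 0, 1, 0, 1, 0, 1, 1⟩),
  (⟨6, 0, 1, 6⟩, ⟨1, 1, 0, 0, 0, 1, 1, 0, 0⟩),
  (⟨0, 1, 6, 5⟩, ⟨0, 1, 0, 0, 0, 1, 1, 1, 0⟩),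
  (⟨1, 5, 5, 5⟩, ⟨0, 1, 1, 1, 0, 1, 1, 0, 0⟩),
  (⟨5, 4, 5, 0⟩, ⟨1, 0, 1, 1, 1, 1, 1, 1, 0⟩),
  (⟨4, 0, 0, 2⟩, ⟨0, 0, 1, 1, 1, 1, 1, 0, 1⟩),
  (⟨0, 3, 2, 2⟩, ⟨0, 0, 1, 0, 1, 1, 1, 1, 1⟩),
  (⟨3, 6, 2, 2⟩, ⟨1, 1, 0, 1, 1, 1, 1, 0, 1⟩),
  (⟨6, 3, 2, 0⟩, ⟨0, 1, 0, 0, 1, 1, 1, 1, 1⟩),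
  (⟨3, 3, 0, 5⟩, ⟨1, 1, 0, 1, 0, 0, 1, 1, 1⟩),
  (⟨0, 4, 5, 6⟩, ⟨0, 1, 1, 1, 0, 0, 1, 1, 0⟩),
  (⟨4, 4, 6, 1⟩, ⟨1, 0, 1, 1, 1, 0, 0, 1, 0⟩),
  (⟨4, 6, 3, 3⟩, ⟨1, 0, 0, 0, 1, 0, 1, 1, 1⟩),
  (⟨6, 2, 3, 0⟩, ⟨1, 1, 0, 1, 0, 0, 0, 1, 1⟩),
  (⟨2, 0, 0, 4⟩, ⟨1, 0, 1, 0, 1, 1, 1, 0, 0⟩),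
  (⟨5, 4, 4, 2⟩, ⟨0, 0, 1, 0, 1, 0, 1, 0, 0⟩),
  (⟨4, 6, 2, 5⟩, ⟨0, 0, 1, 1, 0, 0, 1, 1, 0⟩),
  (⟨6, 0, 5, 6⟩, ⟨0, 1, 0, 0, 1, 1, 1, 0, 1⟩),
  (⟨0, 1, 6, 1⟩, ⟨1, 0, 0, 1, 0, 1, 1, 1, 1⟩),
  (⟨1, 6, 1, 0⟩, ⟨1, 0, 0, 0, 1, 1, 1, 1, 0⟩),
  (⟨6, 5, 0, 6⟩, ⟨1, 1, 0, 1, 0, 1, 0, 1, 0⟩),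
  (⟨5, 2, 6, 4⟩, ⟨1, 0, 1, 0, 0, 1, 1, 1, 0⟩),
  (⟨4, 4, 5, 0⟩, ⟨0, 0, 1, 1, 0, 1, 0, 1, 1⟩),
  (⟨0, 3, 2, 6⟩, ⟨0, 1, 0, 1, 1, 1, 0, 0, 1⟩),
  (⟨3, 3, 6, 4⟩, ⟨1, 0, 0, 0, 1, 1, 0, 0, 1⟩),
  (⟨3, 4, 4, 1⟩, ⟨0, 0, 1, 0, 1, 1, 1, 0, 0⟩),
  (⟨1, 6, 4, 4⟩, ⟨0, 1, 0, 0, 0, 1, 1, 0, 1⟩),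
  (⟨6, 5, 4, 0⟩, ⟨1, 0, 0, 0, 0, 1, 1, 1, 1⟩),
  (⟨5, 0, 3, 3⟩, ⟨0, 1, 1, 1, 1, 1, 0, 0, 1⟩),
  (⟨0, 2, 3, 6⟩, ⟨1, 0, 0, 1, 1, 1, 0, 1, 0⟩),
  (⟨2, 2, 6, 3⟩, ⟨1, 1, 0, 0, 1, 1, 1, 0, 0⟩),
  (⟨2, 2, 3, 0⟩, ⟨0, 1, 1, 1, 1, 1, 0, 1, 0⟩),
  (⟨0, 5, 4, 5⟩, ⟨0, 0, 1, 1, 0, 0, 0, 1, 1⟩),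
  (⟨5, 6, 1, 0⟩, ⟨1, 0, 1, 1, 0, 0, 0, 1, 0⟩),
  (⟨6, 1, 0, 6⟩, ⟨1, 1, 1, 1, 1, 0, 1, 0, 0⟩),
  (⟨1, 4, 6, 4⟩, ⟨1, 1, 1, 1, 0, 1, 0, 1, 1⟩),
  (⟨4, 3, 4, 5⟩, ⟨0, 1, 1, 1, 1, 1, 1, 0, 1⟩),
  (⟨3, 0, 3, 5⟩, ⟨1, 0, 1, 1, 0, 0, 1, 1, 1⟩),
  (⟨0, 4, 5, 5⟩, ⟨0, 0, 1, 0, 1, 1, 1, 1, 1⟩),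
  (⟨4, 2, 0, 2⟩, ⟨1, 0, 1, 0, 1, 0, 1, 1, 0⟩),
  (⟨2, 5, 2, 2⟩, ⟨1, 1, 1, 1, 0, 0, 0, 1, 0⟩),
  (⟨5, 6, 2, 4⟩, ⟨1, 1, 1, 0, 1, 1, 1, 1, 0⟩),
  (⟨6, 1, 4, 2⟩, ⟨0, 1, 1, 1, 0, 1, 0, 1, 0⟩),
  (⟨1, 5, 2, 4⟩, ⟨0, 0, 1, 1, 1, 0, 0, 1, 0⟩),
  (⟨4, 0, 2, 2⟩, ⟨0, 1, 0, 1, 1, 0, 0, 1, 1⟩),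
  (⟨0, 3, 2, 0⟩, ⟨1, 0, 0, 0, 1, 0, 1, 0, 1⟩),
  (⟨3, 1, 0, 5⟩, ⟨1, 1, 1, 0, 1, 1, 0, 1, 0⟩),
  (⟨0, 2, 3, 5⟩, ⟨1, 1, 0, 0, 0, 1, 1, 0, 1⟩),
  (⟨0, 5, 4, 6⟩, ⟨0, 1, 0, 1, 1, 0, 1, 1, 1⟩),
  (⟨5, 1, 6, 0⟩, ⟨1, 1, 0, 1, 0, 1, 1, 1, 1⟩),
  (⟨1, 4, 3, 6⟩, ⟨1, 1, 0, 0, 1, 0, 0, 0, 1⟩),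
  (⟨4, 3, 6, 3⟩, ⟨0, 1, 0, 1, 0, 0, 0, 0, 1⟩),
  (⟨5, 2, 3, 0⟩, ⟨0, 1, 0, 1, 0, 1, 1, 0, 0⟩),
  (⟨5, 3, 4, 4⟩, ⟨1, 0, 1, 1, 0, 0, 0, 1, 1⟩),
  (⟨1, 3, 4, 6⟩, ⟨1, 0, 0, 1, 0, 1, 1, 1, 0⟩),
  (⟨3, 2, 6, 2⟩, ⟨1, 1, 0, 1, 1, 1, 0, 1, 0⟩),
  (⟨2, 3, 2, 0⟩, ⟨1, 0, 1, 1, 1, 1, 1, 1, 0⟩),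
  (⟨1, 2, 5, 4⟩, ⟨0, 0, 1, 1, 1, 0, 0, 1, 1⟩),
  (⟨2, 1, 4, 6⟩, ⟨0, 0, 1, 0, 1, 0, 1, 0, 1⟩),
  (⟨1, 1, 6, 0⟩, ⟨0, 1, 0, 1, 1, 0, 0, 0, 1⟩),
  (⟨0, 6, 1, 2⟩, ⟨0, 1, 0, 0, 0, 1, 1, 1, 0⟩),
  (⟨6, 6, 2, 1⟩, ⟨1, 0, 0, 0, 0, 1, 0, 1, 0⟩),
  (⟨6, 3, 1, 3⟩, ⟨1, 1, 1, 1, 0, 1, 0, 1, 1⟩),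
  (⟨3, 4, 3, 2⟩, ⟨0, 1, 1, 1, 1, 1, 1, 0, 1⟩),
  (⟨4, 2, 2, 3⟩, ⟨1, 0, 0, 1, 1, 1, 0, 0, 1⟩),
  (⟨5, 5, 1, 4⟩, ⟨1, 1, 0, 0, 1, 1, 1, 0, 0⟩),
  (⟨5, 0, 4, 3⟩, ⟨0, 1, 0, 1, 0, 1, 1, 1, 0⟩),
  (⟨1, 6, 5, 3⟩, ⟨1, 0, 1, 1, 1, 1, 0, 0, 1⟩),
  (⟨6, 3, 3, 4⟩, ⟨0, 0, 1, 1, 1, 1, 0, 1, 0⟩),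
  (⟨4, 5, 1, 5⟩, ⟨1, 1, 0, 1, 1, 1, 0, 1, 0⟩),
  (⟨5, 1, 5, 4⟩, ⟨0, 1, 0, 0, 1, 1, 1, 0, 0⟩),
  (⟨5, 4, 0, 3⟩, ⟨0, 1, 0, 1, 1, 0, 1, 0, 1⟩),
  (⟨3, 6, 5, 1⟩, ⟨1, 0, 1, 0, 1, 1, 1, 1, 1⟩),
  (⟨2, 6, 0, 4⟩, ⟨0, 0, 1, 1, 0, 0, 0, 1, 0⟩),
  (⟨6, 2, 4, 5⟩, ⟨0, 1, 0, 0, 1, 1, 1, 1, 0⟩),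
  (⟨3, 3, 1, 6⟩, ⟨1, 0, 1, 1, 1, 0, 0, 1, 0⟩),
  (⟨3, 0, 6, 5⟩, ⟨1, 1, 1, 0, 1, 0, 1, 0, 0⟩),
  (⟨0, 4, 5, 2⟩, ⟨1, 1, 1, 1, 1, 0, 0, 1, 1⟩),
  (⟨4, 4, 2, 4⟩, ⟨0, 1, 1, 0, 1, 0, 1, 0, 1⟩),
  (⟨4, 2, 4, 4⟩, ⟨1, 1, 0, 0, 1, 1, 0, 1, 0⟩),
  (⟨2, 5, 4, 0⟩, ⟨0, 1, 0, 1, 0, 1, 1, 0, 0⟩),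
  (⟨5, 6, 0, 3⟩, ⟨1, 1, 0, 0, 0, 1, 0, 1, 1⟩),
  (⟨6, 1, 3, 3⟩, ⟨0, 1, 0, 0, 0, 1, 1, 0, 1⟩),
  (⟨0, 6, 1, 6⟩, ⟨1, 0, 0, 1, 0, 1, 1, 1, 1⟩),
  (⟨6, 6, 6, 5⟩, ⟨1, 1, 0, 1, 1, 1, 0, 1, 1⟩),
  (⟨6, 3, 5, 5⟩, ⟨1, 0, 0, 0, 0, 1, 1, 1, 0⟩),
  (⟨5, 3, 5, 6⟩, ⟨1, 1, 0, 0, 1, 0, 1, 1, 1⟩),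
  (⟨3, 5, 6, 1⟩, ⟨0, 1, 0, 1, 0, 0, 0, 1, 1⟩),
  (⟨2, 4, 0, 4⟩, ⟨1, 0, 0, 1, 1, 1, 1, 1, 0⟩),
  (⟨2, 6, 4, 2⟩, ⟨1, 0, 0, 1, 1, 0, 0, 1, 1⟩),
  (⟨6, 4, 2, 5⟩, ⟨1, 1, 0, 0, 1, 0, 1, 0, 1⟩),
  (⟨4, 6, 5, 6⟩, ⟨1, 0, 1, 1, 1, 0, 0, 0, 1⟩),
  (⟨6, 2, 6, 1⟩, ⟨1, 1, 1, 0, 1, 0, 0, 0, 1⟩),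
  (⟨2, 6, 1, 0⟩, ⟨1, 1, 0, 1, 0, 1, 1, 1, 1⟩),
  (⟨6, 4, 0, 6⟩, ⟨0, 1, 0, 1, 1, 1, 0, 1, 1⟩),
  (⟨4, 6, 6, 4⟩, ⟨1, 1, 0, 1, 1, 1, 1, 0, 0⟩),
  (⟨2, 4, 5, 0⟩, ⟨0, 1, 1, 1, 1, 0, 1, 0, 0⟩),
  (⟨2, 2, 2, 6⟩, ⟨0, 0, 1, 1, 1, 0, 1, 0, 1⟩),
  (⟨2, 0, 6, 4⟩, ⟨0, 0, 1, 0, 1, 0, 1, 1, 1⟩),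
  (⟨3, 1, 3, 6⟩, ⟨0, 1, 0, 1, 0, 1, 0, 1, 1⟩),
  (⟨1, 5, 6, 3⟩, ⟨1, 0, 0, 1, 1, 1, 1, 0, 1⟩),
  (⟨6, 6, 1, 0⟩, ⟨0, 1, 0, 1, 1, 0, 0, 0, 1⟩),
  (⟨6, 0, 0, 6⟩, ⟨1, 0, 0, 0, 1, 0, 0, 0, 1⟩),
  (⟨0, 1, 6, 4⟩, ⟨0, 1, 1, 1, 1, 0, 0, 1, 0⟩),
  (⟨6, 5, 3, 5⟩, ⟨1, 1, 1, 0, 1, 1, 0, 0, 1⟩),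
  (⟨4, 4, 0, 2⟩, ⟨1, 1, 0, 1, 0, 0, 1, 1, 1⟩),
  (⟨3, 3, 4, 2⟩, ⟨0, 1, 0, 1, 1, 1, 1, 1, 0⟩),
  (⟨3, 2, 2, 4⟩, ⟨0, 1, 0, 1, 0, 0, 1, 1, 1⟩),
  (⟨6, 2, 2, 2⟩, ⟨0, 1, 1, 1, 0, 1, 1, 0, 0⟩),
  (⟨3, 6, 0, 5⟩, ⟨0, 1, 0, 0, 0, 1, 1, 0, 0⟩),
  (⟨4, 4, 4, 6⟩, ⟨1, 1, 1, 0, 0, 1, 1, 0, 0⟩),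
  (⟨4, 1, 6, 0⟩, ⟨1, 1, 1, 0, 1, 0, 0, 1, 1⟩),
  (⟨4, 3, 3, 6⟩, ⟨0, 0, 1, 0, 1, 1, 1, 0, 0⟩),
  (⟨3, 6, 6, 3⟩, ⟨0, 0, 1, 1, 0, 1, 1, 1, 0⟩),
  (⟨2, 0, 4, 4⟩, ⟨0, 1, 1, 1, 1, 1, 0, 0, 1⟩),
  (⟨5, 2, 4, 6⟩, ⟨1, 1, 0, 0, 1, 1, 0, 0, 1⟩),
  (⟨2, 4, 6, 2⟩, ⟨0, 1, 0, 1, 0, 1, 0, 0, 1⟩),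
  (⟨6, 6, 5, 4⟩, ⟨0, 1, 1, 1, 0, 1, 1, 1, 1⟩),
  (⟨6, 0, 4, 6⟩, ⟨1, 0, 1, 1, 1, 1, 0, 1, 1⟩),
  (⟨0, 1, 6, 0⟩, ⟨0, 0, 1, 1, 1, 1, 1, 0, 0⟩),
  (⟨0, 6, 1, 0⟩, ⟨0, 0, 1, 1, 1, 1, 1, 0, 0⟩),
  (⟨4, 5, 6, 6⟩, ⟨1, 0, 0, 0, 1, 1, 1, 0, 1⟩),
  (⟨5, 0, 6, 3⟩, ⟨1, 1, 1, 1, 1, 0, 0, 1, 0⟩),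
  (⟨4, 1, 5, 5⟩, ⟨1, 1, 0, 1, 1, 1, 1, 0, 1⟩),
  (⟨3, 0, 4, 5⟩, ⟨1, 1, 0, 1, 0, 1, 0, 0, 1⟩),
  (⟨0, 6, 1, 4⟩, ⟨1, 0, 1, 0, 1, 0, 0, 1, 1⟩),
  (⟨6, 4, 4, 4⟩, ⟨0, 0, 1, 1, 1, 0, 1, 0, 0⟩),
  (⟨5, 5, 3, 6⟩, ⟨1, 0, 1, 1, 0, 0, 1, 1, 0⟩),
  (⟨2, 4, 3, 3⟩, ⟨1, 0, 1, 1, 0, 0, 0, 1, 1⟩),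
  (⟨0, 5, 4, 2⟩, ⟨1, 1, 0, 0, 0, 1, 1, 0, 1⟩),
  (⟨4, 6, 1, 0⟩, ⟨0, 1, 1, 0, 0, 1, 1, 0, 1⟩),
  (⟨0, 1, 6, 6⟩, ⟨1, 1, 0, 1, 0, 0, 0, 0, 1⟩),
  (⟨4, 0, 4, 2⟩, ⟨1, 0, 1, 1, 0, 0, 1, 1, 1⟩),
  (⟨4, 6, 0, 2⟩, ⟨1, 1, 1, 0, 1, 1, 0, 1, 0⟩),
  (⟨5, 4, 2, 6⟩, ⟨1, 0, 0, 1, 0, 1, 0, 1, 0⟩),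
  (⟨0, 1, 6, 2⟩, ⟨1, 1, 1, 0, 1, 1, 1, 0, 1⟩),
  (⟨1, 6, 2, 6⟩, ⟨1, 1, 0, 0, 1, 0, 0, 1, 1⟩),
  (⟨6, 5, 6, 4⟩, ⟨0, 1, 0, 1, 0, 0, 1, 0, 1⟩),
  (⟨3, 4, 0, 5⟩, ⟨1, 0, 0, 1, 0, 1, 0, 1, 1⟩),
  (⟨5, 6, 6, 6⟩, ⟨0, 1, 0, 1, 1, 1, 1, 0, 0⟩),
  (⟨6, 1, 6, 0⟩, ⟨1, 0, 0, 0, 1, 1, 1, 1, 0⟩),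
  (⟨4, 0, 6, 2⟩, ⟨0, 1, 1, 0, 0, 1, 1, 1, 0⟩),
  (⟨2, 3, 4, 3⟩, ⟨1, 1, 0, 0, 1, 1, 1, 1, 1⟩),
  (⟨1, 2, 6, 6⟩, ⟨0, 1, 1, 0, 1, 0, 1, 1, 0⟩),
  (⟨2, 1, 6, 0⟩, ⟨1, 0, 1, 1, 0, 0, 0, 1, 0⟩),
  (⟨0, 6, 1, 3⟩, ⟨0, 1, 1, 1, 1, 0, 0, 1, 0⟩),
  (⟨6, 6, 3, 2⟩, ⟨1, 0, 1, 0, 1, 0, 1, 0, 0⟩),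
  (⟨6, 5, 2, 3⟩, ⟨0, 0, 1, 1, 1, 0, 0, 1, 1⟩),
  (⟨6, 2, 1, 4⟩, ⟨1, 0, 0, 1, 1, 1, 1, 0, 1⟩),
  (⟨6, 2, 5, 3⟩, ⟨0, 0, 1, 1, 1, 0, 0, 1, 0⟩),
  (⟨3, 5, 5, 4⟩, ⟨1, 0, 0, 1, 1, 1, 0, 0, 1⟩),
  (⟨4, 2, 1, 6⟩, ⟨0, 1, 0, 1, 0, 0, 0, 1, 1⟩),
  (⟨2, 5, 6, 5⟩, ⟨1, 0, 0, 1, 1, 0, 1, 0, 1⟩),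
  (⟨5, 6, 5, 2⟩, ⟨0, 1, 1, 1, 0, 1, 0, 0, 1⟩),
  (⟨6, 1, 2, 4⟩, ⟨1, 0, 1, 1, 1, 1, 0, 0, 1⟩),
  (⟨3, 2, 5, 6⟩, ⟨1, 1, 1, 1, 0, 1, 1, 0, 0⟩),
  (⟨2, 6, 6, 1⟩, ⟨0, 1, 1, 1, 1, 1, 1, 1, 0⟩),
  (⟨3, 6, 1, 0⟩, ⟨1, 1, 1, 0, 1, 0, 0, 1, 1⟩),
  (⟨6, 3, 0, 6⟩, ⟨0, 1, 1, 1, 0, 0, 1, 0, 1⟩),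
  (⟨4, 1, 2, 6⟩, ⟨1, 0, 1, 0, 1, 1, 1, 1, 1⟩),
  (⟨6, 0, 3, 6⟩, ⟨0, 1, 1, 1, 1, 0, 1, 1, 1⟩),
  (⟨0, 1, 6, 3⟩, ⟨1, 0, 1, 0, 1, 0, 0, 1, 1⟩),
  (⟨6, 6, 0, 6⟩, ⟨0, 0, 1, 0, 1, 1, 1, 1, 0⟩),
  (⟨3, 1, 6, 0⟩, ⟨0, 1, 1, 0, 0, 1, 1, 0, 1⟩),
  (⟨1, 6, 6, 2⟩, ⟨0, 0, 1, 1, 0, 0, 1, 1, 1⟩),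
  (⟨3, 6, 4, 6⟩, ⟨0, 1, 1, 1, 0, 0, 0, 1, 0⟩),
  (⟨3, 4, 6, 6⟩, ⟨1, 0, 1, 1, 1, 0, 1, 1, 1⟩),
  (⟨2, 6, 5, 5⟩, ⟨1, 0, 1, 0, 1, 0, 0, 0, 1⟩),
  (⟨6, 0, 6, 6⟩, ⟨0, 0, 1, 1, 0, 1, 0, 1, 0⟩),
  (⟨6, 3, 6, 2⟩, ⟨1, 0, 1, 1, 1, 0, 1, 0, 0⟩),
  (⟨3, 5, 2, 6⟩, ⟨0, 1, 1, 0, 0, 1, 1, 0, 0⟩),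
  (⟨6, 6, 4, 3⟩, ⟨1, 1, 1, 1, 0, 0, 1, 0, 1⟩),
  (⟨5, 5, 6, 2⟩, ⟨1, 0, 0, 0, 1, 0, 0, 1, 1⟩),
  (⟨4, 5, 5, 3⟩, ⟨0, 1, 0, 1, 0, 0, 1, 1, 1⟩),
  (⟨2, 6, 3, 6⟩, ⟨1, 1, 1, 0, 0, 1, 1, 0, 1⟩),
  (⟨6, 4, 6, 3⟩, ⟨0, 1, 1, 0, 0, 1, 1, 1, 1⟩),
  (⟨2, 3, 6, 6⟩, ⟨1, 1, 1, 0, 0, 1, 0, 1, 1⟩),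
  (⟨6, 2, 0, 6⟩, ⟨1, 0, 1, 0, 0, 1, 1, 1, 1⟩),
  (⟨6, 0, 2, 6⟩, ⟨1, 1, 1, 1, 0, 0, 1, 1, 0⟩)]

/-- the generating pair `(T, A)` -/
def g27A : C27 := (⟨1, 1, 0, 1⟩, ⟨0, 0, 1, 0, 1, 1, 1, 1, 0⟩)
/-- the generating pair `(T', B)` -/
def g27B : C27 := (⟨1, 0, 1, 1⟩, ⟨0, 0, 1, 1, 0, 1, 0, 1, 0⟩)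

set_option maxRecDepth 1000000 in
theorem g27L_one : ((Q2.one, Q3.one) : C27) ∈ g27L := by decide +kernel

set_option maxRecDepth 1000000 in
theorem g27L_mulA : ∀ x ∈ g27L, c27mul x g27A ∈ g27L := by decide +kernel

set_option maxRecDepth 1000000 in
theorem g27L_mulB : ∀ x ∈ g27L, c27mul x g27B ∈ g27L := by decide +kernel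

set_option maxRecDepth 1000000 in
theorem g27L_fst_one : ∀ x ∈ g27L, x.1 = Q2.one → x.2 = Q3.one := by decide +kernel

set_option maxRecDepth 1000000 in
theorem g27L_fst_neg_one : ∀ x ∈ g27L, x.1 = ⟨6, 0, 0, 6⟩ → x.2 = Q3.one := by decide +kernel

end Cfsg.Agent.Helper57
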