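import Cfsg.Agent.Helper57.SU33
import Cfsg.Agent.Helper57.ListSub
import Cfsg.Agent.Helper57.QMat

/-!
# The graph of a homomorphism `SL(2, 7) → SU(3, 3)` (seat helper57)

`g73L` lists the 336 pairs `(g, φ g)` with `g` a 2×2 matrix mod 7 and `φ g` a unitary 3×3 matrix over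
`K9`; the certificates show that the list is stable under right multiplication by the two generating pairs
`(T, A)`, `(T', B)`.
-/

set_option autoImplicit false

namespace Cfsg.Agent.Helper57

/-- codes: a 2×2 matrix mod 7 and a 3×3 matrix over `K9` -/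
abbrev C73 : Type := Q2 (ZMod 7) × Q3 K9

/-- componentwise product of codes -/
def c73mul (x y : C73) : C73 := (Q2.mul x.1 y.1, Q3.mul x.2 y.2)

set_option maxRecDepth 1000000 in
/-- The 336 pairs of the graph. -/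
def g73L : List C73 := [
  (⟨1, 0, 0, 1⟩, ⟨⟨1, 0⟩, ⟨0, 0⟩, ⟨0, 0⟩, ⟨0, 0⟩, ⟨1, 0⟩, ⟨0, 0⟩, ⟨0, 0⟩, ⟨0, 0⟩, ⟨1, 0⟩⟩),
  (⟨1, 1, 0, 1⟩, ⟨⟨0, 0⟩, ⟨1, 1⟩, ⟨1, 1⟩, ⟨0, 0⟩, ⟨1, 1⟩, ⟨2, 2⟩, ⟨0, 1⟩, ⟨0, 0⟩, ⟨0, 0⟩⟩),
  (⟨1, 0, 1, 1⟩, ⟨⟨0, 1⟩, ⟨0, 2⟩, ⟨2, 1⟩, ⟨2, 2⟩, ⟨2, 2⟩, ⟨0, 0⟩, ⟨1, 0⟩, ⟨2, 0⟩, ⟨2, 2⟩⟩),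
  (⟨1, 2, 0, 1⟩, ⟨⟨2, 1⟩, ⟨0, 2⟩, ⟨0, 1⟩, ⟨1, 2⟩, ⟨0, 2⟩, ⟨0, 1⟩, ⟨0, 0⟩, ⟨2, 1⟩, ⟨2, 1⟩⟩),
  (⟨2, 1, 1, 1⟩, ⟨⟨1, 2⟩, ⟨2, 0⟩, ⟨0, 1⟩, ⟨2, 0⟩, ⟨1, 2⟩, ⟨0, 2⟩, ⟨2, 0⟩, ⟨1, 0⟩, ⟨2, 2⟩⟩),
  (⟨1, 1, 1, 2⟩, ⟨⟨2, 2⟩, ⟨0, 0⟩, ⟨1, 2⟩, ⟨0, 0⟩, ⟨0, 2⟩, ⟨0, 0⟩, ⟨1, 2⟩, ⟨0, 0⟩, ⟨2, 2⟩⟩),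
  (⟨1, 0, 2, 1⟩, ⟨⟨0, 2⟩, ⟨1, 0⟩, ⟨1, 2⟩, ⟨1, 1⟩, ⟨2, 0⟩, ⟨2, 0⟩, ⟨0, 1⟩, ⟨2, 1⟩, ⟨2, 0⟩⟩),
  (⟨1, 3, 0, 1⟩, ⟨⟨2, 0⟩, ⟨2, 2⟩, ⟨0, 1⟩, ⟨2, 0⟩, ⟨0, 2⟩, ⟨1, 1⟩, ⟨2, 2⟩, ⟨1, 0⟩, ⟨2, 0⟩⟩),
  (⟨3, 2, 1, 1⟩, ⟨⟨1, 1⟩, ⟨0, 1⟩, ⟨1, 0⟩, ⟨0, 0⟩, ⟨1, 2⟩, ⟨1, 1⟩, ⟨1, 1⟩, ⟨0, 2⟩, ⟨2, 0⟩⟩),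
  (⟨2, 3, 1, 2⟩, ⟨⟨2, 0⟩, ⟨1, 2⟩, ⟨0, 1⟩, ⟨1, 0⟩, ⟨1, 2⟩, ⟨0, 2⟩, ⟨1, 2⟩, ⟨0, 0⟩, ⟨1, 1⟩⟩),
  (⟨3, 1, 2, 1⟩, ⟨⟨2, 0⟩, ⟨0, 2⟩, ⟨1, 1⟩, ⟨1, 1⟩, ⟨1, 2⟩, ⟨0, 0⟩, ⟨1, 0⟩, ⟨0, 1⟩, ⟨1, 1⟩⟩),
  (⟨1, 2, 1, 3⟩, ⟨⟨1, 1⟩, ⟨0, 1⟩, ⟨0, 1⟩, ⟨0, 0⟩, ⟨1, 2⟩, ⟨2, 1⟩, ⟨1, 2⟩, ⟨2, 0⟩, ⟨2, 0⟩⟩),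
  (⟨2, 1, 3, 2⟩, ⟨⟨2, 1⟩, ⟨1, 2⟩, ⟨0, 0⟩, ⟨2, 1⟩, ⟨2, 1⟩, ⟨0, 0⟩, ⟨0, 0⟩, ⟨0, 0⟩, ⟨0, 1⟩⟩),
  (⟨1, 1, 2, 3⟩, ⟨⟨1, 1⟩, ⟨2, 0⟩, ⟨0, 1⟩, ⟨0, 2⟩, ⟨2, 1⟩, ⟨1, 0⟩, ⟨0, 2⟩, ⟨0, 1⟩, ⟨1, 1⟩⟩),
  (⟨1, 0, 3, 1⟩, ⟨⟨1, 1⟩, ⟨0, 0⟩, ⟨2, 1⟩, ⟨2, 2⟩, ⟨0, 0⟩, ⟨2, 1⟩, ⟨0, 0⟩, ⟨1, 0⟩, ⟨0, 0⟩⟩),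
  (⟨1, 4, 0, 1⟩, ⟨⟨2, 0⟩, ⟨2, 0⟩, ⟨2, 1⟩, ⟨2, 1⟩, ⟨0, 1⟩, ⟨1, 0⟩, ⟨0, 2⟩, ⟨1, 2⟩, ⟨2, 0⟩⟩),
  (⟨4, 3, 1, 1⟩, ⟨⟨0, 2⟩, ⟨0, 2⟩, ⟨2, 1⟩, ⟨0, 1⟩, ⟨1, 1⟩, ⟨1, 0⟩, ⟨2, 1⟩, ⟨2, 0⟩, ⟨0, 1⟩⟩),
  (⟨3, 5, 1, 2⟩, ⟨⟨0, 1⟩, ⟨2, 0⟩, ⟨1, 1⟩, ⟨2, 1⟩, ⟨2, 0⟩, ⟨1, 0⟩, ⟨0, 2⟩, ⟨1, 1⟩, ⟨2, 0⟩⟩),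
  (⟨5, 2, 2, 1⟩, ⟨⟨1, 0⟩, ⟨1, 1⟩, ⟨0, 2⟩, ⟨2, 1⟩, ⟨0, 2⟩, ⟨0, 1⟩, ⟨0, 2⟩, ⟨1, 0⟩, ⟨2, 1⟩⟩),
  (⟨2, 5, 1, 3⟩, ⟨⟨2, 0⟩, ⟨1, 2⟩, ⟨0, 2⟩, ⟨1, 0⟩, ⟨0, 1⟩, ⟨2, 1⟩, ⟨2, 1⟩, ⟨2, 0⟩, ⟨2, 0⟩⟩),
  (⟨5, 3, 3, 2⟩, ⟨⟨1, 0⟩, ⟨1, 0⟩, ⟨2, 1⟩, ⟨1, 0⟩, ⟨1, 0⟩, ⟨1, 2⟩, ⟨2, 2⟩, ⟨1, 1⟩, ⟨0, 0⟩⟩),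
  (⟨3, 4, 2, 3⟩, ⟨⟨2, 1⟩, ⟨0, 1⟩, ⟨1, 0⟩, ⟨0, 0⟩, ⟨2, 2⟩, ⟨1, 2⟩, ⟨2, 1⟩, ⟨0, 2⟩, ⟨2, 0⟩⟩),
  (⟨4, 1, 3, 1⟩, ⟨⟨0, 1⟩, ⟨1, 1⟩, ⟨1, 0⟩, ⟨0, 1⟩, ⟨2, 2⟩, ⟨1, 0⟩, ⟨2, 1⟩, ⟨0, 0⟩, ⟨2, 2⟩⟩),
  (⟨1, 3, 1, 4⟩, ⟨⟨2, 0⟩, ⟨2, 0⟩, ⟨1, 1⟩, ⟨2, 2⟩, ⟨2, 0⟩, ⟨1, 0⟩, ⟨0, 2⟩, ⟨1, 2⟩, ⟨0, 1⟩⟩),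
  (⟨3, 2, 4, 3⟩, ⟨⟨0, 1⟩, ⟨2, 0⟩, ⟨2, 2⟩, ⟨0, 1⟩, ⟨2, 2⟩, ⟨2, 0⟩, ⟨1, 2⟩, ⟨1, 0⟩, ⟨1, 0⟩⟩),
  (⟨2, 3, 3, 5⟩, ⟨⟨0, 0⟩, ⟨0, 0⟩, ⟨2, 0⟩, ⟨0, 0⟩, ⟨2, 0⟩, ⟨0, 0⟩, ⟨2, 0⟩, ⟨0, 0⟩, ⟨0, 0⟩⟩),
  (⟨3, 1, 5, 2⟩, ⟨⟨0, 2⟩, ⟨2, 1⟩, ⟨0, 1⟩, ⟨1, 2⟩, ⟨0, 1⟩, ⟨0, 1⟩, ⟨0, 1⟩, ⟨0, 2⟩, ⟨1, 2⟩⟩),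
  (⟨1, 2, 2, 5⟩, ⟨⟨2, 0⟩, ⟨2, 1⟩, ⟨1, 0⟩, ⟨0, 1⟩, ⟨2, 2⟩, ⟨0, 2⟩, ⟨2, 1⟩, ⟨0, 0⟩, ⟨2, 1⟩⟩),
  (⟨2, 1, 5, 3⟩, ⟨⟨0, 0⟩, ⟨2, 2⟩, ⟨2, 2⟩, ⟨1, 0⟩, ⟨0, 0⟩, ⟨0, 0⟩, ⟨0, 0⟩, ⟨2, 1⟩, ⟨1, 2⟩⟩),
  (⟨1, 1, 3, 4⟩, ⟨⟨2, 2⟩, ⟨0, 2⟩, ⟨0, 2⟩, ⟨2, 2⟩, ⟨0, 1⟩, ⟨0, 1⟩, ⟨0, 0⟩, ⟨1, 1⟩, ⟨2, 2⟩⟩),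
  (⟨1, 0, 4, 1⟩, ⟨⟨1, 2⟩, ⟨2, 1⟩, ⟨0, 0⟩, ⟨0, 0⟩, ⟨0, 0⟩, ⟨1, 0⟩, ⟨2, 2⟩, ⟨2, 2⟩, ⟨0, 0⟩⟩),
  (⟨1, 5, 0, 1⟩, ⟨⟨2, 2⟩, ⟨1, 1⟩, ⟨0, 0⟩, ⟨0, 1⟩, ⟨0, 1⟩, ⟨2, 2⟩, ⟨0, 2⟩, ⟨0, 2⟩, ⟨2, 2⟩⟩),
  (⟨5, 4, 1, 1⟩, ⟨⟨0, 1⟩, ⟨2, 1⟩, ⟨0, 2⟩, ⟨1, 1⟩, ⟨1, 0⟩, ⟨2, 0⟩, ⟨1, 0⟩, ⟨1, 0⟩, ⟨2, 2⟩⟩),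
  (⟨4, 0, 1, 2⟩, ⟨⟨2, 2⟩, ⟨2, 1⟩, ⟨0, 0⟩, ⟨0, 1⟩, ⟨2, 0⟩, ⟨2, 2⟩, ⟨2, 0⟩, ⟨0, 2⟩, ⟨2, 1⟩⟩),
  (⟨0, 3, 2, 1⟩, ⟨⟨2, 2⟩, ⟨2, 0⟩, ⟨0, 1⟩, ⟨0, 1⟩, ⟨0, 1⟩, ⟨1, 1⟩, ⟨0, 1⟩, ⟨2, 1⟩, ⟨1, 0⟩⟩),
  (⟨3, 1, 1, 3⟩, ⟨⟨2, 1⟩, ⟨1, 0⟩, ⟨0, 2⟩, ⟨0, 1⟩, ⟨0, 2⟩, ⟨2, 1⟩, ⟨0, 2⟩, ⟨1, 1⟩, ⟨1, 0⟩⟩),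
  (⟨1, 5, 3, 2⟩, ⟨⟨1, 2⟩, ⟨1, 0⟩, ⟨2, 0⟩, ⟨1, 0⟩, ⟨1, 2⟩, ⟨2, 0⟩, ⟨0, 1⟩, ⟨0, 1⟩, ⟨2, 2⟩⟩),
  (⟨5, 0, 2, 3⟩, ⟨⟨1, 0⟩, ⟨1, 0⟩, ⟨1, 2⟩, ⟨2, 0⟩, ⟨2, 2⟩, ⟨0, 1⟩, ⟨2, 2⟩, ⟨2, 0⟩, ⟨0, 1⟩⟩),
  (⟨0, 2, 3, 1⟩, ⟨⟨0, 1⟩, ⟨0, 1⟩, ⟨1, 2⟩, ⟨1, 1⟩, ⟨0, 1⟩, ⟨1, 0⟩, ⟨2, 0⟩, ⟨2, 1⟩, ⟨0, 1⟩⟩),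
  (⟨2, 0, 1, 4⟩, ⟨⟨1, 0⟩, ⟨1, 2⟩, ⟨0, 2⟩, ⟨2, 2⟩, ⟨0, 2⟩, ⟨2, 0⟩, ⟨0, 2⟩, ⟨0, 2⟩, ⟨2, 1⟩⟩),
  (⟨0, 5, 4, 3⟩, ⟨⟨1, 1⟩, ⟨1, 2⟩, ⟨0, 0⟩, ⟨0, 1⟩, ⟨2, 0⟩, ⟨1, 1⟩, ⟨2, 0⟩, ⟨0, 2⟩, ⟨1, 2⟩⟩),
  (⟨5, 1, 3, 5⟩, ⟨⟨2, 2⟩, ⟨2, 2⟩, ⟨0, 0⟩, ⟨1, 1⟩, ⟨2, 2⟩, ⟨0, 0⟩, ⟨0, 0⟩, ⟨0, 0⟩, ⟨0, 2⟩⟩),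
  (⟨1, 3, 5, 2⟩, ⟨⟨1, 1⟩, ⟨0, 0⟩, ⟨1, 1⟩, ⟨0, 2⟩, ⟨1, 2⟩, ⟨0, 1⟩, ⟨1, 0⟩, ⟨2, 2⟩, ⟨2, 0⟩⟩),
  (⟨3, 0, 2, 5⟩, ⟨⟨0, 1⟩, ⟨0, 1⟩, ⟨2, 2⟩, ⟨1, 1⟩, ⟨0, 1⟩, ⟨0, 2⟩, ⟨0, 2⟩, ⟨2, 2⟩, ⟨0, 1⟩⟩),
  (⟨0, 4, 5, 3⟩, ⟨⟨1, 1⟩, ⟨1, 0⟩, ⟨2, 0⟩, ⟨1, 1⟩, ⟨2, 0⟩, ⟨1, 0⟩, ⟨0, 0⟩, ⟨1, 2⟩, ⟨1, 2⟩⟩),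
  (⟨4, 5, 3, 4⟩, ⟨⟨0, 1⟩, ⟨2, 0⟩, ⟨2, 2⟩, ⟨0, 1⟩, ⟨2, 2⟩, ⟨2, 0⟩, ⟨1, 2⟩, ⟨1, 0⟩, ⟨1, 0⟩⟩),
  (⟨5, 1, 4, 1⟩, ⟨⟨0, 1⟩, ⟨0, 1⟩, ⟨1, 1⟩, ⟨0, 2⟩, ⟨0, 2⟩, ⟨1, 1⟩, ⟨1, 1⟩, ⟨2, 2⟩, ⟨0, 0⟩⟩),
  (⟨1, 4, 1, 5⟩, ⟨⟨2, 1⟩, ⟨1, 1⟩, ⟨0, 0⟩, ⟨0, 1⟩, ⟨2, 0⟩, ⟨1, 2⟩, ⟨2, 0⟩, ⟨0, 2⟩, ⟨2, 2⟩⟩),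
  (⟨4, 3, 5, 4⟩, ⟨⟨2, 1⟩, ⟨0, 1⟩, ⟨1, 0⟩, ⟨0, 0⟩, ⟨2, 2⟩, ⟨1, 2⟩, ⟨2, 1⟩, ⟨0, 2⟩, ⟨2, 0⟩⟩),
  (⟨3, 5, 4, 0⟩, ⟨⟨1, 2⟩, ⟨1, 0⟩, ⟨0, 2⟩, ⟨0, 2⟩, ⟨2, 2⟩, ⟨2, 0⟩, ⟨0, 1⟩, ⟨0, 1⟩, ⟨1, 2⟩⟩),
  (⟨5, 2, 0, 3⟩, ⟨⟨2, 0⟩, ⟨0, 2⟩, ⟨2, 1⟩, ⟨1, 2⟩, ⟨2, 2⟩, ⟨0, 0⟩, ⟨1, 0⟩, ⟨0, 1⟩, ⟨2, 1⟩⟩),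
  (⟨2, 5, 3, 1⟩, ⟨⟨0, 2⟩, ⟨0, 0⟩, ⟨0, 0⟩, ⟨0, 0⟩, ⟨2, 2⟩, ⟨1, 1⟩, ⟨0, 0⟩, ⟨2, 2⟩, ⟨2, 2⟩⟩),
  (⟨5, 3, 1, 5⟩, ⟨⟨2, 0⟩, ⟨1, 0⟩, ⟨1, 1⟩, ⟨1, 1⟩, ⟨1, 1⟩, ⟨0, 0⟩, ⟨0, 2⟩, ⟨0, 1⟩, ⟨1, 2⟩⟩),
  (⟨3, 4, 5, 0⟩, ⟨⟨2, 0⟩, ⟨2, 2⟩, ⟨0, 2⟩, ⟨2, 0⟩, ⟨1, 1⟩, ⟨0, 2⟩, ⟨1, 1⟩, ⟨0, 0⟩, ⟨1, 2⟩⟩),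
  (⟨4, 1, 0, 2⟩, ⟨⟨0, 1⟩, ⟨1, 2⟩, ⟨2, 0⟩, ⟨2, 1⟩, ⟨0, 0⟩, ⟨1, 1⟩, ⟨2, 0⟩, ⟨2, 2⟩, ⟨0, 2⟩⟩),
  (⟨1, 3, 2, 0⟩, ⟨⟨0, 1⟩, ⟨0, 2⟩, ⟨1, 2⟩, ⟨1, 0⟩, ⟨2, 2⟩, ⟨2, 0⟩, ⟨2, 2⟩, ⟨1, 0⟩, ⟨1, 0⟩⟩),
  (⟨3, 2, 0, 5⟩, ⟨⟨0, 2⟩, ⟨1, 1⟩, ⟨0, 1⟩, ⟨2, 1⟩, ⟨1, 0⟩, ⟨1, 0⟩, ⟨1, 0⟩, ⟨2, 0⟩, ⟨2, 1⟩⟩),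
  (⟨2, 3, 5, 1⟩, ⟨⟨1, 2⟩, ⟨0, 1⟩, ⟨0, 2⟩, ⟨0, 0⟩, ⟨1, 1⟩, ⟨1, 1⟩, ⟨1, 1⟩, ⟨1, 0⟩, ⟨2, 0⟩⟩),
  (⟨1, 2, 3, 0⟩, ⟨⟨1, 0⟩, ⟨1, 0⟩, ⟨2, 2⟩, ⟨2, 0⟩, ⟨2, 2⟩, ⟨1, 0⟩, ⟨1, 2⟩, ⟨0, 2⟩, ⟨0, 1⟩⟩),
  (⟨2, 1, 0, 4⟩, ⟨⟨0, 2⟩, ⟨1, 0⟩, ⟨1, 1⟩, ⟨2, 2⟩, ⟨0, 2⟩, ⟨0, 2⟩, ⟨2, 0⟩, ⟨1, 2⟩, ⟨0, 2⟩⟩),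
  (⟨1, 1, 4, 5⟩, ⟨⟨0, 0⟩, ⟨0, 0⟩, ⟨1, 0⟩, ⟨0, 1⟩, ⟨0, 0⟩, ⟨0, 0⟩, ⟨0, 0⟩, ⟨0, 2⟩, ⟨0, 0⟩⟩),
  (⟨1, 0, 5, 1⟩, ⟨⟨0, 1⟩, ⟨1, 2⟩, ⟨0, 2⟩, ⟨1, 0⟩, ⟨2, 0⟩, ⟨2, 2⟩, ⟨1, 1⟩, ⟨2, 0⟩, ⟨2, 0⟩⟩),
  (⟨1, 6, 0, 1⟩, ⟨⟨0, 0⟩, ⟨0, 0⟩, ⟨0, 2⟩, ⟨1, 2⟩, ⟨1, 2⟩, ⟨0, 0⟩, ⟨1, 2⟩, ⟨2, 1⟩, ⟨0, 0⟩⟩),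
  (⟨6, 5, 1, 1⟩, ⟨⟨1, 0⟩, ⟨2, 2⟩, ⟨2, 0⟩, ⟨2, 1⟩, ⟨0, 0⟩, ⟨2, 1⟩, ⟨2, 0⟩, ⟨2, 2⟩, ⟨1, 0⟩⟩),
  (⟨5, 2, 1, 2⟩, ⟨⟨1, 0⟩, ⟨0, 1⟩, ⟨1, 1⟩, ⟨0, 2⟩, ⟨1, 0⟩, ⟨2, 1⟩, ⟨1, 2⟩, ⟨2, 2⟩, ⟨0, 0⟩⟩),
  (⟨2, 4, 2, 1⟩, ⟨⟨1, 2⟩, ⟨0, 1⟩, ⟨1, 0⟩, ⟨0, 0⟩, ⟨1, 1⟩, ⟨2, 1⟩, ⟨1, 2⟩, ⟨0, 2⟩, ⟨2, 0⟩⟩),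
  (⟨4, 4, 1, 3⟩, ⟨⟨0, 0⟩, ⟨1, 1⟩, ⟨2, 1⟩, ⟨1, 2⟩, ⟨1, 0⟩, ⟨0, 2⟩, ⟨2, 2⟩, ⟨0, 1⟩, ⟨1, 0⟩⟩),
  (⟨4, 0, 3, 2⟩, ⟨⟨0, 2⟩, ⟨1, 1⟩, ⟨2, 0⟩, ⟨2, 0⟩, ⟨0, 2⟩, ⟨2, 1⟩, ⟨1, 1⟩, ⟨0, 1⟩, ⟨0, 2⟩⟩),
  (⟨0, 3, 2, 3⟩, ⟨⟨2, 0⟩, ⟨2, 0⟩, ⟨1, 2⟩, ⟨2, 1⟩, ⟨1, 2⟩, ⟨0, 0⟩, ⟨0, 1⟩, ⟨0, 1⟩, ⟨1, 1⟩⟩),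
  (⟨3, 3, 3, 1⟩, ⟨⟨2, 1⟩, ⟨0, 1⟩, ⟨0, 2⟩, ⟨1, 0⟩, ⟨1, 1⟩, ⟨2, 0⟩, ⟨2, 0⟩, ⟨2, 0⟩, ⟨1, 1⟩⟩),
  (⟨3, 4, 1, 4⟩, ⟨⟨1, 0⟩, ⟨2, 1⟩, ⟨0, 2⟩, ⟨2, 2⟩, ⟨0, 0⟩, ⟨1, 2⟩, ⟨0, 1⟩, ⟨1, 1⟩, ⟨1, 0⟩⟩),
  (⟨4, 1, 4, 3⟩, ⟨⟨1, 0⟩, ⟨0, 1⟩, ⟨2, 2⟩, ⟨0, 2⟩, ⟨1, 0⟩, ⟨1, 2⟩, ⟨2, 1⟩, ⟨1, 1⟩, ⟨0, 0⟩⟩),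
  (⟨1, 6, 3, 5⟩, ⟨⟨0, 2⟩, ⟨0, 1⟩, ⟨1, 2⟩, ⟨0, 2⟩, ⟨0, 1⟩, ⟨2, 1⟩, ⟨1, 2⟩, ⟨1, 2⟩, ⟨0, 0⟩⟩),
  (⟨6, 5, 5, 2⟩, ⟨⟨2, 0⟩, ⟨2, 1⟩, ⟨1, 0⟩, ⟨0, 1⟩, ⟨2, 2⟩, ⟨0, 2⟩, ⟨2, 1⟩, ⟨0, 0⟩, ⟨2, 1⟩⟩),
  (⟨5, 5, 2, 5⟩, ⟨⟨1, 1⟩, ⟨2, 2⟩, ⟨0, 0⟩, ⟨2, 0⟩, ⟨2, 0⟩, ⟨2, 1⟩, ⟨2, 0⟩, ⟨2, 0⟩, ⟨1, 2⟩⟩),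
  (⟨5, 0, 5, 3⟩, ⟨⟨0, 2⟩, ⟨1, 2⟩, ⟨0, 1⟩, ⟨0, 2⟩, ⟨0, 2⟩, ⟨2, 1⟩, ⟨2, 1⟩, ⟨0, 1⟩, ⟨0, 2⟩⟩),
  (⟨0, 2, 3, 4⟩, ⟨⟨1, 1⟩, ⟨1, 2⟩, ⟨0, 0⟩, ⟨0, 1⟩, ⟨2, 0⟩, ⟨1, 1⟩, ⟨2, 0⟩, ⟨0, 2⟩, ⟨1, 2⟩⟩),
  (⟨2, 2, 4, 1⟩, ⟨⟨1, 1⟩, ⟨1, 0⟩, ⟨0, 2⟩, ⟨1, 0⟩, ⟨1, 1⟩, ⟨0, 2⟩, ⟨2, 0⟩, ⟨2, 0⟩, ⟨2, 1⟩⟩),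
  (⟨2, 2, 1, 5⟩, ⟨⟨1, 0⟩, ⟨0, 1⟩, ⟨2, 1⟩, ⟨0, 2⟩, ⟨1, 0⟩, ⟨2, 2⟩, ⟨2, 2⟩, ⟨2, 1⟩, ⟨0, 0⟩⟩),
  (⟨2, 0, 5, 4⟩, ⟨⟨1, 0⟩, ⟨1, 0⟩, ⟨1, 2⟩, ⟨2, 0⟩, ⟨2, 2⟩, ⟨0, 1⟩, ⟨2, 2⟩, ⟨2, 0⟩, ⟨0, 1⟩⟩),
  (⟨0, 5, 4, 0⟩, ⟨⟨0, 0⟩, ⟨2, 2⟩, ⟨1, 2⟩, ⟨2, 1⟩, ⟨1, 0⟩, ⟨0, 2⟩, ⟨1, 1⟩, ⟨0, 1⟩, ⟨1, 0⟩⟩),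
  (⟨5, 5, 0, 3⟩, ⟨⟨0, 1⟩, ⟨2, 2⟩, ⟨1, 0⟩, ⟨1, 2⟩, ⟨1, 0⟩, ⟨2, 0⟩, ⟨0, 2⟩, ⟨1, 0⟩, ⟨2, 2⟩⟩),
  (⟨5, 6, 3, 1⟩, ⟨⟨0, 0⟩, ⟨0, 2⟩, ⟨0, 0⟩, ⟨0, 0⟩, ⟨0, 0⟩, ⟨0, 1⟩, ⟨1, 0⟩, ⟨0, 0⟩, ⟨0, 0⟩⟩),
  (⟨6, 1, 1, 5⟩, ⟨⟨1, 1⟩, ⟨2, 0⟩, ⟨2, 0⟩, ⟨2, 0⟩, ⟨1, 1⟩, ⟨1, 0⟩, ⟨0, 2⟩, ⟨0, 1⟩, ⟨2, 1⟩⟩),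
  (⟨1, 4, 5, 0⟩, ⟨⟨2, 1⟩, ⟨0, 2⟩, ⟨0, 2⟩, ⟨2, 0⟩, ⟨0, 2⟩, ⟨2, 2⟩, ⟨0, 2⟩, ⟨1, 2⟩, ⟨1, 0⟩⟩),
  (⟨4, 3, 0, 2⟩, ⟨⟨0, 2⟩, ⟨0, 1⟩, ⟨1, 1⟩, ⟨2, 1⟩, ⟨0, 2⟩, ⟨2, 0⟩, ⟨2, 0⟩, ⟨1, 1⟩, ⟨0, 2⟩⟩),
  (⟨3, 3, 2, 0⟩, ⟨⟨1, 2⟩, ⟨1, 2⟩, ⟨0, 0⟩, ⟨1, 0⟩, ⟨2, 0⟩, ⟨1, 1⟩, ⟨2, 0⟩, ⟨1, 0⟩, ⟨1, 1⟩⟩),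
  (⟨3, 0, 0, 5⟩, ⟨⟨2, 1⟩, ⟨0, 0⟩, ⟨2, 1⟩, ⟨0, 2⟩, ⟨2, 2⟩, ⟨0, 1⟩, ⟨1, 0⟩, ⟨2, 1⟩, ⟨2, 0⟩⟩),
  (⟨0, 4, 5, 1⟩, ⟨⟨0, 2⟩, ⟨1, 0⟩, ⟨2, 1⟩, ⟨0, 1⟩, ⟨2, 1⟩, ⟨1, 0⟩, ⟨1, 1⟩, ⟨2, 0⟩, ⟨1, 0⟩⟩),
  (⟨4, 2, 3, 0⟩, ⟨⟨1, 2⟩, ⟨1, 0⟩, ⟨0, 2⟩, ⟨0, 2⟩, ⟨2, 2⟩, ⟨2, 0⟩, ⟨0, 1⟩, ⟨0, 1⟩, ⟨1, 2⟩⟩),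
  (⟨2, 5, 0, 4⟩, ⟨⟨2, 0⟩, ⟨0, 2⟩, ⟨2, 1⟩, ⟨1, 2⟩, ⟨2, 2⟩, ⟨0, 0⟩, ⟨1, 0⟩, ⟨0, 1⟩, ⟨2, 1⟩⟩),
  (⟨5, 6, 4, 5⟩, ⟨⟨2, 1⟩, ⟨1, 2⟩, ⟨0, 0⟩, ⟨2, 1⟩, ⟨2, 1⟩, ⟨0, 0⟩, ⟨0, 0⟩, ⟨0, 0⟩, ⟨0, 1⟩⟩),
  (⟨6, 1, 5, 1⟩, ⟨⟨1, 0⟩, ⟨1, 1⟩, ⟨2, 0⟩, ⟨1, 2⟩, ⟨0, 0⟩, ⟨1, 2⟩, ⟨2, 0⟩, ⟨1, 1⟩, ⟨1, 0⟩⟩),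
  (⟨1, 5, 1, 6⟩, ⟨⟨0, 0⟩, ⟨1, 2⟩, ⟨1, 1⟩, ⟨1, 1⟩, ⟨1, 0⟩, ⟨0, 2⟩, ⟨1, 2⟩, ⟨0, 1⟩, ⟨1, 0⟩⟩),
  (⟨5, 4, 6, 5⟩, ⟨⟨2, 0⟩, ⟨1, 2⟩, ⟨0, 1⟩, ⟨1, 0⟩, ⟨1, 2⟩, ⟨0, 2⟩, ⟨1, 2⟩, ⟨0, 0⟩, ⟨1, 1⟩⟩),
  (⟨4, 0, 5, 2⟩, ⟨⟨0, 1⟩, ⟨0, 1⟩, ⟨2, 2⟩, ⟨1, 1⟩, ⟨0, 1⟩, ⟨0, 2⟩, ⟨0, 2⟩, ⟨2, 2⟩, ⟨0, 1⟩⟩),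
  (⟨0, 3, 2, 4⟩, ⟨⟨1, 1⟩, ⟨1, 0⟩, ⟨2, 0⟩, ⟨1, 1⟩, ⟨2, 0⟩, ⟨1, 0⟩, ⟨0, 0⟩, ⟨1, 2⟩, ⟨1, 2⟩⟩),
  (⟨3, 1, 4, 4⟩, ⟨⟨1, 0⟩, ⟨0, 1⟩, ⟨1, 2⟩, ⟨0, 2⟩, ⟨1, 0⟩, ⟨1, 1⟩, ⟨1, 1⟩, ⟨1, 2⟩, ⟨0, 0⟩⟩),
  (⟨1, 5, 4, 0⟩, ⟨⟨0, 2⟩, ⟨1, 2⟩, ⟨2, 0⟩, ⟨0, 2⟩, ⟨0, 2⟩, ⟨2, 2⟩, ⟨1, 1⟩, ⟨1, 0⟩, ⟨0, 2⟩⟩),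
  (⟨5, 0, 0, 3⟩, ⟨⟨2, 2⟩, ⟨0, 1⟩, ⟨1, 0⟩, ⟨0, 0⟩, ⟨2, 1⟩, ⟨2, 2⟩, ⟨2, 2⟩, ⟨0, 2⟩, ⟨2, 0⟩⟩),
  (⟨0, 2, 3, 3⟩, ⟨⟨1, 1⟩, ⟨0, 1⟩, ⟨0, 2⟩, ⟨1, 0⟩, ⟨2, 1⟩, ⟨0, 2⟩, ⟨0, 1⟩, ⟨2, 0⟩, ⟨1, 1⟩⟩),
  (⟨2, 0, 3, 4⟩, ⟨⟨0, 0⟩, ⟨1, 2⟩, ⟨1, 2⟩, ⟨2, 1⟩, ⟨0, 1⟩, ⟨0, 2⟩, ⟨1, 2⟩, ⟨0, 1⟩, ⟨0, 2⟩⟩),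
  (⟨0, 5, 4, 1⟩, ⟨⟨1, 0⟩, ⟨2, 0⟩, ⟨1, 1⟩, ⟨1, 0⟩, ⟨2, 1⟩, ⟨0, 1⟩, ⟨2, 1⟩, ⟨1, 0⟩, ⟨0, 2⟩⟩),
  (⟨5, 1, 1, 6⟩, ⟨⟨2, 1⟩, ⟨0, 0⟩, ⟨1, 1⟩, ⟨0, 0⟩, ⟨0, 1⟩, ⟨0, 0⟩, ⟨1, 1⟩, ⟨0, 0⟩, ⟨2, 1⟩⟩),
  (⟨1, 3, 6, 5⟩, ⟨⟨0, 2⟩, ⟨1, 2⟩, ⟨1, 0⟩, ⟨2, 2⟩, ⟨1, 0⟩, ⟨1, 0⟩, ⟨0, 1⟩, ⟨2, 0⟩, ⟨2, 1⟩⟩),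
  (⟨3, 0, 5, 5⟩, ⟨⟨1, 0⟩, ⟨2, 0⟩, ⟨2, 1⟩, ⟨1, 0⟩, ⟨2, 1⟩, ⟨2, 0⟩, ⟨1, 1⟩, ⟨0, 2⟩, ⟨0, 2⟩⟩),
  (⟨0, 4, 5, 0⟩, ⟨⟨0, 0⟩, ⟨0, 1⟩, ⟨0, 0⟩, ⟨0, 2⟩, ⟨0, 0⟩, ⟨0, 0⟩, ⟨0, 0⟩, ⟨0, 0⟩, ⟨2, 0⟩⟩),
  (⟨4, 5, 0, 2⟩, ⟨⟨0, 2⟩, ⟨1, 1⟩, ⟨0, 1⟩, ⟨2, 1⟩, ⟨1, 0⟩, ⟨1, 0⟩, ⟨1, 0⟩, ⟨2, 0⟩, ⟨2, 1⟩⟩),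
  (⟨5, 1, 2, 2⟩, ⟨⟨2, 0⟩, ⟨0, 0⟩, ⟨0, 0⟩, ⟨0, 0⟩, ⟨0, 0⟩, ⟨0, 2⟩, ⟨0, 0⟩, ⟨0, 1⟩, ⟨0, 0⟩⟩),
  (⟨1, 4, 2, 2⟩, ⟨⟨1, 1⟩, ⟨0, 0⟩, ⟨1, 2⟩, ⟨0, 2⟩, ⟨1, 2⟩, ⟨1, 0⟩, ⟨0, 1⟩, ⟨1, 2⟩, ⟨2, 0⟩⟩),
  (⟨4, 3, 2, 0⟩, ⟨⟨2, 0⟩, ⟨2, 2⟩, ⟨0, 2⟩, ⟨2, 0⟩, ⟨1, 1⟩, ⟨0, 2⟩, ⟨1, 1⟩, ⟨0, 0⟩, ⟨1, 2⟩⟩),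
  (⟨3, 5, 0, 5⟩, ⟨⟨2, 0⟩, ⟨1, 1⟩, ⟨1, 0⟩, ⟨0, 1⟩, ⟨2, 1⟩, ⟨0, 2⟩, ⟨2, 2⟩, ⟨0, 0⟩, ⟨2, 2⟩⟩),
  (⟨5, 2, 5, 5⟩, ⟨⟨1, 2⟩, ⟨2, 0⟩, ⟨2, 0⟩, ⟨2, 1⟩, ⟨2, 0⟩, ⟨2, 0⟩, ⟨0, 0⟩, ⟨2, 2⟩, ⟨1, 1⟩⟩),
  (⟨2, 5, 5, 6⟩, ⟨⟨1, 0⟩, ⟨1, 1⟩, ⟨0, 2⟩, ⟨2, 1⟩, ⟨0, 2⟩, ⟨0, 1⟩, ⟨0, 2⟩, ⟨1, 0⟩, ⟨2, 1⟩⟩),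
  (⟨5, 3, 6, 1⟩, ⟨⟨2, 2⟩, ⟨0, 2⟩, ⟨2, 0⟩, ⟨1, 2⟩, ⟨2, 0⟩, ⟨0, 1⟩, ⟨0, 0⟩, ⟨1, 1⟩, ⟨2, 1⟩⟩),
  (⟨1, 3, 3, 3⟩, ⟨⟨1, 2⟩, ⟨2, 2⟩, ⟨0, 0⟩, ⟨0, 1⟩, ⟨2, 0⟩, ⟨2, 1⟩, ⟨2, 0⟩, ⟨0, 2⟩, ⟨1, 1⟩⟩),
  (⟨3, 2, 3, 0⟩, ⟨⟨1, 2⟩, ⟨0, 2⟩, ⟨2, 0⟩, ⟨1, 1⟩, ⟨2, 0⟩, ⟨0, 1⟩, ⟨0, 0⟩, ⟨1, 2⟩, ⟨1, 1⟩⟩),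
  (⟨2, 3, 0, 4⟩, ⟨⟨2, 1⟩, ⟨2, 0⟩, ⟨0, 1⟩, ⟨1, 0⟩, ⟨1, 0⟩, ⟨2, 2⟩, ⟨1, 0⟩, ⟨1, 2⟩, ⟨0, 2⟩⟩),
  (⟨1, 2, 4, 2⟩, ⟨⟨0, 1⟩, ⟨0, 0⟩, ⟨0, 0⟩, ⟨0, 0⟩, ⟨2, 1⟩, ⟨2, 1⟩, ⟨0, 0⟩, ⟨1, 2⟩, ⟨2, 1⟩⟩),
  (⟨2, 1, 2, 5⟩, ⟨⟨1, 0⟩, ⟨2, 0⟩, ⟨2, 2⟩, ⟨2, 0⟩, ⟨1, 0⟩, ⟨2, 2⟩, ⟨2, 1⟩, ⟨2, 1⟩, ⟨0, 0⟩⟩),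
  (⟨1, 1, 5, 6⟩, ⟨⟨1, 0⟩, ⟨1, 1⟩, ⟨0, 1⟩, ⟨1, 2⟩, ⟨0, 0⟩, ⟨2, 2⟩, ⟨0, 2⟩, ⟨2, 1⟩, ⟨1, 0⟩⟩),
  (⟨1, 0, 6, 1⟩, ⟨⟨0, 2⟩, ⟨2, 1⟩, ⟨1, 0⟩, ⟨0, 1⟩, ⟨2, 1⟩, ⟨2, 0⟩, ⟨2, 2⟩, ⟨0, 0⟩, ⟨2, 1⟩⟩),
  (⟨0, 6, 1, 1⟩, ⟨⟨0, 2⟩, ⟨0, 1⟩, ⟨2, 1⟩, ⟨2, 1⟩, ⟨0, 2⟩, ⟨0, 2⟩, ⟨0, 1⟩, ⟨1, 2⟩, ⟨0, 2⟩⟩),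
  (⟨6, 4, 1, 2⟩, ⟨⟨0, 2⟩, ⟨1, 2⟩, ⟨1, 0⟩, ⟨2, 2⟩, ⟨1, 0⟩, ⟨1, 0⟩, ⟨0, 1⟩, ⟨2, 0⟩, ⟨2, 1⟩⟩),
  (⟨4, 5, 2, 1⟩, ⟨⟨2, 0⟩, ⟨1, 1⟩, ⟨0, 2⟩, ⟨1, 0⟩, ⟨2, 0⟩, ⟨2, 1⟩, ⟨1, 1⟩, ⟨2, 0⟩, ⟨0, 1⟩⟩),
  (⟨5, 0, 1, 3⟩, ⟨⟨2, 1⟩, ⟨0, 2⟩, ⟨2, 0⟩, ⟨2, 2⟩, ⟨2, 0⟩, ⟨0, 1⟩, ⟨0, 0⟩, ⟨2, 1⟩, ⟨2, 2⟩⟩),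
  (⟨0, 2, 3, 2⟩, ⟨⟨2, 1⟩, ⟨0, 0⟩, ⟨2, 2⟩, ⟨2, 0⟩, ⟨2, 1⟩, ⟨0, 1⟩, ⟨1, 0⟩, ⟨2, 1⟩, ⟨0, 2⟩⟩),
  (⟨2, 6, 2, 3⟩, ⟨⟨0, 1⟩, ⟨1, 1⟩, ⟨0, 2⟩, ⟨2, 2⟩, ⟨0, 2⟩, ⟨0, 1⟩, ⟨0, 2⟩, ⟨0, 2⟩, ⟨1, 1⟩⟩),
  (⟨6, 4, 3, 1⟩, ⟨⟨0, 0⟩, ⟨2, 1⟩, ⟨2, 1⟩, ⟨2, 2⟩, ⟨1, 0⟩, ⟨2, 0⟩, ⟨2, 2⟩, ⟨2, 0⟩, ⟨1, 0⟩⟩),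
  (⟨4, 1, 1, 4⟩, ⟨⟨2, 2⟩, ⟨0, 2⟩, ⟨0, 1⟩, ⟨1, 0⟩, ⟨0, 1⟩, ⟨1, 2⟩, ⟨0, 1⟩, ⟨2, 2⟩, ⟨1, 0⟩⟩),
  (⟨1, 4, 4, 3⟩, ⟨⟨2, 2⟩, ⟨1, 0⟩, ⟨2, 0⟩, ⟨0, 2⟩, ⟨1, 2⟩, ⟨2, 0⟩, ⟨0, 1⟩, ⟨2, 0⟩, ⟨1, 2⟩⟩),
  (⟨4, 4, 3, 5⟩, ⟨⟨0, 2⟩, ⟨1, 1⟩, ⟨1, 0⟩, ⟨2, 2⟩, ⟨0, 1⟩, ⟨1, 0⟩, ⟨1, 0⟩, ⟨2, 0⟩, ⟨1, 1⟩⟩),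
  (⟨0, 3, 2, 5⟩, ⟨⟨1, 1⟩, ⟨1, 1⟩, ⟨0, 0⟩, ⟨0, 0⟩, ⟨0, 0⟩, ⟨2, 0⟩, ⟨2, 1⟩, ⟨1, 2⟩, ⟨0, 0⟩⟩),
  (⟨3, 3, 5, 3⟩, ⟨⟨2, 2⟩, ⟨0, 0⟩, ⟨2, 2⟩, ⟨0, 2⟩, ⟨2, 1⟩, ⟨0, 1⟩, ⟨1, 0⟩, ⟨1, 1⟩, ⟨2, 0⟩⟩),
  (⟨3, 6, 3, 4⟩, ⟨⟨1, 0⟩, ⟨0, 1⟩, ⟨2, 2⟩, ⟨0, 2⟩, ⟨1, 0⟩, ⟨1, 2⟩, ⟨2, 1⟩, ⟨1, 1⟩, ⟨0, 0⟩⟩),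
  (⟨6, 3, 4, 1⟩, ⟨⟨0, 0⟩, ⟨2, 1⟩, ⟨2, 2⟩, ⟨2, 2⟩, ⟨1, 0⟩, ⟨0, 2⟩, ⟨2, 1⟩, ⟨0, 1⟩, ⟨1, 0⟩⟩),
  (⟨3, 0, 1, 5⟩, ⟨⟨1, 0⟩, ⟨2, 1⟩, ⟨0, 1⟩, ⟨1, 1⟩, ⟨0, 1⟩, ⟨0, 1⟩, ⟨0, 1⟩, ⟨2, 0⟩, ⟨2, 2⟩⟩),
  (⟨0, 4, 5, 4⟩, ⟨⟨2, 0⟩, ⟨2, 0⟩, ⟨1, 2⟩, ⟨2, 1⟩, ⟨1, 2⟩, ⟨0, 0⟩, ⟨0, 1⟩, ⟨0, 1⟩, ⟨1, 1⟩⟩),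
  (⟨4, 5, 4, 0⟩, ⟨⟨1, 2⟩, ⟨0, 2⟩, ⟨2, 0⟩, ⟨1, 1⟩, ⟨2, 0⟩, ⟨0, 1⟩, ⟨0, 0⟩, ⟨1, 2⟩, ⟨1, 1⟩⟩),
  (⟨5, 1, 0, 3⟩, ⟨⟨0, 2⟩, ⟨2, 2⟩, ⟨2, 0⟩, ⟨1, 1⟩, ⟨0, 0⟩, ⟨2, 1⟩, ⟨2, 0⟩, ⟨1, 2⟩, ⟨0, 1⟩⟩),
  (⟨0, 6, 1, 5⟩, ⟨⟨0, 1⟩, ⟨2, 0⟩, ⟨2, 1⟩, ⟨1, 0⟩, ⟨1, 1⟩, ⟨0, 1⟩, ⟨2, 1⟩, ⟨0, 2⟩, ⟨0, 2⟩⟩),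
  (⟨6, 4, 5, 0⟩, ⟨⟨0, 1⟩, ⟨0, 2⟩, ⟨1, 2⟩, ⟨1, 0⟩, ⟨2, 2⟩, ⟨2, 0⟩, ⟨2, 2⟩, ⟨1, 0⟩, ⟨1, 0⟩⟩),
  (⟨5, 3, 2, 0⟩, ⟨⟨0, 0⟩, ⟨0, 0⟩, ⟨0, 1⟩, ⟨2, 2⟩, ⟨1, 1⟩, ⟨0, 0⟩, ⟨1, 1⟩, ⟨1, 1⟩, ⟨0, 0⟩⟩),
  (⟨5, 5, 5, 1⟩, ⟨⟨2, 0⟩, ⟨0, 2⟩, ⟨2, 2⟩, ⟨2, 2⟩, ⟨2, 1⟩, ⟨0, 0⟩, ⟨1, 0⟩, ⟨0, 1⟩, ⟨2, 2⟩⟩),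
  (⟨0, 2, 3, 0⟩, ⟨⟨0, 0⟩, ⟨2, 2⟩, ⟨1, 2⟩, ⟨2, 1⟩, ⟨1, 0⟩, ⟨0, 2⟩, ⟨1, 1⟩, ⟨0, 1⟩, ⟨1, 0⟩⟩),
  (⟨2, 2, 0, 4⟩, ⟨⟨0, 1⟩, ⟨2, 2⟩, ⟨1, 0⟩, ⟨1, 2⟩, ⟨1, 0⟩, ⟨2, 0⟩, ⟨0, 2⟩, ⟨1, 0⟩, ⟨2, 2⟩⟩),
  (⟨2, 4, 4, 5⟩, ⟨⟨1, 0⟩, ⟨1, 0⟩, ⟨2, 1⟩, ⟨1, 0⟩, ⟨1, 0⟩, ⟨1, 2⟩, ⟨2, 2⟩, ⟨1, 1⟩, ⟨0, 0⟩⟩),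
  (⟨4, 2, 5, 1⟩, ⟨⟨1, 2⟩, ⟨0, 2⟩, ⟨0, 1⟩, ⟨0, 1⟩, ⟨0, 1⟩, ⟨1, 2⟩, ⟨0, 1⟩, ⟨2, 1⟩, ⟨0, 2⟩⟩),
  (⟨2, 4, 1, 6⟩, ⟨⟨2, 2⟩, ⟨0, 2⟩, ⟨2, 0⟩, ⟨1, 2⟩, ⟨2, 0⟩, ⟨0, 1⟩, ⟨0, 0⟩, ⟨1, 1⟩, ⟨2, 1⟩⟩),
  (⟨4, 2, 6, 5⟩, ⟨⟨0, 1⟩, ⟨2, 0⟩, ⟨1, 1⟩, ⟨2, 1⟩, ⟨2, 0⟩, ⟨1, 0⟩, ⟨0, 2⟩, ⟨1, 1⟩, ⟨2, 0⟩⟩),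
  (⟨2, 2, 5, 2⟩, ⟨⟨1, 1⟩, ⟨2, 2⟩, ⟨0, 0⟩, ⟨2, 0⟩, ⟨2, 0⟩, ⟨2, 1⟩, ⟨2, 0⟩, ⟨2, 0⟩, ⟨1, 2⟩⟩),
  (⟨2, 0, 2, 4⟩, ⟨⟨0, 2⟩, ⟨1, 2⟩, ⟨0, 1⟩, ⟨0, 2⟩, ⟨0, 2⟩, ⟨2, 1⟩, ⟨2, 1⟩, ⟨0, 1⟩, ⟨0, 2⟩⟩),
  (⟨0, 5, 4, 4⟩, ⟨⟨1, 1⟩, ⟨0, 1⟩, ⟨0, 2⟩, ⟨1, 0⟩, ⟨2, 1⟩, ⟨0, 2⟩, ⟨0, 1⟩, ⟨2, 0⟩, ⟨1, 1⟩⟩),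
  (⟨5, 5, 4, 0⟩, ⟨⟨1, 1⟩, ⟨2, 0⟩, ⟨1, 0⟩, ⟨1, 0⟩, ⟨0, 1⟩, ⟨2, 2⟩, ⟨1, 0⟩, ⟨1, 1⟩, ⟨0, 2⟩⟩),
  (⟨5, 3, 0, 3⟩, ⟨⟨0, 1⟩, ⟨2, 2⟩, ⟨2, 0⟩, ⟨0, 2⟩, ⟨0, 1⟩, ⟨1, 2⟩, ⟨1, 2⟩, ⟨2, 0⟩, ⟨0, 1⟩⟩),
  (⟨3, 5, 3, 3⟩, ⟨⟨0, 2⟩, ⟨0, 2⟩, ⟨1, 1⟩, ⟨2, 0⟩, ⟨2, 1⟩, ⟨1, 0⟩, ⟨2, 1⟩, ⟨2, 0⟩, ⟨1, 0⟩⟩),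
  (⟨5, 4, 3, 4⟩, ⟨⟨0, 0⟩, ⟨1, 2⟩, ⟨2, 1⟩, ⟨2, 0⟩, ⟨0, 0⟩, ⟨0, 0⟩, ⟨0, 0⟩, ⟨1, 1⟩, ⟨1, 1⟩⟩),
  (⟨4, 6, 4, 1⟩, ⟨⟨2, 1⟩, ⟨2, 1⟩, ⟨0, 0⟩, ⟨0, 1⟩, ⟨0, 2⟩, ⟨1, 2⟩, ⟨0, 1⟩, ⟨0, 2⟩, ⟨2, 1⟩⟩),
  (⟨6, 0, 1, 6⟩, ⟨⟨0, 2⟩, ⟨2, 1⟩, ⟨1, 0⟩, ⟨0, 1⟩, ⟨2, 1⟩, ⟨2, 0⟩, ⟨2, 2⟩, ⟨0, 0⟩, ⟨2, 1⟩⟩),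
  (⟨0, 1, 6, 5⟩, ⟨⟨2, 2⟩, ⟨0, 0⟩, ⟨2, 1⟩, ⟨1, 0⟩, ⟨2, 2⟩, ⟨0, 1⟩, ⟨1, 0⟩, ⟨1, 1⟩, ⟨0, 1⟩⟩),
  (⟨1, 5, 5, 5⟩, ⟨⟨1, 0⟩, ⟨2, 2⟩, ⟨0, 1⟩, ⟨1, 2⟩, ⟨0, 1⟩, ⟨1, 0⟩, ⟨0, 1⟩, ⟨0, 2⟩, ⟨2, 2⟩⟩),
  (⟨5, 4, 5, 0⟩, ⟨⟨1, 2⟩, ⟨0, 0⟩, ⟨2, 2⟩, ⟨1, 2⟩, ⟨0, 0⟩, ⟨1, 1⟩, ⟨0, 0⟩, ⟨2, 0⟩, ⟨0, 0⟩⟩),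
  (⟨4, 0, 0, 2⟩, ⟨⟨2, 1⟩, ⟨0, 0⟩, ⟨2, 1⟩, ⟨0, 2⟩, ⟨2, 2⟩, ⟨0, 1⟩, ⟨1, 0⟩, ⟨2, 1⟩, ⟨2, 0⟩⟩),
  (⟨0, 3, 2, 2⟩, ⟨⟨0, 0⟩, ⟨2, 1⟩, ⟨1, 2⟩, ⟨0, 0⟩, ⟨1, 2⟩, ⟨1, 2⟩, ⟨0, 2⟩, ⟨0, 0⟩, ⟨0, 0⟩⟩),
  (⟨3, 6, 2, 2⟩, ⟨⟨0, 0⟩, ⟨1, 0⟩, ⟨0, 0⟩, ⟨2, 1⟩, ⟨0, 0⟩, ⟨2, 2⟩, ⟨2, 1⟩, ⟨0, 0⟩, ⟨1, 1⟩⟩),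
  (⟨6, 3, 2, 0⟩, ⟨⟨2, 1⟩, ⟨0, 2⟩, ⟨0, 2⟩, ⟨2, 0⟩, ⟨0, 2⟩, ⟨2, 2⟩, ⟨0, 2⟩, ⟨1, 2⟩, ⟨1, 0⟩⟩),
  (⟨3, 3, 0, 5⟩, ⟨⟨2, 2⟩, ⟨1, 0⟩, ⟨1, 0⟩, ⟨2, 0⟩, ⟨1, 0⟩, ⟨1, 1⟩, ⟨0, 2⟩, ⟨2, 1⟩, ⟨0, 1⟩⟩),
  (⟨0, 4, 5, 6⟩, ⟨⟨2, 2⟩, ⟨2, 0⟩, ⟨0, 1⟩, ⟨0, 1⟩, ⟨0, 1⟩, ⟨1, 1⟩, ⟨0, 1⟩, ⟨2, 1⟩, ⟨1, 0⟩⟩),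
  (⟨4, 4, 6, 1⟩, ⟨⟨2, 0⟩, ⟨2, 1⟩, ⟨0, 1⟩, ⟨2, 0⟩, ⟨2, 0⟩, ⟨1, 1⟩, ⟨1, 2⟩, ⟨1, 0⟩, ⟨0, 2⟩⟩),
  (⟨4, 6, 3, 3⟩, ⟨⟨1, 0⟩, ⟨0, 1⟩, ⟨1, 2⟩, ⟨0, 2⟩, ⟨1, 0⟩, ⟨1, 1⟩, ⟨1, 1⟩, ⟨1, 2⟩, ⟨0, 0⟩⟩),
  (⟨6, 2, 3, 0⟩, ⟨⟨0, 2⟩, ⟨1, 2⟩, ⟨2, 0⟩, ⟨0, 2⟩, ⟨0, 2⟩, ⟨2, 2⟩, ⟨1, 1⟩, ⟨1, 0⟩, ⟨0, 2⟩⟩),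
  (⟨2, 0, 0, 4⟩, ⟨⟨2, 2⟩, ⟨0, 1⟩, ⟨1, 0⟩, ⟨0, 0⟩, ⟨2, 1⟩, ⟨2, 2⟩, ⟨2, 2⟩, ⟨0, 2⟩, ⟨2, 0⟩⟩),
  (⟨5, 4, 4, 2⟩, ⟨⟨0, 0⟩, ⟨0, 0⟩, ⟨2, 0⟩, ⟨0, 0⟩, ⟨2, 0⟩, ⟨0, 0⟩, ⟨2, 0⟩, ⟨0, 0⟩, ⟨0, 0⟩⟩),
  (⟨4, 6, 2, 5⟩, ⟨⟨0, 2⟩, ⟨2, 1⟩, ⟨0, 1⟩, ⟨1, 2⟩, ⟨0, 1⟩, ⟨0, 1⟩, ⟨0, 1⟩, ⟨0, 2⟩, ⟨1, 2⟩⟩),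
  (⟨6, 0, 5, 6⟩, ⟨⟨0, 2⟩, ⟨1, 0⟩, ⟨1, 2⟩, ⟨1, 1⟩, ⟨2, 0⟩, ⟨2, 0⟩, ⟨0, 1⟩, ⟨2, 1⟩, ⟨2, 0⟩⟩),
  (⟨0, 1, 6, 1⟩, ⟨⟨2, 2⟩, ⟨1, 0⟩, ⟨0, 2⟩, ⟨2, 0⟩, ⟨1, 0⟩, ⟨1, 2⟩, ⟨1, 0⟩, ⟨2, 2⟩, ⟨0, 1⟩⟩),
  (⟨1, 6, 1, 0⟩, ⟨⟨2, 1⟩, ⟨2, 0⟩, ⟨1, 0⟩, ⟨1, 0⟩, ⟨1, 0⟩, ⟨2, 1⟩, ⟨0, 1⟩, ⟨1, 1⟩, ⟨0, 2⟩⟩),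
  (⟨6, 5, 0, 6⟩, ⟨⟨2, 1⟩, ⟨0, 2⟩, ⟨0, 1⟩, ⟨1, 2⟩, ⟨0, 2⟩, ⟨0, 1⟩, ⟨0, 0⟩, ⟨2, 1⟩, ⟨2, 1⟩⟩),
  (⟨5, 2, 6, 4⟩, ⟨⟨2, 0⟩, ⟨1, 2⟩, ⟨0, 2⟩, ⟨1, 0⟩, ⟨0, 1⟩, ⟨2, 1⟩, ⟨2, 1⟩, ⟨2, 0⟩, ⟨2, 0⟩⟩),
  (⟨4, 4, 5, 0⟩, ⟨⟨1, 2⟩, ⟨1, 2⟩, ⟨0, 0⟩, ⟨1, 0⟩, ⟨2, 0⟩, ⟨1, 1⟩, ⟨2, 0⟩, ⟨1, 0⟩, ⟨1, 1⟩⟩),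
  (⟨0, 3, 2, 6⟩, ⟨⟨0, 2⟩, ⟨1, 0⟩, ⟨2, 1⟩, ⟨0, 1⟩, ⟨2, 1⟩, ⟨1, 0⟩, ⟨1, 1⟩, ⟨2, 0⟩, ⟨1, 0⟩⟩),
  (⟨3, 3, 6, 4⟩, ⟨⟨0, 0⟩, ⟨1, 1⟩, ⟨2, 1⟩, ⟨1, 2⟩, ⟨1, 0⟩, ⟨0, 2⟩, ⟨2, 2⟩, ⟨0, 1⟩, ⟨1, 0⟩⟩),
  (⟨3, 4, 4, 1⟩, ⟨⟨1, 1⟩, ⟨0, 2⟩, ⟨2, 0⟩, ⟨2, 1⟩, ⟨2, 0⟩, ⟨0, 1⟩, ⟨0, 0⟩, ⟨2, 2⟩, ⟨1, 2⟩⟩),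
  (⟨1, 6, 4, 4⟩, ⟨⟨0, 2⟩, ⟨0, 2⟩, ⟨2, 2⟩, ⟨1, 2⟩, ⟨2, 1⟩, ⟨0, 0⟩, ⟨1, 0⟩, ⟨1, 0⟩, ⟨2, 1⟩⟩),
  (⟨6, 5, 4, 0⟩, ⟨⟨1, 0⟩, ⟨1, 0⟩, ⟨2, 2⟩, ⟨2, 0⟩, ⟨2, 2⟩, ⟨1, 0⟩, ⟨1, 2⟩, ⟨0, 2⟩, ⟨0, 1⟩⟩),
  (⟨5, 0, 3, 3⟩, ⟨⟨0, 1⟩, ⟨2, 0⟩, ⟨1, 2⟩, ⟨1, 2⟩, ⟨0, 1⟩, ⟨0, 2⟩, ⟨2, 0⟩, ⟨2, 2⟩, ⟨0, 1⟩⟩),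
  (⟨0, 2, 3, 6⟩, ⟨⟨1, 0⟩, ⟨2, 0⟩, ⟨1, 1⟩, ⟨1, 0⟩, ⟨2, 1⟩, ⟨0, 1⟩, ⟨2, 1⟩, ⟨1, 0⟩, ⟨0, 2⟩⟩),
  (⟨2, 2, 6, 3⟩, ⟨⟨0, 2⟩, ⟨2, 2⟩, ⟨0, 1⟩, ⟨2, 0⟩, ⟨2, 0⟩, ⟨1, 2⟩, ⟨1, 2⟩, ⟨1, 0⟩, ⟨2, 0⟩⟩),
  (⟨2, 2, 3, 0⟩, ⟨⟨1, 1⟩, ⟨2, 0⟩, ⟨1, 0⟩, ⟨1, 0⟩, ⟨0, 1⟩, ⟨2, 2⟩, ⟨1, 0⟩, ⟨1, 1⟩, ⟨0, 2⟩⟩),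
  (⟨0, 5, 4, 5⟩, ⟨⟨2, 1⟩, ⟨0, 0⟩, ⟨2, 2⟩, ⟨2, 0⟩, ⟨2, 1⟩, ⟨0, 1⟩, ⟨1, 0⟩, ⟨2, 1⟩, ⟨0, 2⟩⟩),
  (⟨5, 6, 1, 0⟩, ⟨⟨2, 1⟩, ⟨1, 0⟩, ⟨1, 0⟩, ⟨0, 0⟩, ⟨2, 1⟩, ⟨1, 2⟩, ⟨2, 2⟩, ⟨0, 2⟩, ⟨0, 2⟩⟩),
  (⟨6, 1, 0, 6⟩, ⟨⟨0, 0⟩, ⟨0, 0⟩, ⟨0, 2⟩, ⟨1, 2⟩, ⟨1, 2⟩, ⟨0, 0⟩, ⟨1, 2⟩, ⟨2, 1⟩, ⟨0, 0⟩⟩),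
  (⟨1, 4, 6, 4⟩, ⟨⟨0, 1⟩, ⟨0, 2⟩, ⟨2, 2⟩, ⟨0, 1⟩, ⟨1, 2⟩, ⟨2, 0⟩, ⟨2, 2⟩, ⟨1, 0⟩, ⟨0, 2⟩⟩),
  (⟨4, 3, 4, 5⟩, ⟨⟨0, 0⟩, ⟨2, 0⟩, ⟨0, 0⟩, ⟨1, 1⟩, ⟨0, 0⟩, ⟨1, 2⟩, ⟨2, 2⟩, ⟨0, 0⟩, ⟨1, 2⟩⟩),
  (⟨3, 0, 3, 5⟩, ⟨⟨0, 0⟩, ⟨2, 2⟩, ⟨1, 1⟩, ⟨1, 1⟩, ⟨0, 2⟩, ⟨0, 2⟩, ⟨1, 1⟩, ⟨0, 1⟩, ⟨0, 1⟩⟩),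
  (⟨0, 4, 5, 5⟩, ⟨⟨0, 0⟩, ⟨2, 1⟩, ⟨1, 2⟩, ⟨0, 0⟩, ⟨1, 2⟩, ⟨1, 2⟩, ⟨0, 2⟩, ⟨0, 0⟩, ⟨0, 0⟩⟩),
  (⟨4, 2, 0, 2⟩, ⟨⟨2, 0⟩, ⟨1, 1⟩, ⟨1, 0⟩, ⟨0, 1⟩, ⟨2, 1⟩, ⟨0, 2⟩, ⟨2, 2⟩, ⟨0, 0⟩, ⟨2, 2⟩⟩),
  (⟨2, 5, 2, 2⟩, ⟨⟨1, 2⟩, ⟨2, 0⟩, ⟨2, 0⟩, ⟨2, 1⟩, ⟨2, 0⟩, ⟨2, 0⟩, ⟨0, 0⟩, ⟨2, 2⟩, ⟨1, 1⟩⟩),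
  (⟨5, 6, 2, 4⟩, ⟨⟨0, 0⟩, ⟨2, 2⟩, ⟨2, 2⟩, ⟨1, 0⟩, ⟨0, 0⟩, ⟨0, 0⟩, ⟨0, 0⟩, ⟨2, 1⟩, ⟨1, 2⟩⟩),
  (⟨6, 1, 4, 2⟩, ⟨⟨0, 2⟩, ⟨0, 1⟩, ⟨1, 2⟩, ⟨0, 2⟩, ⟨0, 1⟩, ⟨2, 1⟩, ⟨1, 2⟩, ⟨1, 2⟩, ⟨0, 0⟩⟩),
  (⟨1, 5, 2, 4⟩, ⟨⟨1, 1⟩, ⟨0, 2⟩, ⟨0, 2⟩, ⟨0, 1⟩, ⟨0, 2⟩, ⟨2, 2⟩, ⟨0, 2⟩, ⟨1, 1⟩, ⟨0, 1⟩⟩),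
  (⟨4, 0, 2, 2⟩, ⟨⟨1, 0⟩, ⟨2, 0⟩, ⟨2, 1⟩, ⟨1, 0⟩, ⟨2, 1⟩, ⟨2, 0⟩, ⟨1, 1⟩, ⟨0, 2⟩, ⟨0, 2⟩⟩),
  (⟨0, 3, 2, 0⟩, ⟨⟨0, 0⟩, ⟨0, 1⟩, ⟨0, 0⟩, ⟨0, 2⟩, ⟨0, 0⟩, ⟨0, 0⟩, ⟨0, 0⟩, ⟨0, 0⟩, ⟨2, 0⟩⟩),
  (⟨3, 1, 0, 5⟩, ⟨⟨0, 1⟩, ⟨2, 1⟩, ⟨2, 0⟩, ⟨1, 0⟩, ⟨0, 1⟩, ⟨1, 1⟩, ⟨1, 2⟩, ⟨0, 1⟩, ⟨0, 1⟩⟩),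
  (⟨0, 2, 3, 5⟩, ⟨⟨1, 2⟩, ⟨1, 0⟩, ⟨1, 0⟩, ⟨2, 0⟩, ⟨0, 2⟩, ⟨1, 2⟩, ⟨1, 0⟩, ⟨2, 1⟩, ⟨0, 1⟩⟩),
  (⟨0, 5, 4, 6⟩, ⟨⟨0, 1⟩, ⟨0, 1⟩, ⟨1, 2⟩, ⟨1, 1⟩, ⟨0, 1⟩, ⟨1, 0⟩, ⟨2, 0⟩, ⟨2, 1⟩, ⟨0, 1⟩⟩),
  (⟨5, 1, 6, 0⟩, ⟨⟨0, 2⟩, ⟨1, 0⟩, ⟨2, 2⟩, ⟨2, 0⟩, ⟨1, 2⟩, ⟨0, 1⟩, ⟨2, 2⟩, ⟨0, 2⟩, ⟨0, 1⟩⟩),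
  (⟨1, 4, 3, 6⟩, ⟨⟨0, 0⟩, ⟨2, 1⟩, ⟨2, 2⟩, ⟨2, 2⟩, ⟨1, 0⟩, ⟨0, 2⟩, ⟨2, 1⟩, ⟨0, 1⟩, ⟨1, 0⟩⟩),
  (⟨4, 3, 6, 3⟩, ⟨⟨1, 0⟩, ⟨2, 1⟩, ⟨0, 2⟩, ⟨2, 2⟩, ⟨0, 0⟩, ⟨1, 2⟩, ⟨0, 1⟩, ⟨1, 1⟩, ⟨1, 0⟩⟩),
  (⟨5, 2, 3, 0⟩, ⟨⟨2, 2⟩, ⟨2, 0⟩, ⟨1, 0⟩, ⟨0, 0⟩, ⟨2, 2⟩, ⟨2, 2⟩, ⟨2, 1⟩, ⟨0, 2⟩, ⟨0, 1⟩⟩),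
  (⟨5, 3, 4, 4⟩, ⟨⟨0, 1⟩, ⟨2, 1⟩, ⟨1, 0⟩, ⟨1, 2⟩, ⟨0, 2⟩, ⟨2, 0⟩, ⟨1, 0⟩, ⟨1, 0⟩, ⟨1, 2⟩⟩),
  (⟨1, 3, 4, 6⟩, ⟨⟨0, 0⟩, ⟨2, 1⟩, ⟨2, 1⟩, ⟨2, 2⟩, ⟨1, 0⟩, ⟨2, 0⟩, ⟨2, 2⟩, ⟨2, 0⟩, ⟨1, 0⟩⟩),
  (⟨3, 2, 6, 2⟩, ⟨⟨2, 0⟩, ⟨1, 0⟩, ⟨2, 2⟩, ⟨1, 1⟩, ⟨0, 2⟩, ⟨2, 0⟩, ⟨0, 1⟩, ⟨2, 2⟩, ⟨2, 0⟩⟩),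
  (⟨2, 3, 2, 0⟩, ⟨⟨1, 2⟩, ⟨0, 0⟩, ⟨2, 2⟩, ⟨1, 2⟩, ⟨0, 0⟩, ⟨1, 1⟩, ⟨0, 0⟩, ⟨2, 0⟩, ⟨0, 0⟩⟩),
  (⟨1, 2, 5, 4⟩, ⟨⟨2, 0⟩, ⟨1, 0⟩, ⟨1, 2⟩, ⟨1, 2⟩, ⟨2, 0⟩, ⟨2, 0⟩, ⟨0, 1⟩, ⟨2, 2⟩, ⟨0, 2⟩⟩),
  (⟨2, 1, 4, 6⟩, ⟨⟨0, 0⟩, ⟨0, 2⟩, ⟨0, 0⟩, ⟨0, 0⟩, ⟨0, 0⟩, ⟨0, 1⟩, ⟨1, 0⟩, ⟨0, 0⟩, ⟨0, 0⟩⟩),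
  (⟨1, 1, 6, 0⟩, ⟨⟨0, 1⟩, ⟨2, 2⟩, ⟨0, 2⟩, ⟨0, 2⟩, ⟨0, 1⟩, ⟨1, 1⟩, ⟨2, 2⟩, ⟨0, 1⟩, ⟨0, 1⟩⟩),
  (⟨0, 6, 1, 2⟩, ⟨⟨2, 2⟩, ⟨0, 0⟩, ⟨2, 1⟩, ⟨1, 0⟩, ⟨2, 2⟩, ⟨0, 1⟩, ⟨1, 0⟩, ⟨1, 1⟩, ⟨0, 1⟩⟩),
  (⟨6, 6, 2, 1⟩, ⟨⟨1, 0⟩, ⟨1, 1⟩, ⟨0, 1⟩, ⟨1, 2⟩, ⟨0, 0⟩, ⟨2, 2⟩, ⟨0, 2⟩, ⟨2, 1⟩, ⟨1, 0⟩⟩),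
  (⟨6, 3, 1, 3⟩, ⟨⟨0, 1⟩, ⟨0, 2⟩, ⟨2, 2⟩, ⟨0, 1⟩, ⟨1, 2⟩, ⟨2, 0⟩, ⟨2, 2⟩, ⟨1, 0⟩, ⟨0, 2⟩⟩),
  (⟨3, 4, 3, 2⟩, ⟨⟨0, 0⟩, ⟨2, 0⟩, ⟨0, 0⟩, ⟨1, 1⟩, ⟨0, 0⟩, ⟨1, 2⟩, ⟨2, 2⟩, ⟨0, 0⟩, ⟨1, 2⟩⟩),
  (⟨4, 2, 2, 3⟩, ⟨⟨1, 0⟩, ⟨2, 1⟩, ⟨2, 0⟩, ⟨2, 2⟩, ⟨0, 0⟩, ⟨2, 2⟩, ⟨2, 0⟩, ⟨2, 1⟩, ⟨1, 0⟩⟩),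
  (⟨5, 5, 1, 4⟩, ⟨⟨0, 2⟩, ⟨2, 2⟩, ⟨0, 1⟩, ⟨2, 0⟩, ⟨2, 0⟩, ⟨1, 2⟩, ⟨1, 2⟩, ⟨1, 0⟩, ⟨2, 0⟩⟩),
  (⟨5, 0, 4, 3⟩, ⟨⟨0, 0⟩, ⟨1, 2⟩, ⟨1, 2⟩, ⟨2, 1⟩, ⟨0, 1⟩, ⟨0, 2⟩, ⟨1, 2⟩, ⟨0, 1⟩, ⟨0, 2⟩⟩),
  (⟨1, 6, 5, 3⟩, ⟨⟨2, 0⟩, ⟨1, 2⟩, ⟨1, 0⟩, ⟨0, 1⟩, ⟨1, 1⟩, ⟨0, 2⟩, ⟨1, 2⟩, ⟨0, 0⟩, ⟨1, 2⟩⟩),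
  (⟨6, 3, 3, 4⟩, ⟨⟨2, 2⟩, ⟨1, 0⟩, ⟨2, 0⟩, ⟨0, 2⟩, ⟨1, 2⟩, ⟨2, 0⟩, ⟨0, 1⟩, ⟨2, 0⟩, ⟨1, 2⟩⟩),
  (⟨4, 5, 1, 5⟩, ⟨⟨2, 0⟩, ⟨1, 0⟩, ⟨2, 2⟩, ⟨1, 1⟩, ⟨0, 2⟩, ⟨2, 0⟩, ⟨0, 1⟩, ⟨2, 2⟩, ⟨2, 0⟩⟩),
  (⟨5, 1, 5, 4⟩, ⟨⟨0, 1⟩, ⟨1, 1⟩, ⟨0, 2⟩, ⟨2, 2⟩, ⟨0, 2⟩, ⟨0, 1⟩, ⟨0, 2⟩, ⟨0, 2⟩, ⟨1, 1⟩⟩),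
  (⟨5, 4, 0, 3⟩, ⟨⟨2, 1⟩, ⟨2, 0⟩, ⟨0, 1⟩, ⟨1, 0⟩, ⟨1, 0⟩, ⟨2, 2⟩, ⟨1, 0⟩, ⟨1, 2⟩, ⟨0, 2⟩⟩),
  (⟨3, 6, 5, 1⟩, ⟨⟨1, 2⟩, ⟨0, 1⟩, ⟨0, 1⟩, ⟨2, 0⟩, ⟨2, 2⟩, ⟨0, 2⟩, ⟨0, 2⟩, ⟨1, 0⟩, ⟨1, 2⟩⟩),
  (⟨2, 6, 0, 4⟩, ⟨⟨0, 2⟩, ⟨2, 2⟩, ⟨2, 0⟩, ⟨1, 1⟩, ⟨0, 0⟩, ⟨2, 1⟩, ⟨2, 0⟩, ⟨1, 2⟩, ⟨0, 1⟩⟩),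
  (⟨6, 2, 4, 5⟩, ⟨⟨1, 2⟩, ⟨1, 0⟩, ⟨2, 0⟩, ⟨1, 0⟩, ⟨1, 2⟩, ⟨2, 0⟩, ⟨0, 1⟩, ⟨0, 1⟩, ⟨2, 2⟩⟩),
  (⟨3, 3, 1, 6⟩, ⟨⟨2, 0⟩, ⟨2, 1⟩, ⟨0, 1⟩, ⟨2, 0⟩, ⟨2, 0⟩, ⟨1, 1⟩, ⟨1, 2⟩, ⟨1, 0⟩, ⟨0, 2⟩⟩),
  (⟨3, 0, 6, 5⟩, ⟨⟨2, 2⟩, ⟨2, 1⟩, ⟨0, 0⟩, ⟨0, 1⟩, ⟨2, 0⟩, ⟨2, 2⟩, ⟨2, 0⟩, ⟨0, 2⟩, ⟨2, 1⟩⟩),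
  (⟨0, 4, 5, 2⟩, ⟨⟨1, 1⟩, ⟨1, 1⟩, ⟨0, 0⟩, ⟨0, 0⟩, ⟨0, 0⟩, ⟨2, 0⟩, ⟨2, 1⟩, ⟨1, 2⟩, ⟨0, 0⟩⟩),
  (⟨4, 4, 2, 4⟩, ⟨⟨2, 2⟩, ⟨0, 0⟩, ⟨2, 2⟩, ⟨0, 2⟩, ⟨2, 1⟩, ⟨0, 1⟩, ⟨1, 0⟩, ⟨1, 1⟩, ⟨2, 0⟩⟩),
  (⟨4, 2, 4, 4⟩, ⟨⟨0, 2⟩, ⟨0, 2⟩, ⟨1, 1⟩, ⟨2, 0⟩, ⟨2, 1⟩, ⟨1, 0⟩, ⟨2, 1⟩, ⟨2, 0⟩, ⟨1, 0⟩⟩),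
  (⟨2, 5, 4, 0⟩, ⟨⟨2, 2⟩, ⟨2, 0⟩, ⟨1, 0⟩, ⟨0, 0⟩, ⟨2, 2⟩, ⟨2, 2⟩, ⟨2, 1⟩, ⟨0, 2⟩, ⟨0, 1⟩⟩),
  (⟨5, 6, 0, 3⟩, ⟨⟨0, 2⟩, ⟨1, 0⟩, ⟨1, 1⟩, ⟨2, 2⟩, ⟨0, 2⟩, ⟨0, 2⟩, ⟨2, 0⟩, ⟨1, 2⟩, ⟨0, 2⟩⟩),
  (⟨6, 1, 3, 3⟩, ⟨⟨0, 2⟩, ⟨0, 2⟩, ⟨2, 2⟩, ⟨1, 2⟩, ⟨2, 1⟩, ⟨0, 0⟩, ⟨1, 0⟩, ⟨1, 0⟩, ⟨2, 1⟩⟩),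
  (⟨0, 6, 1, 6⟩, ⟨⟨2, 2⟩, ⟨1, 0⟩, ⟨0, 2⟩, ⟨2, 0⟩, ⟨1, 0⟩, ⟨1, 2⟩, ⟨1, 0⟩, ⟨2, 2⟩, ⟨0, 1⟩⟩),
  (⟨6, 6, 6, 5⟩, ⟨⟨2, 2⟩, ⟨0, 0⟩, ⟨1, 2⟩, ⟨0, 0⟩, ⟨0, 2⟩, ⟨0, 0⟩, ⟨1, 2⟩, ⟨0, 0⟩, ⟨2, 2⟩⟩),
  (⟨6, 3, 5, 5⟩, ⟨⟨1, 1⟩, ⟨0, 0⟩, ⟨1, 2⟩, ⟨0, 2⟩, ⟨1, 2⟩, ⟨1, 0⟩, ⟨0, 1⟩, ⟨1, 2⟩, ⟨2, 0⟩⟩),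
  (⟨5, 3, 5, 6⟩, ⟨⟨1, 2⟩, ⟨0, 1⟩, ⟨1, 0⟩, ⟨0, 0⟩, ⟨1, 1⟩, ⟨2, 1⟩, ⟨1, 2⟩, ⟨0, 2⟩, ⟨2, 0⟩⟩),
  (⟨3, 5, 6, 1⟩, ⟨⟨1, 2⟩, ⟨0, 0⟩, ⟨1, 1⟩, ⟨0, 2⟩, ⟨1, 1⟩, ⟨2, 0⟩, ⟨0, 2⟩, ⟨2, 2⟩, ⟨2, 0⟩⟩),
  (⟨2, 4, 0, 4⟩, ⟨⟨0, 1⟩, ⟨2, 2⟩, ⟨2, 0⟩, ⟨0, 2⟩, ⟨0, 1⟩, ⟨1, 2⟩, ⟨1, 2⟩, ⟨2, 0⟩, ⟨0, 1⟩⟩),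
  (⟨2, 6, 4, 2⟩, ⟨⟨2, 2⟩, ⟨2, 2⟩, ⟨0, 0⟩, ⟨1, 1⟩, ⟨2, 2⟩, ⟨0, 0⟩, ⟨0, 0⟩, ⟨0, 0⟩, ⟨0, 2⟩⟩),
  (⟨6, 4, 2, 5⟩, ⟨⟨1, 1⟩, ⟨0, 0⟩, ⟨1, 1⟩, ⟨0, 2⟩, ⟨1, 2⟩, ⟨0, 1⟩, ⟨1, 0⟩, ⟨2, 2⟩, ⟨2, 0⟩⟩),
  (⟨4, 6, 5, 6⟩, ⟨⟨2, 0⟩, ⟨0, 2⟩, ⟨1, 1⟩, ⟨1, 1⟩, ⟨1, 2⟩, ⟨0, 0⟩, ⟨1, 0⟩, ⟨0, 1⟩, ⟨1, 1⟩⟩),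
  (⟨6, 2, 6, 1⟩, ⟨⟨0, 0⟩, ⟨1, 2⟩, ⟨1, 1⟩, ⟨1, 1⟩, ⟨1, 0⟩, ⟨0, 2⟩, ⟨1, 2⟩, ⟨0, 1⟩, ⟨1, 0⟩⟩),
  (⟨2, 6, 1, 0⟩, ⟨⟨0, 2⟩, ⟨1, 0⟩, ⟨2, 2⟩, ⟨2, 0⟩, ⟨1, 2⟩, ⟨0, 1⟩, ⟨2, 2⟩, ⟨0, 2⟩, ⟨0, 1⟩⟩),
  (⟨6, 4, 0, 6⟩, ⟨⟨2, 0⟩, ⟨2, 2⟩, ⟨0, 1⟩, ⟨2, 0⟩, ⟨0, 2⟩, ⟨1, 1⟩, ⟨2, 2⟩, ⟨1, 0⟩, ⟨2, 0⟩⟩),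
  (⟨4, 6, 6, 4⟩, ⟨⟨2, 1⟩, ⟨1, 0⟩, ⟨0, 2⟩, ⟨0, 1⟩, ⟨0, 2⟩, ⟨2, 1⟩, ⟨0, 2⟩, ⟨1, 1⟩, ⟨1, 0⟩⟩),
  (⟨2, 4, 5, 0⟩, ⟨⟨0, 0⟩, ⟨0, 0⟩, ⟨0, 1⟩, ⟨2, 2⟩, ⟨1, 1⟩, ⟨0, 0⟩, ⟨1, 1⟩, ⟨1, 1⟩, ⟨0, 0⟩⟩),
  (⟨2, 2, 2, 6⟩, ⟨⟨2, 0⟩, ⟨0, 2⟩, ⟨2, 2⟩, ⟨2, 2⟩, ⟨2, 1⟩, ⟨0, 0⟩, ⟨1, 0⟩, ⟨0, 1⟩, ⟨2, 2⟩⟩),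
  (⟨2, 0, 6, 4⟩, ⟨⟨2, 1⟩, ⟨0, 2⟩, ⟨2, 0⟩, ⟨2, 2⟩, ⟨2, 0⟩, ⟨0, 1⟩, ⟨0, 0⟩, ⟨2, 1⟩, ⟨2, 2⟩⟩),
  (⟨3, 1, 3, 6⟩, ⟨⟨2, 1⟩, ⟨2, 1⟩, ⟨0, 0⟩, ⟨0, 1⟩, ⟨0, 2⟩, ⟨1, 2⟩, ⟨0, 1⟩, ⟨0, 2⟩, ⟨2, 1⟩⟩),
  (⟨1, 5, 6, 3⟩, ⟨⟨1, 2⟩, ⟨0, 0⟩, ⟨1, 2⟩, ⟨0, 2⟩, ⟨1, 1⟩, ⟨0, 1⟩, ⟨1, 0⟩, ⟨1, 2⟩, ⟨2, 0⟩⟩),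
  (⟨6, 6, 1, 0⟩, ⟨⟨0, 1⟩, ⟨2, 2⟩, ⟨0, 2⟩, ⟨0, 2⟩, ⟨0, 1⟩, ⟨1, 1⟩, ⟨2, 2⟩, ⟨0, 1⟩, ⟨0, 1⟩⟩),
  (⟨6, 0, 0, 6⟩, ⟨⟨1, 0⟩, ⟨0, 0⟩, ⟨0, 0⟩, ⟨0, 0⟩, ⟨1, 0⟩, ⟨0, 0⟩, ⟨0, 0⟩, ⟨0, 0⟩, ⟨1, 0⟩⟩),
  (⟨0, 1, 6, 4⟩, ⟨⟨2, 2⟩, ⟨0, 1⟩, ⟨0, 1⟩, ⟨2, 0⟩, ⟨1, 2⟩, ⟨1, 0⟩, ⟨2, 0⟩, ⟨1, 0⟩, ⟨1, 2⟩⟩),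
  (⟨6, 5, 3, 5⟩, ⟨⟨0, 1⟩, ⟨0, 0⟩, ⟨0, 0⟩, ⟨0, 0⟩, ⟨2, 1⟩, ⟨2, 1⟩, ⟨0, 0⟩, ⟨1, 2⟩, ⟨2, 1⟩⟩),
  (⟨4, 4, 0, 2⟩, ⟨⟨2, 2⟩, ⟨1, 0⟩, ⟨1, 0⟩, ⟨2, 0⟩, ⟨1, 0⟩, ⟨1, 1⟩, ⟨0, 2⟩, ⟨2, 1⟩, ⟨0, 1⟩⟩),
  (⟨3, 3, 4, 2⟩, ⟨⟨0, 2⟩, ⟨1, 1⟩, ⟨1, 0⟩, ⟨2, 2⟩, ⟨0, 1⟩, ⟨1, 0⟩, ⟨1, 0⟩, ⟨2, 0⟩, ⟨1, 1⟩⟩),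
  (⟨3, 2, 2, 4⟩, ⟨⟨0, 0⟩, ⟨1, 1⟩, ⟨2, 2⟩, ⟨1, 2⟩, ⟨1, 0⟩, ⟨1, 0⟩, ⟨2, 1⟩, ⟨1, 0⟩, ⟨1, 0⟩⟩),
  (⟨6, 2, 2, 2⟩, ⟨⟨1, 0⟩, ⟨2, 2⟩, ⟨0, 1⟩, ⟨1, 2⟩, ⟨0, 1⟩, ⟨1, 0⟩, ⟨0, 1⟩, ⟨0, 2⟩, ⟨2, 2⟩⟩),
  (⟨3, 6, 0, 5⟩, ⟨⟨0, 1⟩, ⟨1, 2⟩, ⟨2, 0⟩, ⟨2, 1⟩, ⟨0, 0⟩, ⟨1, 1⟩, ⟨2, 0⟩, ⟨2, 2⟩, ⟨0, 2⟩⟩),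
  (⟨4, 4, 4, 6⟩, ⟨⟨2, 1⟩, ⟨0, 1⟩, ⟨0, 2⟩, ⟨1, 0⟩, ⟨1, 1⟩, ⟨2, 0⟩, ⟨2, 0⟩, ⟨2, 0⟩, ⟨1, 1⟩⟩),
  (⟨4, 1, 6, 0⟩, ⟨⟨2, 0⟩, ⟨0, 2⟩, ⟨1, 2⟩, ⟨2, 1⟩, ⟨1, 1⟩, ⟨0, 0⟩, ⟨1, 0⟩, ⟨0, 1⟩, ⟨1, 2⟩⟩),
  (⟨4, 3, 3, 6⟩, ⟨⟨1, 1⟩, ⟨0, 2⟩, ⟨2, 0⟩, ⟨2, 1⟩, ⟨2, 0⟩, ⟨0, 1⟩, ⟨0, 0⟩, ⟨2, 2⟩, ⟨1, 2⟩⟩),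
  (⟨3, 6, 6, 3⟩, ⟨⟨2, 2⟩, ⟨0, 2⟩, ⟨0, 1⟩, ⟨1, 0⟩, ⟨0, 1⟩, ⟨1, 2⟩, ⟨0, 1⟩, ⟨2, 2⟩, ⟨1, 0⟩⟩),
  (⟨2, 0, 4, 4⟩, ⟨⟨0, 1⟩, ⟨2, 0⟩, ⟨1, 2⟩, ⟨1, 2⟩, ⟨0, 1⟩, ⟨0, 2⟩, ⟨2, 0⟩, ⟨2, 2⟩, ⟨0, 1⟩⟩),
  (⟨5, 2, 4, 6⟩, ⟨⟨0, 2⟩, ⟨0, 0⟩, ⟨0, 0⟩, ⟨0, 0⟩, ⟨2, 2⟩, ⟨1, 1⟩, ⟨0, 0⟩, ⟨2, 2⟩, ⟨2, 2⟩⟩),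
  (⟨2, 4, 6, 2⟩, ⟨⟨2, 0⟩, ⟨1, 0⟩, ⟨1, 1⟩, ⟨1, 1⟩, ⟨1, 1⟩, ⟨0, 0⟩, ⟨0, 2⟩, ⟨0, 1⟩, ⟨1, 2⟩⟩),
  (⟨6, 6, 5, 4⟩, ⟨⟨1, 1⟩, ⟨2, 0⟩, ⟨0, 1⟩, ⟨0, 2⟩, ⟨2, 1⟩, ⟨1, 0⟩, ⟨0, 2⟩, ⟨0, 1⟩, ⟨1, 1⟩⟩),
  (⟨6, 0, 4, 6⟩, ⟨⟨1, 1⟩, ⟨0, 0⟩, ⟨2, 1⟩, ⟨2, 2⟩, ⟨0, 0⟩, ⟨2, 1⟩, ⟨0, 0⟩, ⟨1, 0⟩, ⟨0, 0⟩⟩),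
  (⟨0, 1, 6, 0⟩, ⟨⟨1, 0⟩, ⟨1, 2⟩, ⟨2, 0⟩, ⟨1, 1⟩, ⟨0, 0⟩, ⟨1, 1⟩, ⟨2, 0⟩, ⟨1, 2⟩, ⟨1, 0⟩⟩),
  (⟨0, 6, 1, 0⟩, ⟨⟨1, 0⟩, ⟨1, 2⟩, ⟨2, 0⟩, ⟨1, 1⟩, ⟨0, 0⟩, ⟨1, 1⟩, ⟨2, 0⟩, ⟨1, 2⟩, ⟨1, 0⟩⟩),
  (⟨4, 5, 6, 6⟩, ⟨⟨1, 1⟩, ⟨0, 1⟩, ⟨1, 0⟩, ⟨0, 0⟩, ⟨1, 2⟩, ⟨1, 1⟩, ⟨1, 1⟩, ⟨0, 2⟩, ⟨2, 0⟩⟩),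
  (⟨5, 0, 6, 3⟩, ⟨⟨1, 0⟩, ⟨1, 2⟩, ⟨0, 2⟩, ⟨2, 2⟩, ⟨0, 2⟩, ⟨2, 0⟩, ⟨0, 2⟩, ⟨0, 2⟩, ⟨2, 1⟩⟩),
  (⟨4, 1, 5, 5⟩, ⟨⟨0, 0⟩, ⟨1, 0⟩, ⟨0, 0⟩, ⟨2, 1⟩, ⟨0, 0⟩, ⟨2, 2⟩, ⟨2, 1⟩, ⟨0, 0⟩, ⟨1, 1⟩⟩),
  (⟨3, 0, 4, 5⟩, ⟨⟨0, 2⟩, ⟨1, 1⟩, ⟨2, 0⟩, ⟨2, 0⟩, ⟨0, 2⟩, ⟨2, 1⟩, ⟨1, 1⟩, ⟨0, 1⟩, ⟨0, 2⟩⟩),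
  (⟨0, 6, 1, 4⟩, ⟨⟨2, 0⟩, ⟨2, 2⟩, ⟨1, 0⟩, ⟨0, 1⟩, ⟨1, 2⟩, ⟨0, 2⟩, ⟨1, 1⟩, ⟨0, 0⟩, ⟨1, 1⟩⟩),
  (⟨6, 4, 4, 4⟩, ⟨⟨1, 2⟩, ⟨2, 2⟩, ⟨0, 0⟩, ⟨0, 1⟩, ⟨2, 0⟩, ⟨2, 1⟩, ⟨2, 0⟩, ⟨0, 2⟩, ⟨1, 1⟩⟩),
  (⟨5, 5, 3, 6⟩, ⟨⟨1, 1⟩, ⟨1, 0⟩, ⟨0, 2⟩, ⟨1, 0⟩, ⟨1, 1⟩, ⟨0, 2⟩, ⟨2, 0⟩, ⟨2, 0⟩, ⟨2, 1⟩⟩),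
  (⟨2, 4, 3, 3⟩, ⟨⟨0, 1⟩, ⟨2, 1⟩, ⟨1, 0⟩, ⟨1, 2⟩, ⟨0, 2⟩, ⟨2, 0⟩, ⟨1, 0⟩, ⟨1, 0⟩, ⟨1, 2⟩⟩),
  (⟨0, 5, 4, 2⟩, ⟨⟨1, 2⟩, ⟨1, 0⟩, ⟨1, 0⟩, ⟨2, 0⟩, ⟨0, 2⟩, ⟨1, 2⟩, ⟨1, 0⟩, ⟨2, 1⟩, ⟨0, 1⟩⟩),
  (⟨4, 6, 1, 0⟩, ⟨⟨2, 1⟩, ⟨2, 0⟩, ⟨2, 0⟩, ⟨0, 2⟩, ⟨1, 1⟩, ⟨1, 0⟩, ⟨0, 2⟩, ⟨1, 0⟩, ⟨1, 1⟩⟩),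
  (⟨0, 1, 6, 6⟩, ⟨⟨0, 2⟩, ⟨0, 1⟩, ⟨2, 1⟩, ⟨2, 1⟩, ⟨0, 2⟩, ⟨0, 2⟩, ⟨0, 1⟩, ⟨1, 2⟩, ⟨0, 2⟩⟩),
  (⟨4, 0, 4, 2⟩, ⟨⟨0, 0⟩, ⟨2, 2⟩, ⟨1, 1⟩, ⟨1, 1⟩, ⟨0, 2⟩, ⟨0, 2⟩, ⟨1, 1⟩, ⟨0, 1⟩, ⟨0, 1⟩⟩),
  (⟨4, 6, 0, 2⟩, ⟨⟨0, 1⟩, ⟨2, 1⟩, ⟨2, 0⟩, ⟨1, 0⟩, ⟨0, 1⟩, ⟨1, 1⟩, ⟨1, 2⟩, ⟨0, 1⟩, ⟨0, 1⟩⟩),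
  (⟨5, 4, 2, 6⟩, ⟨⟨1, 2⟩, ⟨0, 1⟩, ⟨0, 2⟩, ⟨0, 0⟩, ⟨1, 1⟩, ⟨1, 1⟩, ⟨1, 1⟩, ⟨1, 0⟩, ⟨2, 0⟩⟩),
  (⟨0, 1, 6, 2⟩, ⟨⟨0, 1⟩, ⟨2, 0⟩, ⟨2, 1⟩, ⟨1, 0⟩, ⟨1, 1⟩, ⟨0, 1⟩, ⟨2, 1⟩, ⟨0, 2⟩, ⟨0, 2⟩⟩),
  (⟨1, 6, 2, 6⟩, ⟨⟨1, 0⟩, ⟨1, 1⟩, ⟨2, 0⟩, ⟨1, 2⟩, ⟨0, 0⟩, ⟨1, 2⟩, ⟨2, 0⟩, ⟨1, 1⟩, ⟨1, 0⟩⟩),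
  (⟨6, 5, 6, 4⟩, ⟨⟨1, 1⟩, ⟨0, 1⟩, ⟨0, 1⟩, ⟨0, 0⟩, ⟨1, 2⟩, ⟨2, 1⟩, ⟨1, 2⟩, ⟨2, 0⟩, ⟨2, 0⟩⟩),
  (⟨3, 4, 0, 5⟩, ⟨⟨0, 2⟩, ⟨0, 1⟩, ⟨1, 1⟩, ⟨2, 1⟩, ⟨0, 2⟩, ⟨2, 0⟩, ⟨2, 0⟩, ⟨1, 1⟩, ⟨0, 2⟩⟩),
  (⟨5, 6, 6, 6⟩, ⟨⟨1, 2⟩, ⟨2, 0⟩, ⟨0, 1⟩, ⟨2, 0⟩, ⟨1, 2⟩, ⟨0, 2⟩, ⟨2, 0⟩, ⟨1, 0⟩, ⟨2, 2⟩⟩),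
  (⟨6, 1, 6, 0⟩, ⟨⟨2, 1⟩, ⟨2, 0⟩, ⟨1, 0⟩, ⟨1, 0⟩, ⟨1, 0⟩, ⟨2, 1⟩, ⟨0, 1⟩, ⟨1, 1⟩, ⟨0, 2⟩⟩),
  (⟨4, 0, 6, 2⟩, ⟨⟨1, 0⟩, ⟨2, 1⟩, ⟨0, 1⟩, ⟨1, 1⟩, ⟨0, 1⟩, ⟨0, 1⟩, ⟨0, 1⟩, ⟨2, 0⟩, ⟨2, 2⟩⟩),
  (⟨2, 3, 4, 3⟩, ⟨⟨0, 0⟩, ⟨1, 2⟩, ⟨2, 1⟩, ⟨2, 0⟩, ⟨0, 0⟩, ⟨0, 0⟩, ⟨0, 0⟩, ⟨1, 1⟩, ⟨1, 1⟩⟩),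
  (⟨1, 2, 6, 6⟩, ⟨⟨1, 0⟩, ⟨2, 2⟩, ⟨2, 0⟩, ⟨2, 1⟩, ⟨0, 0⟩, ⟨2, 1⟩, ⟨2, 0⟩, ⟨2, 2⟩, ⟨1, 0⟩⟩),
  (⟨2, 1, 6, 0⟩, ⟨⟨2, 1⟩, ⟨1, 0⟩, ⟨1, 0⟩, ⟨0, 0⟩, ⟨2, 1⟩, ⟨1, 2⟩, ⟨2, 2⟩, ⟨0, 2⟩, ⟨0, 2⟩⟩),
  (⟨0, 6, 1, 3⟩, ⟨⟨2, 2⟩, ⟨0, 1⟩, ⟨0, 1⟩, ⟨2, 0⟩, ⟨1, 2⟩, ⟨1, 0⟩, ⟨2, 0⟩, ⟨1, 0⟩, ⟨1, 2⟩⟩),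
  (⟨6, 6, 3, 2⟩, ⟨⟨0, 0⟩, ⟨0, 0⟩, ⟨1, 0⟩, ⟨0, 1⟩, ⟨0, 0⟩, ⟨0, 0⟩, ⟨0, 0⟩, ⟨0, 2⟩, ⟨0, 0⟩⟩),
  (⟨6, 5, 2, 3⟩, ⟨⟨2, 0⟩, ⟨1, 0⟩, ⟨1, 2⟩, ⟨1, 2⟩, ⟨2, 0⟩, ⟨2, 0⟩, ⟨0, 1⟩, ⟨2, 2⟩, ⟨0, 2⟩⟩),
  (⟨6, 2, 1, 4⟩, ⟨⟨1, 2⟩, ⟨0, 0⟩, ⟨1, 2⟩, ⟨0, 2⟩, ⟨1, 1⟩, ⟨0, 1⟩, ⟨1, 0⟩, ⟨1, 2⟩, ⟨2, 0⟩⟩),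
  (⟨6, 2, 5, 3⟩, ⟨⟨1, 1⟩, ⟨0, 2⟩, ⟨0, 2⟩, ⟨0, 1⟩, ⟨0, 2⟩, ⟨2, 2⟩, ⟨0, 2⟩, ⟨1, 1⟩, ⟨0, 1⟩⟩),
  (⟨3, 5, 5, 4⟩, ⟨⟨1, 0⟩, ⟨2, 1⟩, ⟨2, 0⟩, ⟨2, 2⟩, ⟨0, 0⟩, ⟨2, 2⟩, ⟨2, 0⟩, ⟨2, 1⟩, ⟨1, 0⟩⟩),
  (⟨4, 2, 1, 6⟩, ⟨⟨1, 2⟩, ⟨0, 0⟩, ⟨1, 1⟩, ⟨0, 2⟩, ⟨1, 1⟩, ⟨2, 0⟩, ⟨0, 2⟩, ⟨2, 2⟩, ⟨2, 0⟩⟩),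
  (⟨2, 5, 6, 5⟩, ⟨⟨1, 0⟩, ⟨0, 1⟩, ⟨1, 1⟩, ⟨0, 2⟩, ⟨1, 0⟩, ⟨2, 1⟩, ⟨1, 2⟩, ⟨2, 2⟩, ⟨0, 0⟩⟩),
  (⟨5, 6, 5, 2⟩, ⟨⟨1, 0⟩, ⟨2, 0⟩, ⟨2, 2⟩, ⟨2, 0⟩, ⟨1, 0⟩, ⟨2, 2⟩, ⟨2, 1⟩, ⟨2, 1⟩, ⟨0, 0⟩⟩),
  (⟨6, 1, 2, 4⟩, ⟨⟨2, 0⟩, ⟨1, 2⟩, ⟨1, 0⟩, ⟨0, 1⟩, ⟨1, 1⟩, ⟨0, 2⟩, ⟨1, 2⟩, ⟨0, 0⟩, ⟨1, 2⟩⟩),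
  (⟨3, 2, 5, 6⟩, ⟨⟨2, 0⟩, ⟨1, 1⟩, ⟨0, 2⟩, ⟨1, 0⟩, ⟨2, 0⟩, ⟨2, 1⟩, ⟨1, 1⟩, ⟨2, 0⟩, ⟨0, 1⟩⟩),
  (⟨2, 6, 6, 1⟩, ⟨⟨2, 1⟩, ⟨0, 0⟩, ⟨1, 1⟩, ⟨0, 0⟩, ⟨0, 1⟩, ⟨0, 0⟩, ⟨1, 1⟩, ⟨0, 0⟩, ⟨2, 1⟩⟩),
  (⟨3, 6, 1, 0⟩, ⟨⟨2, 0⟩, ⟨0, 2⟩, ⟨1, 2⟩, ⟨2, 1⟩, ⟨1, 1⟩, ⟨0, 0⟩, ⟨1, 0⟩, ⟨0, 1⟩, ⟨1, 2⟩⟩),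
  (⟨6, 3, 0, 6⟩, ⟨⟨2, 0⟩, ⟨2, 0⟩, ⟨2, 1⟩, ⟨2, 1⟩, ⟨0, 1⟩, ⟨1, 0⟩, ⟨0, 2⟩, ⟨1, 2⟩, ⟨2, 0⟩⟩),
  (⟨4, 1, 2, 6⟩, ⟨⟨1, 2⟩, ⟨0, 1⟩, ⟨0, 1⟩, ⟨2, 0⟩, ⟨2, 2⟩, ⟨0, 2⟩, ⟨0, 2⟩, ⟨1, 0⟩, ⟨1, 2⟩⟩),
  (⟨6, 0, 3, 6⟩, ⟨⟨1, 2⟩, ⟨2, 1⟩, ⟨0, 0⟩, ⟨0, 0⟩, ⟨0, 0⟩, ⟨1, 0⟩, ⟨2, 2⟩, ⟨2, 2⟩, ⟨0, 0⟩⟩),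
  (⟨0, 1, 6, 3⟩, ⟨⟨2, 0⟩, ⟨2, 2⟩, ⟨1, 0⟩, ⟨0, 1⟩, ⟨1, 2⟩, ⟨0, 2⟩, ⟨1, 1⟩, ⟨0, 0⟩, ⟨1, 1⟩⟩),
  (⟨6, 6, 0, 6⟩, ⟨⟨0, 0⟩, ⟨1, 1⟩, ⟨1, 1⟩, ⟨0, 0⟩, ⟨1, 1⟩, ⟨2, 2⟩, ⟨0, 1⟩, ⟨0, 0⟩, ⟨0, 0⟩⟩),
  (⟨3, 1, 6, 0⟩, ⟨⟨2, 1⟩, ⟨2, 0⟩, ⟨2, 0⟩, ⟨0, 2⟩, ⟨1, 1⟩, ⟨1, 0⟩, ⟨0, 2⟩, ⟨1, 0⟩, ⟨1, 1⟩⟩),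
  (⟨1, 6, 6, 2⟩, ⟨⟨1, 1⟩, ⟨2, 0⟩, ⟨2, 0⟩, ⟨2, 0⟩, ⟨1, 1⟩, ⟨1, 0⟩, ⟨0, 2⟩, ⟨0, 1⟩, ⟨2, 1⟩⟩),
  (⟨3, 6, 4, 6⟩, ⟨⟨0, 1⟩, ⟨1, 1⟩, ⟨1, 0⟩, ⟨0, 1⟩, ⟨2, 2⟩, ⟨1, 0⟩, ⟨2, 1⟩, ⟨0, 0⟩, ⟨2, 2⟩⟩),
  (⟨3, 4, 6, 6⟩, ⟨⟨0, 2⟩, ⟨0, 2⟩, ⟨2, 1⟩, ⟨0, 1⟩, ⟨1, 1⟩, ⟨1, 0⟩, ⟨2, 1⟩, ⟨2, 0⟩, ⟨0, 1⟩⟩),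
  (⟨2, 6, 5, 5⟩, ⟨⟨2, 0⟩, ⟨0, 0⟩, ⟨0, 0⟩, ⟨0, 0⟩, ⟨0, 0⟩, ⟨0, 2⟩, ⟨0, 0⟩, ⟨0, 1⟩, ⟨0, 0⟩⟩),
  (⟨6, 0, 6, 6⟩, ⟨⟨0, 1⟩, ⟨0, 2⟩, ⟨2, 1⟩, ⟨2, 2⟩, ⟨2, 2⟩, ⟨0, 0⟩, ⟨1, 0⟩, ⟨2, 0⟩, ⟨2, 2⟩⟩),
  (⟨6, 3, 6, 2⟩, ⟨⟨2, 1⟩, ⟨1, 1⟩, ⟨0, 0⟩, ⟨0, 1⟩, ⟨2, 0⟩, ⟨1, 2⟩, ⟨2, 0⟩, ⟨0, 2⟩, ⟨2, 2⟩⟩),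
  (⟨3, 5, 2, 6⟩, ⟨⟨1, 2⟩, ⟨0, 2⟩, ⟨0, 1⟩, ⟨0, 1⟩, ⟨0, 1⟩, ⟨1, 2⟩, ⟨0, 1⟩, ⟨2, 1⟩, ⟨0, 2⟩⟩),
  (⟨6, 6, 4, 3⟩, ⟨⟨2, 2⟩, ⟨0, 2⟩, ⟨0, 2⟩, ⟨2, 2⟩, ⟨0, 1⟩, ⟨0, 1⟩, ⟨0, 0⟩, ⟨1, 1⟩, ⟨2, 2⟩⟩),
  (⟨5, 5, 6, 2⟩, ⟨⟨1, 0⟩, ⟨0, 1⟩, ⟨2, 1⟩, ⟨0, 2⟩, ⟨1, 0⟩, ⟨2, 2⟩, ⟨2, 2⟩, ⟨2, 1⟩, ⟨0, 0⟩⟩),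
  (⟨4, 5, 5, 3⟩, ⟨⟨0, 0⟩, ⟨1, 1⟩, ⟨2, 2⟩, ⟨1, 2⟩, ⟨1, 0⟩, ⟨1, 0⟩, ⟨2, 1⟩, ⟨1, 0⟩, ⟨1, 0⟩⟩),
  (⟨2, 6, 3, 6⟩, ⟨⟨0, 1⟩, ⟨0, 1⟩, ⟨1, 1⟩, ⟨0, 2⟩, ⟨0, 2⟩, ⟨1, 1⟩, ⟨1, 1⟩, ⟨2, 2⟩, ⟨0, 0⟩⟩),
  (⟨6, 4, 6, 3⟩, ⟨⟨2, 0⟩, ⟨2, 0⟩, ⟨1, 1⟩, ⟨2, 2⟩, ⟨2, 0⟩, ⟨1, 0⟩, ⟨0, 2⟩, ⟨1, 2⟩, ⟨0, 1⟩⟩),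
  (⟨2, 3, 6, 6⟩, ⟨⟨0, 1⟩, ⟨2, 1⟩, ⟨0, 2⟩, ⟨1, 1⟩, ⟨1, 0⟩, ⟨2, 0⟩, ⟨1, 0⟩, ⟨1, 0⟩, ⟨2, 2⟩⟩),
  (⟨6, 2, 0, 6⟩, ⟨⟨2, 2⟩, ⟨1, 1⟩, ⟨0, 0⟩, ⟨0, 1⟩, ⟨0, 1⟩, ⟨2, 2⟩, ⟨0, 2⟩, ⟨0, 2⟩, ⟨2, 2⟩⟩),
  (⟨6, 0, 2, 6⟩, ⟨⟨0, 1⟩, ⟨1, 2⟩, ⟨0, 2⟩, ⟨1, 0⟩, ⟨2, 0⟩, ⟨2, 2⟩, ⟨1, 1⟩, ⟨2, 0⟩, ⟨2, 0⟩⟩)]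

/-- the generating pair `(T, A)` -/
def g73A : C73 := (⟨1, 1, 0, 1⟩, ⟨⟨0, 0⟩, ⟨1, 1⟩, ⟨1, 1⟩, ⟨0, 0⟩, ⟨1, 1⟩, ⟨2, 2⟩, ⟨0, 1⟩, ⟨0, 0⟩, ⟨0, 0⟩⟩)
/-- the generating pair `(T', B)` -/
def g73B : C73 := (⟨1, 0, 1, 1⟩, ⟨⟨0, 1⟩, ⟨0, 2⟩, ⟨2, 1⟩, ⟨2, 2⟩, ⟨2, 2⟩, ⟨0, 0⟩, ⟨1, 0⟩, ⟨2, 0⟩, ⟨2, 2⟩⟩)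

set_option maxRecDepth 1000000 in
theorem g73L_one : ((Q2.one, Q3.one) : C73) ∈ g73L := by decide +kernel

set_option maxRecDepth 1000000 in
theorem g73L_mulA : ∀ x ∈ g73L, c73mul x g73A ∈ g73L := by decide +kernel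

set_option maxRecDepth 1000000 in
theorem g73L_mulB : ∀ x ∈ g73L, c73mul x g73B ∈ g73L := by decide +kernel

set_option maxRecDepth 1000000 in
theorem g73L_fst_one : ∀ x ∈ g73L, x.1 = Q2.one → x.2 = Q3.one := by decide +kernel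

set_option maxRecDepth 1000000 in
theorem g73L_fst_neg_one : ∀ x ∈ g73L, x.1 = ⟨6, 0, 0, 6⟩ → x.2 = Q3.one := by decide +kernel

theorem g73_noncomm : Q3.mul g73A.2 g73B.2 ≠ Q3.mul g73B.2 g73A.2 := by decide +kernel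

end Cfsg.Agent.Helper57
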