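import Mathlib
import Cfsg.Prelude.Def_KGroupFacts
import Cfsg.Prelude.Def_LieTwisted
import Cfsg.Agent.Helper65.R3Defs
import Cfsg.Agent.S1157

set_option autoImplicit false

/-!
# CALL S2113 (helper65), piece G2: Sylow 2-subgroups of the small Ree groups

Glue of `Cfsg.Agent.S1157.result` (self-centralising, normaliser of order 168) and helper6's
`Cfsg.Agent.Helper6.ree_sylow_two` (order 8, exponent 2).
-/

namespace Cfsg.Agent.Helper57

open scoped commutatorElement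
open Cfsg.Agent.Helper65

/-- PIECE G2 (Ree glue: `Cfsg.Agent.S1157.result` + helper6's `ree_sylow_two`). -/
theorem ree_sylow_two_facts {K : Type*} [Field K] [Fintype K] {m : ℕ} (hm : 1 ≤ m)
    (hK : Fintype.card K = 3 ^ (2 * m + 1)) :
    ∀ S : Sylow 2 ↥(Cfsg.Lie.twistedG2 K (3 ^ m)), Nat.card S = 8 ∧ (∀ x ∈ S, x * x = 1) ∧
      Subgroup.centralizer ((S : Subgroup ↥(Cfsg.Lie.twistedG2 K (3 ^ m))) :
        Set ↥(Cfsg.Lie.twistedG2 K (3 ^ m))) = S ∧
      Nat.card (Subgroup.normalizer ((S : Subgroup ↥(Cfsg.Lie.twistedG2 K (3 ^ m))) :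
        Set ↥(Cfsg.Lie.twistedG2 K (3 ^ m)))) = 168 := by
  intro S
  have : CharP K 3 := Cfsg.Agent.Helper36.ree_charP hK
  obtain ⟨σ, hσ⟩ := Cfsg.Agent.Helper36.exists_reeSig hK
  obtain ⟨h8, hexp⟩ := Cfsg.Agent.Helper6.ree_sylow_two hK hσ S
  obtain ⟨hC, hN⟩ := Cfsg.Agent.S1157.result hm hK S
  exact ⟨h8, hexp, hC, hN⟩

end Cfsg.Agent.Helper57
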