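import Mathlib
import Cfsg.Prelude.Def_ChevG2

/-!
# Vectors over `𝔽₃` in two bit planes (seat helper57)

A vector on the coordinates of the Lie algebra of type `G₂` over `𝔽₃` is coded by a number: bit `k` says
that coordinate `k` gets `+1`, bit `16 + k` that it gets `-1`.  `r3Add`, `r3Sw` are addition and negation on
codes.  A matrix of the form `1 + N` with at most seven non-zero columns in `N` is coded by a number `D`
holding seven slots (a column number and the code of the column, `r3Slots`); `r3Mat` is the matrix and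
`r3MvK` its action on codes (`r3MvK_spec`).  The definitions use the functions on numbers which the kernel
evaluates directly.
-/

set_option autoImplicit false

namespace Cfsg.Agent.Helper57

open Cfsg.Lie Matrix

/-- the number of a coordinate -/
def r3Num : chevG2.Idx → ℕ
  | Sum.inl i => i.val
  | Sum.inr u => 2 + u.val

theorem r3Num_lt (k : chevG2.Idx) : r3Num k < 14 := by
  rcases k with i | u
  · have h : i.val < 2 := i.isLt
    simp only [r3Num]
    omega
  · have h : u.val < 12 := u.isLt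
    simp only [r3Num]
    omega

/-- The coefficient of the coordinate with number `j` in the vector with code `w`. -/
def r3Coef (w j : ℕ) : ZMod 3 :=
  (if w.testBit j then 1 else 0) - (if w.testBit (16 + j) then 1 else 0)

/-- The vector with a given code. -/
def r3Vec (w : ℕ) : chevG2.Idx → ZMod 3 := fun k => r3Coef w (r3Num k)

/-- A bit of a number. -/
def r3Bit (w j : ℕ) : Bool := Nat.beq (Nat.land (Nat.shiftRight w j) 1) 1

theorem r3Bit_eq (w j : ℕ) : r3Bit w j = w.testBit j := by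
  have h1 : Nat.land (Nat.shiftRight w j) 1 = (w >>> j) % 2 := Nat.and_one_is_mod _
  have h2 : w.testBit j = decide ((w >>> j) % 2 = 1) := by
    rw [Nat.testBit_eq_decide_div_mod_eq, Nat.shiftRight_eq_div_pow]
  rw [r3Bit, h1, h2]
  rcases Nat.mod_two_eq_zero_or_one (w >>> j) with h | h <;> rw [h] <;> rfl

/-- Negation on codes: the two planes are exchanged. -/
def r3Sw (a : ℕ) : ℕ :=
  Nat.lor (Nat.mod (Nat.shiftRight a 16) (Nat.pow 2 16)) (Nat.shiftLeft (Nat.mod a (Nat.pow 2 16)) 16)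

/-- Addition on codes. -/
def r3Add (a b : ℕ) : ℕ :=
  let x1 := Nat.xor a b
  let x2 := Nat.land a b
  let x0 := Nat.lor a b
  let sa := r3Sw a
  let sb := r3Sw b
  let s1 := Nat.xor sa sb
  let s2 := Nat.land sa sb
  let s0 := Nat.lor sa sb
  Nat.lor (Nat.lor (Nat.xor x1 (Nat.land x1 s0)) (Nat.land x2 s1)) (Nat.xor s2 (Nat.land s2 x0))

theorem r3Coef_add (a b j : ℕ) (hj : j < 14) :
    r3Coef (r3Add a b) j = r3Coef a j + r3Coef b j := by
  have hx : ∀ x y : ℕ, Nat.xor x y = x ^^^ y := fun _ _ => rfl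
  have ha : ∀ x y : ℕ, Nat.land x y = x &&& y := fun _ _ => rfl
  have ho : ∀ x y : ℕ, Nat.lor x y = x ||| y := fun _ _ => rfl
  have hr : ∀ x y : ℕ, Nat.shiftRight x y = x >>> y := fun _ _ => rfl
  have hl : ∀ x y : ℕ, Nat.shiftLeft x y = x <<< y := fun _ _ => rfl
  have hm : ∀ x y : ℕ, Nat.mod x y = x % y := fun _ _ => rfl
  have hp : ∀ x y : ℕ, Nat.pow x y = x ^ y := fun _ _ => rfl
  have h1 : decide (j < 16) = true := by simp; omega
  have h2 : decide (16 + j < 16) = false := by simp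
  have h3 : decide (16 + j ≥ 16) = true := by simp
  have h4 : decide (j ≥ 16) = false := by simp; omega
  have h5 : 16 + j - 16 = j := by omega
  have h6 : 16 + (16 + j) = 32 + j := by omega
  simp only [r3Coef, r3Add, r3Sw, hx, ha, ho, hr, hl, hm, hp, Nat.testBit_or, Nat.testBit_xor,
    Nat.testBit_and, Nat.testBit_shiftLeft, Nat.testBit_mod_two_pow, Nat.testBit_shiftRight, h1, h2, h3,
    h4, h5, Bool.true_and, Bool.false_and, Bool.or_false, Bool.false_or]
  cases Nat.testBit a j <;> cases Nat.testBit a (16 + j) <;> cases Nat.testBit b j <;>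
    cases Nat.testBit b (16 + j) <;> decide

theorem r3Coef_sw (a j : ℕ) (hj : j < 14) : r3Coef (r3Sw a) j = - r3Coef a j := by
  have ho : ∀ x y : ℕ, Nat.lor x y = x ||| y := fun _ _ => rfl
  have hr : ∀ x y : ℕ, Nat.shiftRight x y = x >>> y := fun _ _ => rfl
  have hl : ∀ x y : ℕ, Nat.shiftLeft x y = x <<< y := fun _ _ => rfl
  have hm : ∀ x y : ℕ, Nat.mod x y = x % y := fun _ _ => rfl
  have hp : ∀ x y : ℕ, Nat.pow x y = x ^ y := fun _ _ => rfl
  have h1 : decide (j < 16) = true := by simp; omega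
  have h2 : decide (16 + j < 16) = false := by simp
  have h3 : decide (16 + j ≥ 16) = true := by simp
  have h4 : decide (j ≥ 16) = false := by simp; omega
  have h5 : 16 + j - 16 = j := by omega
  simp only [r3Coef, r3Sw, ho, hr, hl, hm, hp, Nat.testBit_or, Nat.testBit_shiftLeft,
    Nat.testBit_mod_two_pow, Nat.testBit_shiftRight, h1, h2, h3, h4, h5, Bool.true_and, Bool.false_and,
    Bool.or_false, Bool.false_or]
  cases Nat.testBit a j <;> cases Nat.testBit a (16 + j) <;> decide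

theorem r3Vec_add (a b : ℕ) : r3Vec (r3Add a b) = r3Vec a + r3Vec b := by
  funext k
  exact r3Coef_add a b _ (r3Num_lt k)

theorem r3Vec_sw (a : ℕ) : r3Vec (r3Sw a) = - r3Vec a := by
  funext k
  exact r3Coef_sw a _ (r3Num_lt k)

theorem r3Vec_zero : r3Vec 0 = 0 := by
  funext k
  simp [r3Vec, r3Coef]

/-- One step of the product: the column with code `c` times coefficient `j` of the vector `w` is added. -/
def r3StepK (w acc j c : ℕ) : ℕ :=
  cond (r3Bit w j) (cond (r3Bit w (Nat.add 16 j)) acc (r3Add acc c))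
    (cond (r3Bit w (Nat.add 16 j)) (r3Add acc (r3Sw c)) acc)

theorem r3Vec_step (w acc j c : ℕ) :
    r3Vec (r3StepK w acc j c) = r3Vec acc + r3Coef w j • r3Vec c := by
  have h16 : Nat.add 16 j = 16 + j := rfl
  unfold r3StepK r3Coef
  rw [r3Bit_eq, r3Bit_eq, h16]
  cases Nat.testBit w j <;> cases Nat.testBit w (16 + j) <;> simp [r3Vec_add, r3Vec_sw]

/-- The column number in a slot. -/
def r3SlotJ (D i : ℕ) : ℕ := Nat.mod (Nat.shiftRight D (Nat.mul 36 i)) 16

/-- The code of the column in a slot. -/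
def r3SlotC (D i : ℕ) : ℕ := Nat.mod (Nat.shiftRight D (Nat.add (Nat.mul 36 i) 4)) (Nat.pow 2 32)

/-- The seven slots of a matrix code. -/
def r3Slots (D : ℕ) : List (ℕ × ℕ) :=
  [(r3SlotJ D 0, r3SlotC D 0), (r3SlotJ D 1, r3SlotC D 1), (r3SlotJ D 2, r3SlotC D 2),
    (r3SlotJ D 3, r3SlotC D 3), (r3SlotJ D 4, r3SlotC D 4), (r3SlotJ D 5, r3SlotC D 5),
    (r3SlotJ D 6, r3SlotC D 6)]

/-- The product of `1 + N` with a vector, on codes. -/
def r3MvK (D w : ℕ) : ℕ :=
  r3StepK w (r3StepK w (r3StepK w (r3StepK w (r3StepK w (r3StepK w (r3StepK w w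
    (r3SlotJ D 0) (r3SlotC D 0)) (r3SlotJ D 1) (r3SlotC D 1)) (r3SlotJ D 2) (r3SlotC D 2))
    (r3SlotJ D 3) (r3SlotC D 3)) (r3SlotJ D 4) (r3SlotC D 4)) (r3SlotJ D 5) (r3SlotC D 5))
    (r3SlotJ D 6) (r3SlotC D 6)

/-- The matrix whose column with number `j` is the vector with code `c`, all others being zero. -/
def r3Col (j c : ℕ) : Matrix chevG2.Idx chevG2.Idx (ZMod 3) :=
  fun i k => if j = r3Num k then r3Vec c i else 0

/-- The matrix `N` with given columns. -/
def r3N (l : List (ℕ × ℕ)) : Matrix chevG2.Idx chevG2.Idx (ZMod 3) :=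
  fun i k => (l.map (fun e => r3Col e.1 e.2 i k)).sum

/-- The matrix `1 + N` with a given code. -/
def r3Mat (D : ℕ) : Matrix chevG2.Idx chevG2.Idx (ZMod 3) := 1 + r3N (r3Slots D)

theorem r3_sum_idx (f : ℕ → ZMod 3) : ∑ j : chevG2.Idx, f (r3Num j) =
    f 0 + f 1 + f 2 + f 3 + f 4 + f 5 + f 6 + f 7 + f 8 + f 9 + f 10 + f 11 + f 12 + f 13 := by
  have h : ∑ j : Fin 2 ⊕ Fin 12, f (r3Num j) =
      f 0 + f 1 + f 2 + f 3 + f 4 + f 5 + f 6 + f 7 + f 8 + f 9 + f 10 + f 11 + f 12 + f 13 := by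
    rw [Fintype.sum_sum_type, Fin.sum_univ_two]
    simp only [Fin.sum_univ_succ, Fin.sum_univ_zero]
    simp [r3Num]
    abel
  exact h

theorem r3_sum_coef (w j : ℕ) (hj : j < 14) :
    ∑ k : chevG2.Idx, (if j = r3Num k then r3Vec w k else 0) = r3Coef w j := by
  have h := r3_sum_idx (fun n => if j = n then r3Coef w n else 0)
  have h' : ∑ k : chevG2.Idx, (if j = r3Num k then r3Vec w k else 0) =
      ∑ k : chevG2.Idx, (fun n => if j = n then r3Coef w n else 0) (r3Num k) := rfl
  rw [h', h]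
  interval_cases j <;> simp

theorem r3N_nil : r3N [] = 0 := by
  funext i k
  simp [r3N]

theorem r3N_cons (e : ℕ × ℕ) (l : List (ℕ × ℕ)) : r3N (e :: l) = r3Col e.1 e.2 + r3N l := by
  funext i k
  simp [r3N]

theorem r3_col_mulVec (j c w : ℕ) (hj : j < 14) :
    r3Col j c *ᵥ r3Vec w = r3Coef w j • r3Vec c := by
  funext i
  have h1 : ∀ k : chevG2.Idx, (if j = r3Num k then r3Vec c i else 0) * r3Vec w k =
      r3Vec c i * (if j = r3Num k then r3Vec w k else 0) := by
    intro k
    split_ifs <;> simp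
  simp only [Matrix.mulVec, dotProduct, r3Col, h1, ← Finset.mul_sum, r3_sum_coef w j hj, Pi.smul_apply,
    smul_eq_mul]
  ring

theorem r3_fold_spec (l : List (ℕ × ℕ)) (hl : ∀ e ∈ l, e.1 < 14) (w : ℕ) :
    ∀ acc : ℕ, r3Vec (l.foldl (fun acc e => r3StepK w acc e.1 e.2) acc) =
      r3Vec acc + r3N l *ᵥ r3Vec w := by
  induction l with
  | nil =>
    intro acc
    simp [r3N_nil]
  | cons e l ih =>
    intro acc
    rw [List.foldl_cons, ih (fun e' he' => hl e' (List.mem_cons_of_mem _ he')), r3Vec_step,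
      r3N_cons, Matrix.add_mulVec, r3_col_mulVec e.1 e.2 w (hl e List.mem_cons_self), add_assoc]

theorem r3MvK_spec (D : ℕ) (hD : ∀ e ∈ r3Slots D, e.1 < 14) (w : ℕ) :
    r3Mat D *ᵥ r3Vec w = r3Vec (r3MvK D w) := by
  have h : r3MvK D w = (r3Slots D).foldl (fun acc e => r3StepK w acc e.1 e.2) w := rfl
  rw [h, r3_fold_spec _ hD w w, r3Mat, Matrix.add_mulVec, Matrix.one_mulVec]

end Cfsg.Agent.Helper57
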