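import Cfsg.Agent.Helper16.S4Defs2
import Cfsg.Agent.Helper50.S4MFacts

/-!
# CALL S3702 (helper16): the model facts on `SM = 3³:S₄` used by my pieces INVOL9 and V9
(own names, so that the pieces do not wait for another module).
-/

set_option autoImplicit false

namespace Cfsg.Agent.Helper57

open Cfsg DihedralGroup Cfsg.Agent.Helper16

set_option maxRecDepth 1000000 in
theorem s4m57_R_E : ∀ e : SM, sR e → e ^ 3 ≠ 1 → sE e ∧ sJ (e ^ 3) := by decide +kernel

set_option maxRecDepth 1000000 in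
theorem s4m57_card : Fintype.card SM = 648 := by decide +kernel

theorem s4m57_d1_R : ∀ a b : SM, a.d = 1 → b.d = 1 → ¬ sR (a * b) := by
  intro a b ha hb h
  exact h.2 (by rw [SM.mul_def]; simp [ha, hb])

theorem s4m57_dih : ∀ d e : DihedralGroup 3, dRefl e = false → e ≠ 1 →
    dRefl (d⁻¹ * e * d) = false ∧ d⁻¹ * e * d ≠ 1 := by decide

theorem s4m57_R_conj : ∀ k m : SM, sR m → sR (k⁻¹ * m * k) := by
  intro k m hm
  have h1 : (k⁻¹ * m * k).d = k.d⁻¹ * m.d * k.d := by
    rw [SM.mul_def, SM.mul_def, SM.inv_def]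
  unfold sR
  rw [h1]
  exact s4m57_dih k.d m.d hm.1 hm.2

theorem s4m57_P_pow3 : ∀ p : SM, sP p → p ^ 3 = 1 :=
  fun p hp => (Cfsg.Agent.Helper50.s4m_P p hp).1

end Cfsg.Agent.Helper57
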