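import Cfsg.Agent.Helper16.S4Defs2
import Cfsg.Agent.Helper16.H3Glue
import Cfsg.Agent.Helper57.S4M57

/-!
# CALL S3702 (helper16), piece INVOL9: a product of two conjugates of `φ sa` is not conjugate
to an element of order 9 of `H`
-/

set_option autoImplicit false

namespace Cfsg.Agent.Helper57

open Cfsg DihedralGroup Cfsg.Agent.Helper16

section

variable {G : Type*} [Group G] {φ : SM →* G} {W : Subgroup G}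

-- INVOL9
theorem s4_invol9 [Finite G] (h : S4Cfg φ) (hTI : TICfg φ sE) (hF : FusFact φ) (s₁ s₂ : G) :
    ¬ IsN9 φ (s₁ * φ sa * s₁⁻¹ * (s₂ * φ sa * s₂⁻¹)) := by
  rintro ⟨t, e, heR, he3, het⟩
  obtain ⟨ha2, ha1⟩ := Cfsg.Agent.Helper50.s4m_a
  have hsa2 : φ sa * φ sa = 1 := by rw [← map_mul, ← sq, ha2, map_one]
  have hsq : ∀ c : G, (c * φ sa * c⁻¹) ^ 2 = 1 := by
    intro c
    rw [sq]
    calc c * φ sa * c⁻¹ * (c * φ sa * c⁻¹) = c * (φ sa * φ sa) * c⁻¹ := by group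
      _ = 1 := by rw [hsa2]; group
  have e1 : t⁻¹ * (s₁ * φ sa * s₁⁻¹) * t = (t⁻¹ * s₁) * φ sa * (t⁻¹ * s₁)⁻¹ := by group
  have e2 : t⁻¹ * (s₂ * φ sa * s₂⁻¹) * t = (t⁻¹ * s₂) * φ sa * (t⁻¹ * s₂)⁻¹ := by group
  have huv : ((t⁻¹ * s₁) * φ sa * (t⁻¹ * s₁)⁻¹) * ((t⁻¹ * s₂) * φ sa * (t⁻¹ * s₂)⁻¹) = φ e := by
    rw [← het]; group
  obtain ⟨hsE, -⟩ := s4m57_R_E e heR he3
  obtain ⟨⟨m₁, hm₁⟩, ⟨m₂, hm₂⟩⟩ := hTI.mem_range_of_mul (hsq _) (hsq _) hsE huv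
  obtain ⟨c₁, hc₁⟩ := hF sa m₁ ha2 (t⁻¹ * s₁) hm₁.symm
  obtain ⟨c₂, hc₂⟩ := hF sa m₂ ha2 (t⁻¹ * s₂) hm₂.symm
  have hd1 : m₁.d = 1 := by rw [← hc₁]; exact Cfsg.Agent.Helper50.s4m_a_conj c₁
  have hd2 : m₂.d = 1 := by rw [← hc₂]; exact Cfsg.Agent.Helper50.s4m_a_conj c₂
  have he : e = m₁ * m₂ := by
    apply h.inj
    rw [map_mul, hm₁, hm₂, huv]
  rw [he] at heR
  exact s4m57_d1_R m₁ m₂ hd1 hd2 heR

end

end Cfsg.Agent.Helper57
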