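import Cfsg.Agent.Helper16.S4Defs2

/-!
# CALL S3702 (helper16): the model fact `m_R_cent` on `SM = 3³:S₄` (an element of order 3
centralizing an element of order 9 lies in `J`), via the two classes of elements of order 9.
-/

set_option autoImplicit false

namespace Cfsg.Agent.Helper57

open Cfsg DihedralGroup Cfsg.Agent.Helper16

set_option maxRecDepth 1000000 in
theorem s4m57_e0_cent : ∀ m : SM, m * (sj1 * sx) = (sj1 * sx) * m → m ^ 3 = 1 →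
    ∀ s : SM, sJ (s * m * s⁻¹) := by
  decide +kernel

set_option maxRecDepth 1000000 in
theorem s4m57_e1_cent : ∀ m : SM, m * (sj1⁻¹ * sx) = (sj1⁻¹ * sx) * m → m ^ 3 = 1 →
    ∀ s : SM, sJ (s * m * s⁻¹) := by
  decide +kernel

set_option maxRecDepth 1000000 in
theorem s4m57_e0_conj : ∀ e : SM, sR e → e ^ 3 ≠ 1 →
    ∃ s : SM, e = s * (sj1 * sx) * s⁻¹ ∨ e = s * (sj1⁻¹ * sx) * s⁻¹ := by
  decide +kernel

theorem s4m57_cent_aux {M : Type*} [Group M] (s e0 m : M) (hme : m * (s * e0 * s⁻¹) = s * e0 * s⁻¹ * m)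
    (hm3 : m ^ 3 = 1) :
    (s⁻¹ * m * s) * e0 = e0 * (s⁻¹ * m * s) ∧ (s⁻¹ * m * s) ^ 3 = 1 ∧
      s * (s⁻¹ * m * s) * s⁻¹ = m := by
  refine ⟨?_, ?_, by group⟩
  · calc s⁻¹ * m * s * e0 = s⁻¹ * (m * (s * e0 * s⁻¹)) * s := by group
      _ = s⁻¹ * (s * e0 * s⁻¹ * m) * s := by rw [hme]
      _ = e0 * (s⁻¹ * m * s) := by group
  · have e1 : s⁻¹ * m * s = s⁻¹ * m * s⁻¹⁻¹ := by rw [inv_inv]
    rw [e1, conj_pow, hm3, mul_one, mul_inv_cancel]

theorem s4m57_R_cent : ∀ e m : SM, sR e → e ^ 3 ≠ 1 → m * e = e * m → m ^ 3 = 1 → sJ m := by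
  intro e m he he3 hme hm3
  obtain ⟨s, hs | hs⟩ := s4m57_e0_conj e he he3
  · rw [hs] at hme
    obtain ⟨h1, h2, h3⟩ := s4m57_cent_aux s _ m hme hm3
    have := s4m57_e0_cent _ h1 h2 s
    rwa [h3] at this
  · rw [hs] at hme
    obtain ⟨h1, h2, h3⟩ := s4m57_cent_aux s _ m hme hm3
    have := s4m57_e1_cent _ h1 h2 s
    rwa [h3] at this

end Cfsg.Agent.Helper57
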