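import Cfsg.Agent.Helper16.S4Defs2
import Cfsg.Agent.Helper16.H3Glue
import Cfsg.Agent.Helper57.S4M57
import Cfsg.Agent.Helper57.S4M57b

/-!
# CALL S3702 (helper16), piece V9: the counting sets at an element of order 9
-/

set_option autoImplicit false

namespace Cfsg.Agent.Helper57

open Cfsg DihedralGroup Cfsg.Agent.Helper16

section

variable {G : Type*} [Group G] {φ : SM →* G} {W : Subgroup G}

/-- a conjugate is trivial only if the element is (inverse on the left) -/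
theorem s4_conj_eq_one' (t a : G) (h : t⁻¹ * a * t = 1) : a = 1 := by
  have := congrArg (fun z => t * z * t⁻¹) h
  simpa [mul_assoc] using this

-- V9
theorem s4_v9 [Finite G] (h : S4Cfg φ) (hTI : TICfg φ sE) (hW : XData φ W) (e : SM) (he : sR e)
    (he3 : e ^ 3 ≠ 1) :
    Nat.card (s4N1 φ (φ e)) = 648 ∧ s4NC φ W (φ e) = ∅ ∧ s4NP φ (φ e) = ∅ := by
  obtain ⟨hsE, hJ3⟩ := s4m57_R_E e he he3
  refine ⟨?_, ?_, ?_⟩
  · -- N1 (φ e) = H
    have hset : s4N1 φ (φ e) = (φ.range : Set G) := by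
      ext t
      constructor
      · rintro ⟨m, -, hm⟩
        have h1 : t⁻¹ ∈ φ.range := hTI.ti e hsE t⁻¹ (by rw [inv_inv, hm]; exact ⟨m, rfl⟩)
        have h2 := φ.range.inv_mem h1
        rwa [inv_inv] at h2
      · rintro ⟨s, rfl⟩
        exact ⟨s⁻¹ * e * s, s4m57_R_conj s e he, by rw [map_mul, map_mul, map_inv]⟩
    rw [hset, MonoidHom.coe_range, ← Nat.card_congr (Equiv.ofInjective φ h.inj),
      Nat.card_eq_fintype_card, s4m57_card]
  · -- NC (φ e) = ∅
    rw [Set.eq_empty_iff_forall_notMem]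
    rintro t ⟨w, hw, m, hmP, -, ht⟩
    obtain ⟨hx3, -, hxJ, -, -, -⟩ := Cfsg.Agent.Helper50.s4m_x
    -- `w * φ m` commutes with `φ sx`
    have hc1 : (w * φ m) * φ sx = φ sx * (w * φ m) := by
      have hmx : φ m * φ sx = φ sx * φ m := by rw [← map_mul, ← map_mul, hmP]
      rw [mul_assoc, hmx, ← mul_assoc, hW.le w hw, mul_assoc]
    rw [← ht] at hc1
    -- so `t x t⁻¹` commutes with `φ e`
    have hc2 : (t * φ sx * t⁻¹) * φ e = φ e * (t * φ sx * t⁻¹) := by
      calc t * φ sx * t⁻¹ * φ e = t * (φ sx * (t⁻¹ * φ e * t)) * t⁻¹ := by group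
        _ = t * ((t⁻¹ * φ e * t) * φ sx) * t⁻¹ := by rw [hc1]
        _ = φ e * (t * φ sx * t⁻¹) := by group
    have hc3 : (t * φ sx * t⁻¹) * φ (e ^ 3) = φ (e ^ 3) * (t * φ sx * t⁻¹) := by
      rw [map_pow]
      exact (Commute.pow_right hc2 3).eq
    obtain ⟨m', hm'⟩ := h.cent (e ^ 3) hJ3 he3 _ hc3
    have hm'e : m' * e = e * m' := by
      apply h.inj
      rw [map_mul, map_mul, hm']
      exact hc2
    have hm'3 : m' ^ 3 = 1 := by
      apply h.inj
      rw [map_pow, hm', conj_pow, ← map_pow, hx3, map_one, mul_one, mul_inv_cancel]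
    have hm'J : sJ m' := s4m57_R_cent e m' he he3 hm'e hm'3
    obtain ⟨j', hj'J, hj'⟩ := h.sc m' hm'J t⁻¹ (by
      rw [hm', inv_inv]
      refine ⟨sx, ?_⟩
      group)
    have hxj : sx = j' := by
      apply h.inj
      rw [← hj', hm', inv_inv]
      group
    rw [← hxj] at hj'J
    exact hxJ hj'J
  · -- NP (φ e) = ∅
    rw [Set.eq_empty_iff_forall_notMem]
    rintro t ⟨m, hmP, -, ht⟩
    have hm3 := s4m57_P_pow3 m hmP
    apply he3
    apply h.inj
    rw [map_one]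
    apply s4_conj_eq_one' t
    have : t⁻¹ * φ (e ^ 3) * t = (t⁻¹ * φ e * t) ^ 3 := by
      rw [map_pow]
      have e1 : t⁻¹ * φ e * t = t⁻¹ * φ e * t⁻¹⁻¹ := by rw [inv_inv]
      have e2 : t⁻¹ * φ e ^ 3 * t = t⁻¹ * φ e ^ 3 * t⁻¹⁻¹ := by rw [inv_inv]
      rw [e1, e2, conj_pow]
    rw [this, ht, ← map_pow, hm3, map_one]

end

end Cfsg.Agent.Helper57
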