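import Mathlib
import Cfsg.Prelude.Def_GeometricClasses
import Cfsg.Prelude.Def_Classical
import Cfsg.Agent.Helper98.ELPDefs

/-!
# Sub-CALL S74T2 (helper65), piece SIEGP (helper57, double)
-/

set_option autoImplicit false
set_option linter.unusedSectionVars false
set_option linter.unusedVariables false

namespace Cfsg.Agent.Helper57.S74T2

open Module Cfsg Cfsg.Geo
open scoped MatrixGroups

section sieg

variable {F : Type*} [Field F]

/-- SIEGP [S]: the Siegel matrix `siegM T = [[1, T - Tᵀ], [0, 1]]` in characteristic `2`. -/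
theorem t2_siegP (h2 : (2 : F) = 0) (d : ℕ) (T : Matrix (Fin d) (Fin d) F)
    (hinj : ∀ b : Fin d → F, (T - T.transpose).mulVec b = 0 → b = 0) :
    (∀ u : Fin d ⊕ Fin d → F, QuadraticMap.polar (Cfsg.quadFormPlus d F) u
      ((Cfsg.Agent.Helper98.ELP.siegM T).mulVec u) = 0) ∧
    (∀ u v : Fin d ⊕ Fin d → F, (Cfsg.Agent.Helper98.ELP.siegM T).mulVec u = u →
      (Cfsg.Agent.Helper98.ELP.siegM T).mulVec v = v →
      QuadraticMap.polar (Cfsg.quadFormPlus d F) u v = 0) := by
  have hpol : ∀ u u' : Fin d ⊕ Fin d → F, QuadraticMap.polar (Cfsg.quadFormPlus d F) u u' =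
      ∑ i : Fin d, (u (.inl i) * u' (.inr i) + u' (.inl i) * u (.inr i)) := by
    intro u u'
    unfold QuadraticMap.polar Cfsg.quadFormPlus
    rw [← Finset.sum_sub_distrib, ← Finset.sum_sub_distrib]
    apply Finset.sum_congr rfl
    intro i _
    simp only [Pi.add_apply]
    ring
  have hl : ∀ (u : Fin d ⊕ Fin d → F) (i : Fin d),
      (Cfsg.Agent.Helper98.ELP.siegM T).mulVec u (.inl i) =
      u (.inl i) + ((T - T.transpose).mulVec (u ∘ Sum.inr)) i := by
    intro u i
    unfold Cfsg.Agent.Helper98.ELP.siegM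
    rw [Matrix.fromBlocks_mulVec]
    simp [Matrix.one_mulVec]
  have hr : ∀ (u : Fin d ⊕ Fin d → F) (i : Fin d),
      (Cfsg.Agent.Helper98.ELP.siegM T).mulVec u (.inr i) = u (.inr i) := by
    intro u i
    unfold Cfsg.Agent.Helper98.ELP.siegM
    rw [Matrix.fromBlocks_mulVec]
    simp [Matrix.one_mulVec]
  refine ⟨?_, ?_⟩
  · intro u
    rw [hpol]
    have h1 : ∀ i : Fin d, (u (.inl i) * (Cfsg.Agent.Helper98.ELP.siegM T).mulVec u (.inr i) +
        (Cfsg.Agent.Helper98.ELP.siegM T).mulVec u (.inl i) * u (.inr i)) =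
        ((T - T.transpose).mulVec (u ∘ Sum.inr)) i * (u ∘ Sum.inr) i := by
      intro i
      rw [hl, hr]
      have h22 : u (.inl i) * u (.inr i) + u (.inl i) * u (.inr i) = 0 := by
        have h3 : u (.inl i) * u (.inr i) + u (.inl i) * u (.inr i) =
            2 * (u (.inl i) * u (.inr i)) := by ring
        rw [h3, h2, zero_mul]
      show u (.inl i) * u (.inr i) +
        (u (.inl i) + ((T - T.transpose).mulVec (u ∘ Sum.inr)) i) * u (.inr i) =
        ((T - T.transpose).mulVec (u ∘ Sum.inr)) i * u (.inr i)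
      linear_combination h22
    rw [Finset.sum_congr rfl (fun i _ => h1 i)]
    have h3 : ∑ i : Fin d, ((T - T.transpose).mulVec (u ∘ Sum.inr)) i * (u ∘ Sum.inr) i =
        ((T - T.transpose).mulVec (u ∘ Sum.inr)) ⬝ᵥ (u ∘ Sum.inr) := rfl
    rw [h3, Matrix.sub_mulVec, sub_dotProduct, Matrix.mulVec_transpose, ← Matrix.dotProduct_mulVec,
      dotProduct_comm (u ∘ Sum.inr), sub_self]
  · intro u v hu hv
    have key : ∀ w : Fin d ⊕ Fin d → F, (Cfsg.Agent.Helper98.ELP.siegM T).mulVec w = w →
        ∀ i, w (.inr i) = 0 := by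
      intro w hw
      have h1 : (T - T.transpose).mulVec (w ∘ Sum.inr) = 0 := by
        funext i
        have h4 := congrFun hw (.inl i)
        rw [hl] at h4
        have h5 : ((T - T.transpose).mulVec (w ∘ Sum.inr)) i = 0 := by
          linear_combination h4
        exact h5
      have h6 := hinj _ h1
      intro i
      exact congrFun h6 i
    rw [hpol]
    apply Finset.sum_eq_zero
    intro i _
    rw [key u hu i, key v hv i, mul_zero, mul_zero, add_zero]

end sieg

end Cfsg.Agent.Helper57.S74T2
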