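import Mathlib
import Cfsg.Agent.Helper71.T4Defs
import Cfsg.Agent.Helper81.SODefs

/-!
# CALL SO (helper81), piece EA3: Eichler API
-/

set_option autoImplicit false

namespace Cfsg.Agent.Helper57.SOEA3

open Matrix Cfsg.Agent.Helper71.T4 Cfsg.Agent.Helper81.SO
open scoped Kronecker

variable {F : Type*} [Field F] {k : ℕ}

theorem mat_ext_mulVec {M N : Matrix (Fin k) (Fin k) F} (h : ∀ x, M *ᵥ x = N *ᵥ x) : M = N := by
  ext i j
  have := congrFun (h (Pi.single j 1)) i
  simpa [Matrix.mulVec_single_one] using this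

theorem vmv_mulVec (S : Matrix (Fin k) (Fin k) F) (u a x : Fin k → F) :
    vecMulVec u (S *ᵥ a) *ᵥ x = phi S x a • u := by
  rw [Matrix.vecMulVec_mulVec, op_smul_eq_smul]
  congr 1
  unfold phi
  rw [dotProduct_comm]

theorem eich_mulVec (S : Matrix (Fin k) (Fin k) F) (a b x : Fin k → F) :
    eich S a b *ᵥ x = x + phi S x a • b - phi S x b • a - (phi S b b / 2 * phi S x a) • a := by
  unfold eich
  rw [Matrix.sub_mulVec, Matrix.sub_mulVec, Matrix.add_mulVec, Matrix.one_mulVec,
    Matrix.smul_mulVec, vmv_mulVec, vmv_mulVec, vmv_mulVec, smul_smul]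

theorem eich_mulVec' (S : Matrix (Fin k) (Fin k) F) (a b x : Fin k → F) :
    eich S a b *ᵥ x
      = x + phi S x a • b + (-(phi S x b) + -(phi S b b / 2 * phi S x a)) • a := by
  rw [eich_mulVec]; module

theorem eich_zero (S : Matrix (Fin k) (Fin k) F) (a : Fin k → F) : eich S a 0 = 1 := by
  unfold eich phi; simp

theorem eich_form (h2 : (2 : F) ≠ 0) (S : Matrix (Fin k) (Fin k) F) (hS : Sᵀ = S)
    (a b : Fin k → F) (ha : phi S a a = 0) (hab : phi S a b = 0) (x y : Fin k → F) :
    phi S (eich S a b *ᵥ x) (eich S a b *ᵥ y) = phi S x y := by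
  have hba : phi S b a = 0 := by rw [phi_comm S hS]; exact hab
  rw [eich_mulVec', eich_mulVec']
  simp only [phi_add_left, phi_add_right, phi_smul_left, phi_smul_right, ha, hab, hba]
  rw [phi_comm S hS a y, phi_comm S hS b y]
  field_simp
  ring

theorem form_mulVec (S M : Matrix (Fin k) (Fin k) F) (x y : Fin k → F) :
    x ⬝ᵥ (Mᵀ * S * M) *ᵥ y = phi S (M *ᵥ x) (M *ᵥ y) := by
  unfold phi
  rw [← Matrix.mulVec_mulVec, ← Matrix.mulVec_mulVec, Matrix.dotProduct_mulVec x Mᵀ,
    Matrix.vecMul_transpose]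

theorem eich_orth (h2 : (2 : F) ≠ 0) (S : Matrix (Fin k) (Fin k) F) (hS : Sᵀ = S)
    (a b : Fin k → F) (ha : phi S a a = 0) (hab : phi S a b = 0) :
    (eich S a b)ᵀ * S * eich S a b = S := by
  ext i j
  have h := eich_form h2 S hS a b ha hab (Pi.single i 1) (Pi.single j 1)
  rw [← form_mulVec] at h
  unfold phi at h
  simpa [Matrix.mulVec_single_one, single_one_dotProduct] using h

theorem eich_add (h2 : (2 : F) ≠ 0) (S : Matrix (Fin k) (Fin k) F) (hS : Sᵀ = S)
    (a b b' : Fin k → F) (ha : phi S a a = 0) (hab : phi S a b = 0) (hab' : phi S a b' = 0) :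
    eich S a b * eich S a b' = eich S a (b + b') := by
  have hba : phi S b a = 0 := by rw [phi_comm S hS]; exact hab
  have hb'a : phi S b' a = 0 := by rw [phi_comm S hS]; exact hab'
  apply mat_ext_mulVec
  intro x
  rw [← Matrix.mulVec_mulVec, eich_mulVec' S a b', eich_mulVec' S a b, eich_mulVec' S a (b + b')]
  simp only [phi_add_left, phi_add_right, phi_smul_left, ha, hab, hb'a]
  rw [phi_comm S hS b' b]
  match_scalars <;> field_simp <;> ring

theorem eich_sub_one_sq (h2 : (2 : F) ≠ 0) (S : Matrix (Fin k) (Fin k) F) (hS : Sᵀ = S)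
    (a b : Fin k → F) (ha : phi S a a = 0) (hab : phi S a b = 0) :
    (eich S a b - 1) * (eich S a b - 1) = -(phi S b b) • vecMulVec a (S *ᵥ a) := by
  have hba : phi S b a = 0 := by rw [phi_comm S hS]; exact hab
  have hN : ∀ y : Fin k → F, (eich S a b - 1) *ᵥ y
      = phi S y a • b + (-(phi S y b) + -(phi S b b / 2 * phi S y a)) • a := by
    intro y
    rw [Matrix.sub_mulVec, Matrix.one_mulVec, eich_mulVec']; module
  apply mat_ext_mulVec
  intro x
  rw [← Matrix.mulVec_mulVec, hN x, hN, Matrix.smul_mulVec, vmv_mulVec]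
  simp only [phi_add_left, phi_smul_left, ha, hab, hba]
  match_scalars <;> field_simp <;> ring

theorem eich_pow_char (h2 : (2 : F) ≠ 0) (p : ℕ) [CharP F p] (S : Matrix (Fin k) (Fin k) F)
    (hS : Sᵀ = S) (a b : Fin k → F) (ha : phi S a a = 0) (hab : phi S a b = 0) :
    eich S a b ^ p = 1 := by
  have hpow : ∀ n : ℕ, eich S a b ^ n = eich S a ((n : F) • b) := by
    intro n
    induction n with
    | zero => rw [pow_zero, Nat.cast_zero, zero_smul, eich_zero]
    | succ n ih =>
      have h1 : phi S a ((n : F) • b) = 0 := by rw [phi_smul_right, hab, mul_zero]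
      rw [pow_succ, ih, eich_add h2 S hS a _ b ha h1 hab]
      congr 1
      rw [Nat.cast_succ, add_smul, one_smul]
  rw [hpow, CharP.cast_eq_zero, zero_smul, eich_zero]

end Cfsg.Agent.Helper57.SOEA3
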