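import Mathlib
import Cfsg.Agent.Helper71.T4Defs
import Cfsg.Agent.Helper81.SODefs
import Cfsg.Agent.Helper81.SOEA1

/-!
# CALL SO (helper81), piece NA: the set of `B` with `[[1, B], [0, 1]] ∈ M`
-/

set_option autoImplicit false

namespace Cfsg.Agent.Helper57.SONA

open Matrix Cfsg.Agent.Helper71.T4 Cfsg.Agent.Helper81.SO
open scoped Kronecker

variable {F : Type*} [Field F] {k : ℕ}

theorem inM_mul (M : Subgroup (GL (Fin 2 × Fin k) F))
    {Z Z' : Matrix (Fin 2 × Fin k) (Fin 2 × Fin k) F} (h : InM M Z) (h' : InM M Z') :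
    InM M (Z * Z') := by
  obtain ⟨g, hg, rfl⟩ := h
  obtain ⟨g', hg', rfl⟩ := h'
  exact ⟨g * g', M.mul_mem hg hg', by rw [Units.val_mul]⟩

theorem inM_inv (M : Subgroup (GL (Fin 2 × Fin k) F))
    {Z Z' : Matrix (Fin 2 × Fin k) (Fin 2 × Fin k) F} (h : InM M Z) (hZ : Z * Z' = 1) :
    InM M Z' := by
  obtain ⟨g, hg, rfl⟩ := h
  exact ⟨g⁻¹, M.inv_mem hg, Units.inv_eq_of_mul_eq_one_right hZ⟩

theorem inM_one (M : Subgroup (GL (Fin 2 × Fin k) F)) :
    InM M (1 : Matrix (Fin 2 × Fin k) (Fin 2 × Fin k) F) :=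
  ⟨1, M.one_mem, rfl⟩

theorem xset_add (M : Subgroup (GL (Fin 2 × Fin k) F)) {B B' : Matrix (Fin k) (Fin k) F}
    (h : InM M (X B)) (h' : InM M (X B')) : InM M (X (B + B')) := by
  rw [← X_mul]
  exact inM_mul M h h'

theorem xset_neg (M : Subgroup (GL (Fin 2 × Fin k) F)) {B : Matrix (Fin k) (Fin k) F}
    (h : InM M (X B)) : InM M (X (-B)) := by
  refine inM_inv M h ?_
  rw [X_mul, add_neg_cancel, X_zero]

/-- conjugating `X B` by `diag(α, α⁻¹) ⊗ 1` -/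
theorem X_conj_diag (B : Matrix (Fin k) (Fin k) F) (α β : F) :
    (!![α, 0; 0, β] ⊗ₖ (1 : Matrix (Fin k) (Fin k) F)) * X B *
      (!![β, 0; 0, α] ⊗ₖ (1 : Matrix (Fin k) (Fin k) F))
      = (!![α * β, 0; 0, α * β] ⊗ₖ (1 : Matrix (Fin k) (Fin k) F)) + X ((α * α) • B) - 1 := by
  have hE : (Matrix.single (0 : Fin 2) (1 : Fin 2) (1 : F)) = !![0, 1; 0, 0] := by
    ext i j; fin_cases i <;> fin_cases j <;> simp
  unfold X
  rw [hE, Matrix.mul_add, Matrix.add_mul, Matrix.mul_one, ← Matrix.mul_kronecker_mul,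
    ← Matrix.mul_kronecker_mul, ← Matrix.mul_kronecker_mul, Matrix.mul_one, Matrix.mul_one,
    Matrix.one_mul, Matrix.mul_fin_two, Matrix.mul_fin_two, Matrix.mul_fin_two,
    Matrix.kronecker_smul, ← Matrix.smul_kronecker]
  have e1 : !![α * β + 0 * 0, α * 0 + 0 * α; 0 * β + β * 0, 0 * 0 + β * α]
      = !![α * β, 0; 0, α * β] := by
    ext i j; fin_cases i <;> fin_cases j <;> simp [mul_comm]
  have e2 : !![(α * 0 + 0 * 0) * β + (α * 1 + 0 * 0) * 0, (α * 0 + 0 * 0) * 0 + (α * 1 + 0 * 0) * α;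
        (0 * 0 + β * 0) * β + (0 * 1 + β * 0) * 0, (0 * 0 + β * 0) * 0 + (0 * 1 + β * 0) * α]
      = (α * α) • !![(0 : F), 1; 0, 0] := by
    ext i j; fin_cases i <;> fin_cases j <;> simp
  rw [e1, e2]
  abel

theorem xset_sq (S : Matrix (Fin k) (Fin k) F)
    (M : Subgroup (GL (Fin 2 × Fin k) F)) (hH : HasH S M) {B : Matrix (Fin k) (Fin k) F}
    (h : InM M (X B)) (α : F) : InM M (X ((α * α) • B)) := by
  by_cases hα : α = 0
  · rw [hα, mul_zero, zero_smul, X_zero]; exact inM_one M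
  · have hd1 : InM M (!![α, 0; 0, α⁻¹] ⊗ₖ (1 : Matrix (Fin k) (Fin k) F)) := by
      apply hH
      apply Cfsg.Agent.Helper81.SOEA1.isSp_kron_one
      rw [Matrix.det_fin_two_of, mul_inv_cancel₀ hα]; ring
    have hd2 : InM M (!![α⁻¹, 0; 0, α] ⊗ₖ (1 : Matrix (Fin k) (Fin k) F)) := by
      apply hH
      apply Cfsg.Agent.Helper81.SOEA1.isSp_kron_one
      rw [Matrix.det_fin_two_of, inv_mul_cancel₀ hα]; ring
    have h3 := inM_mul M (inM_mul M hd1 h) hd2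
    rw [X_conj_diag] at h3
    have e : !![α * α⁻¹, 0; 0, α * α⁻¹] = (1 : Matrix (Fin 2) (Fin 2) F) := by
      rw [mul_inv_cancel₀ hα, Matrix.one_fin_two]
    rw [e, Matrix.one_kronecker_one, add_sub_cancel_left] at h3
    exact h3

theorem xset_smul (h2 : (2 : F) ≠ 0) (S : Matrix (Fin k) (Fin k) F)
    (M : Subgroup (GL (Fin 2 × Fin k) F)) (hH : HasH S M) {B : Matrix (Fin k) (Fin k) F}
    (h : InM M (X B)) (c : F) : InM M (X (c • B)) := by
  have h1 := xset_sq S M hH h ((c + 1) / 2)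
  have h2' := xset_neg M (xset_sq S M hH h ((c - 1) / 2))
  have h3 := xset_add M h1 h2'
  have e : ((c + 1) / 2 * ((c + 1) / 2)) • B + -(((c - 1) / 2 * ((c - 1) / 2)) • B) = c • B := by
    rw [← neg_smul, ← add_smul]
    congr 1
    field_simp
    ring
  rw [e] at h3
  exact h3

theorem xset_conj (S : Matrix (Fin k) (Fin k) F) (M : Subgroup (GL (Fin 2 × Fin k) F))
    (hH : HasH S M) {B : Matrix (Fin k) (Fin k) F} (h : InM M (X B))
    (r r' : Matrix (Fin k) (Fin k) F) (hr : rᵀ * S * r = S) (hrr : r * r' = 1) :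
    InM M (X (r * B * r')) := by
  have h1 : InM M ((1 : Matrix (Fin 2) (Fin 2) F) ⊗ₖ r) :=
    hH _ _ (Cfsg.Agent.Helper81.SOEA1.isSp_one_kron S r hr)
  have h11 : ((1 : Matrix (Fin 2) (Fin 2) F) ⊗ₖ r) * ((1 : Matrix (Fin 2) (Fin 2) F) ⊗ₖ r') = 1 := by
    rw [← Matrix.mul_kronecker_mul, Matrix.one_mul, hrr, Matrix.one_kronecker_one]
  have h2 : InM M ((1 : Matrix (Fin 2) (Fin 2) F) ⊗ₖ r') := inM_inv M h1 h11
  have h3 := inM_mul M (inM_mul M h1 h) h2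
  have e : ((1 : Matrix (Fin 2) (Fin 2) F) ⊗ₖ r) * X B * ((1 : Matrix (Fin 2) (Fin 2) F) ⊗ₖ r')
      = X (r * B * r') := by
    unfold X
    rw [Matrix.mul_add, Matrix.add_mul, Matrix.mul_one, h11, ← Matrix.mul_kronecker_mul,
      ← Matrix.mul_kronecker_mul, Matrix.one_mul, Matrix.mul_one]
  rw [e] at h3
  exact h3

theorem xset_sa (S : Matrix (Fin k) (Fin k) F) (hS : Sᵀ = S)
    (M : Subgroup (GL (Fin 2 × Fin k) F)) (hSp : InSp S M) {B : Matrix (Fin k) (Fin k) F}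
    (h : InM M (X B)) : Bᵀ * S = S * B := by
  obtain ⟨g, hg, hgB⟩ := h
  have := hSp g hg
  rw [hgB] at this
  exact (Cfsg.Agent.Helper81.SOEA1.isSp_X_iff S hS B).mp this

end Cfsg.Agent.Helper57.SONA
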