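import Mathlib
import Cfsg.Agent.Helper71.T4Defs
import Cfsg.Agent.Helper81.SODefs
import Cfsg.Agent.Helper81.SOEA1
import Cfsg.Agent.Helper57.SONA

/-!
# CALL SO (helper81), piece F1: block upper triangular elements of `M` are Kronecker products
-/

set_option autoImplicit false
set_option linter.unusedSimpArgs false
set_option linter.unusedSectionVars false

namespace Cfsg.Agent.Helper57.SOF1

open Matrix Cfsg.Agent.Helper71.T4 Cfsg.Agent.Helper81.SO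
open scoped Kronecker

variable {F : Type*} [Field F] {k : ℕ}

theorem bk_X00 (B : Matrix (Fin k) (Fin k) F) : bk (X B) 0 0 = 1 := by
  unfold X; rw [bk_add, bk_one, bk_kron]; simp

theorem bk_X01 (B : Matrix (Fin k) (Fin k) F) : bk (X B) 0 1 = B := by
  unfold X; rw [bk_add, bk_one, bk_kron]; simp

theorem bk_X10 (B : Matrix (Fin k) (Fin k) F) : bk (X B) 1 0 = 0 := by
  unfold X; rw [bk_add, bk_one, bk_kron]; simp

theorem bk_X11 (B : Matrix (Fin k) (Fin k) F) : bk (X B) 1 1 = 1 := by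
  unfold X; rw [bk_add, bk_one, bk_kron]; simp

theorem bk_ext4 {g h : Matrix (Fin 2 × Fin k) (Fin 2 × Fin k) F}
    (h00 : bk g 0 0 = bk h 0 0) (h01 : bk g 0 1 = bk h 0 1)
    (h10 : bk g 1 0 = bk h 1 0) (h11 : bk g 1 1 = bk h 1 1) : g = h :=
  bk_ext (Fin.forall_fin_two.mpr ⟨Fin.forall_fin_two.mpr ⟨h00, h01⟩,
    Fin.forall_fin_two.mpr ⟨h10, h11⟩⟩)

theorem bk_mul_eq {g h r : Matrix (Fin 2 × Fin k) (Fin 2 × Fin k) F} (H : g * h = r)
    (i j : Fin 2) : bk g i 0 * bk h 0 j + bk g i 1 * bk h 1 j = bk r i j := by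
  rw [← bk_mul, H]

theorem bk_transpose (Z : Matrix (Fin 2 × Fin k) (Fin 2 × Fin k) F) (i j : Fin 2) :
    bk Zᵀ i j = (bk Z j i)ᵀ := by
  ext l l'; rfl

theorem bk_gramT (S : Matrix (Fin k) (Fin k) F) (i j : Fin 2) :
    bk (gramT S) i j = J2 F i j • S := by
  unfold gramT; exact bk_kron _ _ _ _

theorem bk_one00 : bk (1 : Matrix (Fin 2 × Fin k) (Fin 2 × Fin k) F) 0 0 = 1 := by
  rw [bk_one]; simp

theorem bk_one01 : bk (1 : Matrix (Fin 2 × Fin k) (Fin 2 × Fin k) F) 0 1 = 0 := by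
  rw [bk_one]; simp

theorem bk_one10 : bk (1 : Matrix (Fin 2 × Fin k) (Fin 2 × Fin k) F) 1 0 = 0 := by
  rw [bk_one]; simp

theorem bk_one11 : bk (1 : Matrix (Fin 2 × Fin k) (Fin 2 × Fin k) F) 1 1 = 1 := by
  rw [bk_one]; simp

theorem kron_of_upper (S : Matrix (Fin k) (Fin k) F) (hS : Sᵀ = S) (hdet : S.det ≠ 0)
    (M : Subgroup (GL (Fin 2 × Fin k) F)) (hH : HasH S M) (hSp : InSp S M) (hNS : NSX M)
    (g : GL (Fin 2 × Fin k) F) (hg : g ∈ M)
    (h0 : bk (g : Matrix (Fin 2 × Fin k) (Fin 2 × Fin k) F) 1 0 = 0) :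
    IsKron (g : Matrix (Fin 2 × Fin k) (Fin 2 × Fin k) F) := by
  classical
  rcases Nat.eq_zero_or_pos k with hk0 | hkpos
  · subst hk0
    refine ⟨1, 1, ?_⟩
    ext ⟨i, l⟩; exact l.elim0
  have hsp := hSp g hg
  have hgM : InM M (g : Matrix (Fin 2 × Fin k) (Fin 2 × Fin k) F) := ⟨g, hg, rfl⟩
  have hconjM : ∀ Z, InM M Z → InM M ((g : Matrix (Fin 2 × Fin k) (Fin 2 × Fin k) F) * Z *
      ((g⁻¹ : GL (Fin 2 × Fin k) F) : Matrix (Fin 2 × Fin k) (Fin 2 × Fin k) F)) := by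
    intro Z hZ
    exact Cfsg.Agent.Helper57.SONA.inM_mul M (Cfsg.Agent.Helper57.SONA.inM_mul M hgM hZ)
      ⟨g⁻¹, M.inv_mem hg, rfl⟩
  have hGG' : (g : Matrix (Fin 2 × Fin k) (Fin 2 × Fin k) F) *
      ((g⁻¹ : GL (Fin 2 × Fin k) F) : Matrix (Fin 2 × Fin k) (Fin 2 × Fin k) F) = 1 := by
    rw [← Units.val_mul, mul_inv_cancel, Units.val_one]
  have hG'G : ((g⁻¹ : GL (Fin 2 × Fin k) F) : Matrix (Fin 2 × Fin k) (Fin 2 × Fin k) F) *
      (g : Matrix (Fin 2 × Fin k) (Fin 2 × Fin k) F) = 1 := by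
    rw [← Units.val_mul, inv_mul_cancel, Units.val_one]
  generalize (g : Matrix (Fin 2 × Fin k) (Fin 2 × Fin k) F) = G at h0 hsp hgM hconjM hGG' hG'G ⊢
  generalize ((g⁻¹ : GL (Fin 2 × Fin k) F) : Matrix (Fin 2 × Fin k) (Fin 2 × Fin k) F) = G'
    at hconjM hGG' hG'G
  -- block relations
  have a00 := bk_mul_eq hG'G 0 0
  have a10 := bk_mul_eq hG'G 1 0
  have b01 := bk_mul_eq hGG' 0 1
  have b11 := bk_mul_eq hGG' 1 1
  rw [h0, mul_zero, add_zero, bk_one00] at a00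
  rw [h0, mul_zero, add_zero, bk_one10] at a10
  rw [bk_one01] at b01
  rw [h0, zero_mul, zero_add, bk_one11] at b11
  have hAA' : bk G 0 0 * bk G' 0 0 = 1 := mul_eq_one_comm.mp a00
  have hD'D : bk G' 1 1 * bk G 1 1 = 1 := mul_eq_one_comm.mp b11
  have hE' : bk G' 1 0 = 0 := by
    calc bk G' 1 0 = bk G' 1 0 * (bk G 0 0 * bk G' 0 0) := by rw [hAA', mul_one]
      _ = (bk G' 1 0 * bk G 0 0) * bk G' 0 0 := by rw [mul_assoc]
      _ = 0 := by rw [a10, zero_mul]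
  -- conjugation formula
  have hconj : ∀ B, G * X B * G' = X (bk G 0 0 * B * bk G' 1 1) := by
    intro B
    apply bk_ext4
    · simp only [bk_mul, bk_X00, bk_X01, bk_X10, bk_X11, h0, hE', mul_one, mul_zero, zero_mul,
        add_zero, zero_add]
      exact hAA'
    · simp only [bk_mul, bk_X00, bk_X01, bk_X10, bk_X11, h0, hE', mul_one, mul_zero, zero_mul,
        add_zero, zero_add]
      have : bk G 0 0 * bk G' 0 1 + (bk G 0 0 * B + bk G 0 1) * bk G' 1 1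
          = bk G 0 0 * B * bk G' 1 1 + (bk G 0 0 * bk G' 0 1 + bk G 0 1 * bk G' 1 1) := by
        rw [add_mul]; abel
      rw [this, b01, add_zero]
    · simp only [bk_mul, bk_X00, bk_X01, bk_X10, bk_X11, h0, hE', mul_one, mul_zero, zero_mul,
        add_zero, zero_add]
    · simp only [bk_mul, bk_X00, bk_X01, bk_X10, bk_X11, h0, hE', mul_one, mul_zero, zero_mul,
        add_zero, zero_add]
      exact b11
  -- `X 1 ∈ M`
  have hE : (Matrix.single (0 : Fin 2) (1 : Fin 2) (1 : F)) = !![0, 1; 0, 0] := by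
    ext i j; fin_cases i <;> fin_cases j <;> simp
  have hX1 : InM M (X (1 : Matrix (Fin k) (Fin k) F)) := by
    have : X (1 : Matrix (Fin k) (Fin k) F)
        = (1 + Matrix.single (0 : Fin 2) (1 : Fin 2) (1 : F)) ⊗ₖ (1 : Matrix (Fin k) (Fin k) F) := by
      unfold X; rw [Matrix.add_kronecker, Matrix.one_kronecker_one]
    rw [this]
    apply hH
    apply Cfsg.Agent.Helper81.SOEA1.isSp_kron_one
    rw [hE, Matrix.one_fin_two]
    simp [Matrix.det_fin_two]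
  have h1 := hconjM _ hX1
  rw [hconj, mul_one] at h1
  obtain ⟨c, hc⟩ := hNS _ h1
  have hAD : bk G 0 0 = c • bk G 1 1 := by
    calc bk G 0 0 = bk G 0 0 * (bk G' 1 1 * bk G 1 1) := by rw [hD'D, mul_one]
      _ = (bk G 0 0 * bk G' 1 1) * bk G 1 1 := by rw [mul_assoc]
      _ = c • bk G 1 1 := by rw [hc, Matrix.smul_mul, one_mul]
  have hc0 : c ≠ 0 := by
    intro hc0
    rw [hc0, zero_smul] at hAD
    rw [hAD, mul_zero] at a00
    have := congrFun (congrFun a00 ⟨0, hkpos⟩) ⟨0, hkpos⟩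
    simp at this
  have hD : bk G 1 1 = c⁻¹ • bk G 0 0 := by
    rw [hAD, smul_smul, inv_mul_cancel₀ hc0, one_smul]
  -- the isometry condition
  have hASD : (bk G 0 0)ᵀ * S * bk G 1 1 = S := by
    unfold IsSp at hsp
    have := congrArg (fun Z => bk Z 0 1) hsp
    simp only [bk_mul, bk_transpose, bk_gramT, h0, Matrix.transpose_zero, zero_mul, add_zero,
      mul_zero, zero_add] at this
    have j00 : J2 F 0 0 = 0 := by simp [J2]
    have j01 : J2 F 0 1 = 1 := by simp [J2]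
    rw [j00, j01, zero_smul, mul_zero, zero_mul, zero_add, one_smul] at this
    exact this
  -- `d := diag(1, c⁻¹) ⊗ A ∈ M`
  have hd : InM M (!![1, 0; 0, c⁻¹] ⊗ₖ bk G 0 0) := by
    apply hH
    rw [Cfsg.Agent.Helper81.SOEA1.isSp_kron_iff, Matrix.det_fin_two_of]
    rw [hD, Matrix.mul_smul] at hASD
    simpa using hASD
  have hdd' : (!![1, 0; 0, c⁻¹] ⊗ₖ bk G 0 0) * (!![1, 0; 0, c] ⊗ₖ bk G' 0 0) = 1 := by
    rw [← Matrix.mul_kronecker_mul, hAA', Matrix.mul_fin_two]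
    have : !![(1 : F) * 1 + 0 * 0, 1 * 0 + 0 * c; 0 * 1 + c⁻¹ * 0, 0 * 0 + c⁻¹ * c] = 1 := by
      rw [Matrix.one_fin_two]
      ext i j; fin_cases i <;> fin_cases j <;> simp [hc0]
    rw [this, Matrix.one_kronecker_one]
  have hd' : InM M (!![1, 0; 0, c] ⊗ₖ bk G' 0 0) := Cfsg.Agent.Helper57.SONA.inM_inv M hd hdd'
  have h2 : InM M ((!![1, 0; 0, c] ⊗ₖ bk G' 0 0) * G) := Cfsg.Agent.Helper57.SONA.inM_mul M hd' hgM
  have e2 : (!![1, 0; 0, c] ⊗ₖ bk G' 0 0) * G = X (bk G' 0 0 * bk G 0 1) := by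
    apply bk_ext4
    · simp [bk_mul, bk_kron, bk_X00, h0, a00]
    · simp [bk_mul, bk_kron, bk_X01]
    · simp [bk_mul, bk_kron, bk_X10, h0]
    · simp only [bk_mul, bk_kron, bk_X11]
      simp only [Matrix.of_apply, Matrix.cons_val', Matrix.cons_val_zero, Matrix.cons_val_one,
        Matrix.cons_val_fin_one]
      simp [hD, a00, hc0]
  rw [e2] at h2
  obtain ⟨c', hc'⟩ := hNS _ h2
  have hC : bk G 0 1 = c' • bk G 0 0 := by
    calc bk G 0 1 = (bk G 0 0 * bk G' 0 0) * bk G 0 1 := by rw [hAA', one_mul]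
      _ = bk G 0 0 * (bk G' 0 0 * bk G 0 1) := by rw [mul_assoc]
      _ = c' • bk G 0 0 := by rw [hc', Matrix.mul_smul, mul_one]
  refine ⟨!![1, c'; 0, c⁻¹], bk G 0 0, ?_⟩
  apply bk_ext4
  · simp [bk_kron]
  · simp [bk_kron, hC]
  · simp [bk_kron, h0]
  · simp [bk_kron, hD]

end Cfsg.Agent.Helper57.SOF1
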