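import Mathlib
import Cfsg.Agent.Helper71.T4Defs
import Cfsg.Agent.Helper81.SODefs

/-!
# CALL SO (helper81), piece F2a: a Kronecker product `y` with `(y - 1)^2 = 0`
-/

set_option autoImplicit false

namespace Cfsg.Agent.Helper57.SOF2a

open Matrix Cfsg.Agent.Helper71.T4 Cfsg.Agent.Helper81.SO
open scoped Kronecker

variable {F : Type*} [Field F] {k : ℕ}

theorem sqzero_kron (hk : 1 ≤ k) (h2 : (2 : F) ≠ 0) (A : Matrix (Fin 2) (Fin 2) F)
    (B : Matrix (Fin k) (Fin k) F) (h : (A ⊗ₖ B - 1) * (A ⊗ₖ B - 1) = 0) :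
    (∃ N₂ : Matrix (Fin 2) (Fin 2) F, N₂ * N₂ = 0 ∧
        A ⊗ₖ B = (1 + N₂) ⊗ₖ (1 : Matrix (Fin k) (Fin k) F)) ∨
      (∃ N : Matrix (Fin k) (Fin k) F, N * N = 0 ∧
        A ⊗ₖ B = (1 : Matrix (Fin 2) (Fin 2) F) ⊗ₖ (1 + N)) := by
  classical
  have h11 : (1 : Matrix (Fin 2 × Fin k) (Fin 2 × Fin k) F)
      = (1 : Matrix (Fin 2) (Fin 2) F) ⊗ₖ (1 : Matrix (Fin k) (Fin k) F) :=
    Matrix.one_kronecker_one.symm
  -- Cayley–Hamilton for 2 × 2 matrices
  have hCH : ∀ i j : Fin 2, (A * A) i j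
      = A.trace * A i j - A.det * (1 : Matrix (Fin 2) (Fin 2) F) i j := by
    intro i j
    fin_cases i <;> fin_cases j <;>
      simp [Matrix.mul_apply, Fin.sum_univ_two, Matrix.det_fin_two, Matrix.trace_fin_two] <;> ring
  generalize A.trace = t at hCH
  generalize A.det = d at hCH
  have hent : ∀ (i j : Fin 2) (l m : Fin k),
      A i j * (t * (B * B) l m - 2 * B l m) + (1 : Matrix (Fin 2) (Fin 2) F) i j *
        ((1 : Matrix (Fin k) (Fin k) F) l m - d * (B * B) l m) = 0 := by
    intro i j l m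
    have h' : (A ⊗ₖ B) * (A ⊗ₖ B) - A ⊗ₖ B - A ⊗ₖ B
        + (1 : Matrix (Fin 2) (Fin 2) F) ⊗ₖ (1 : Matrix (Fin k) (Fin k) F) = 0 := by
      rw [← h11, ← h]; noncomm_ring
    rw [← Matrix.mul_kronecker_mul] at h'
    have e1 := congrFun (congrFun h' (i, l)) (j, m)
    have e2 := hCH i j
    simp only [Matrix.add_apply, Matrix.sub_apply, Matrix.kroneckerMap_apply,
      Matrix.zero_apply] at e1
    rw [e2] at e1
    linear_combination e1
  by_cases hP : ∀ l m, t * (B * B) l m - 2 * B l m = 0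
  · left
    have hQ : ∀ l m, (1 : Matrix (Fin k) (Fin k) F) l m - d * (B * B) l m = 0 := by
      intro l m
      have := hent 0 0 l m
      rw [hP l m] at this
      simpa using this
    have hd0 : d ≠ 0 := by
      intro hd0
      have := hQ ⟨0, hk⟩ ⟨0, hk⟩
      rw [hd0] at this
      simp at this
    have hB : B = (t / (2 * d)) • (1 : Matrix (Fin k) (Fin k) F) := by
      ext l m
      have e1 := hP l m
      have e2 := hQ l m
      simp only [Matrix.smul_apply, smul_eq_mul]
      have e3 : 2 * d * B l m = t * (1 : Matrix (Fin k) (Fin k) F) l m := by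
        linear_combination (-d) * e1 - t * e2
      rw [div_mul_eq_mul_div, eq_div_iff (mul_ne_zero h2 hd0)]
      linear_combination e3
    generalize t / (2 * d) = β at hB
    have hT : A ⊗ₖ B = (β • A) ⊗ₖ (1 : Matrix (Fin k) (Fin k) F) := by
      rw [hB, Matrix.kronecker_smul, Matrix.smul_kronecker]
    refine ⟨β • A - 1, ?_, ?_⟩
    · have h3 : ((β • A - 1) ⊗ₖ (1 : Matrix (Fin k) (Fin k) F)) *
          ((β • A - 1) ⊗ₖ (1 : Matrix (Fin k) (Fin k) F)) = 0 := by
        have : (β • A - 1) ⊗ₖ (1 : Matrix (Fin k) (Fin k) F) = A ⊗ₖ B - 1 := by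
          rw [hT, h11]
          ext ⟨i, l⟩ ⟨j, m⟩
          simp only [Matrix.kroneckerMap_apply, Matrix.sub_apply]
          ring
        rw [this]; exact h
      rw [← Matrix.mul_kronecker_mul] at h3
      ext i j
      have := congrFun (congrFun h3 (i, ⟨0, hk⟩)) (j, ⟨0, hk⟩)
      simpa [Matrix.kroneckerMap_apply] using this
    · rw [hT]; congr 1; abel
  · right
    simp only [not_forall] at hP
    obtain ⟨l, m, hlm⟩ := hP
    have h01 : A 0 1 = 0 := by
      have := hent 0 1 l m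
      simp only [Matrix.one_apply, Fin.isValue, zero_ne_one, if_false, zero_mul, add_zero] at this
      exact (mul_eq_zero.mp this).resolve_right hlm
    have h10 : A 1 0 = 0 := by
      have := hent 1 0 l m
      simp only [Matrix.one_apply, Fin.isValue, one_ne_zero, if_false, zero_mul, add_zero] at this
      exact (mul_eq_zero.mp this).resolve_right hlm
    have h00 : A 1 1 = A 0 0 := by
      have e0 := hent 0 0 l m
      have e1 := hent 1 1 l m
      simp only [Matrix.one_apply_eq, one_mul] at e0 e1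
      have : (A 1 1 - A 0 0) * (t * (B * B) l m - 2 * B l m) = 0 := by linear_combination e1 - e0
      exact sub_eq_zero.mp ((mul_eq_zero.mp this).resolve_right hlm)
    have hA : A = (A 0 0) • (1 : Matrix (Fin 2) (Fin 2) F) := by
      ext i j; fin_cases i <;> fin_cases j <;> simp [h01, h10, h00]
    generalize A 0 0 = α at hA
    have hT : A ⊗ₖ B = (1 : Matrix (Fin 2) (Fin 2) F) ⊗ₖ (α • B) := by
      rw [hA, Matrix.smul_kronecker, Matrix.kronecker_smul]
    refine ⟨α • B - 1, ?_, ?_⟩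
    · have h3 : ((1 : Matrix (Fin 2) (Fin 2) F) ⊗ₖ (α • B - 1)) *
          ((1 : Matrix (Fin 2) (Fin 2) F) ⊗ₖ (α • B - 1)) = 0 := by
        have : (1 : Matrix (Fin 2) (Fin 2) F) ⊗ₖ (α • B - 1) = A ⊗ₖ B - 1 := by
          rw [hT, h11]
          ext ⟨i, l⟩ ⟨j, m⟩
          simp only [Matrix.kroneckerMap_apply, Matrix.sub_apply]
          ring
        rw [this]; exact h
      rw [← Matrix.mul_kronecker_mul] at h3
      ext i j
      have := congrFun (congrFun h3 (0, i)) (0, j)
      simpa [Matrix.kroneckerMap_apply] using this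
    · rw [hT]; congr 1; abel

end Cfsg.Agent.Helper57.SOF2a
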