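import Mathlib
import Cfsg.Agent.Helper71.T4Defs
import Cfsg.Agent.Helper81.SODefs

/-!
# CALL SO (helper81), piece F2b: parity
-/

set_option autoImplicit false

namespace Cfsg.Agent.Helper57.SOF2b

open Matrix Cfsg.Agent.Helper71.T4 Cfsg.Agent.Helper81.SO
open scoped Kronecker

variable {F : Type*} [Field F] {k : ℕ}

theorem kron_one_mulVec (A : Matrix (Fin 2) (Fin 2) F) (u : Fin 2 × Fin k → F) (i : Fin 2)
    (l : Fin k) : ((A ⊗ₖ (1 : Matrix (Fin k) (Fin k) F)) *ᵥ u) (i, l)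
      = A i 0 * u (0, l) + A i 1 * u (1, l) := by
  simp [Matrix.mulVec, dotProduct, Fintype.sum_prod_type, Matrix.kroneckerMap_apply,
    Matrix.one_apply]

theorem one_kron_mulVec (N : Matrix (Fin k) (Fin k) F) (v : Fin 2 × Fin k → F) (i : Fin 2)
    (l : Fin k) : (((1 : Matrix (Fin 2) (Fin 2) F) ⊗ₖ N) *ᵥ v) (i, l)
      = (N *ᵥ (fun m => v (i, m))) l := by
  fin_cases i <;>
  simp [Matrix.mulVec, dotProduct, Fintype.sum_prod_type, Matrix.kroneckerMap_apply,
    Matrix.one_apply]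

/-- kernel inside range for `N₂ ⊗ 1`, `N₂ ≠ 0` square-zero -/
theorem ker_le_range_kron (N₂ : Matrix (Fin 2) (Fin 2) F) (hN₂ : N₂ ≠ 0) (hsq : N₂ * N₂ = 0)
    (u : Fin 2 × Fin k → F)
    (hu : (N₂ ⊗ₖ (1 : Matrix (Fin k) (Fin k) F)) *ᵥ u = 0) :
    ∃ w : Fin 2 × Fin k → F, (N₂ ⊗ₖ (1 : Matrix (Fin k) (Fin k) F)) *ᵥ w = u := by
  have h00 := congrFun (congrFun hsq 0) 0
  have h01 := congrFun (congrFun hsq 0) 1
  have h11 := congrFun (congrFun hsq 1) 1
  simp only [Matrix.mul_apply, Fin.sum_univ_two, Matrix.zero_apply] at h00 h01 h11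
  have hu0 : ∀ l, N₂ 0 0 * u (0, l) + N₂ 0 1 * u (1, l) = 0 := by
    intro l
    rw [← kron_one_mulVec, hu]; rfl
  have hu1 : ∀ l, N₂ 1 0 * u (0, l) + N₂ 1 1 * u (1, l) = 0 := by
    intro l
    rw [← kron_one_mulVec, hu]; rfl
  have hN : N₂ = !![N₂ 0 0, N₂ 0 1; N₂ 1 0, N₂ 1 1] := Matrix.eta_fin_two N₂
  by_cases hb : N₂ 0 1 = 0
  · have ha : N₂ 0 0 = 0 := by
      have : N₂ 0 0 * N₂ 0 0 = 0 := by rw [hb] at h00; linear_combination h00
      exact mul_self_eq_zero.mp this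
    have hd : N₂ 1 1 = 0 := by
      have : N₂ 1 1 * N₂ 1 1 = 0 := by rw [hb] at h11; linear_combination h11
      exact mul_self_eq_zero.mp this
    have hc : N₂ 1 0 ≠ 0 := by
      intro hc
      apply hN₂
      rw [hN, ha, hb, hc, hd]
      ext i j; fin_cases i <;> fin_cases j <;> simp
    have hu0' : ∀ l, u (0, l) = 0 := by
      intro l
      have := hu1 l
      rw [hd, zero_mul, add_zero] at this
      exact (mul_eq_zero.mp this).resolve_left hc
    refine ⟨fun q => if q.1 = 0 then u (1, q.2) / N₂ 1 0 else 0, ?_⟩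
    ext ⟨i, l⟩
    rw [kron_one_mulVec]
    fin_cases i
    · simp [ha, hb, hu0' l]
    · simp [hd]
      field_simp
  · have hd : N₂ 1 1 = -N₂ 0 0 := by
      have : N₂ 0 1 * (N₂ 0 0 + N₂ 1 1) = 0 := by linear_combination h01
      have := (mul_eq_zero.mp this).resolve_left hb
      linear_combination this
    refine ⟨fun q => if q.1 = 1 then u (0, q.2) / N₂ 0 1 else 0, ?_⟩
    ext ⟨i, l⟩
    rw [kron_one_mulVec]
    fin_cases i
    · simp
      field_simp
    · have := hu0 l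
      simp [hd]
      field_simp
      linear_combination (-1 : F) * this

theorem no_conj_odd (hodd : Odd k) (x x' : Matrix (Fin 2 × Fin k) (Fin 2 × Fin k) F)
    (hx : x * x' = 1) (N₂ : Matrix (Fin 2) (Fin 2) F) (hN₂ : N₂ ≠ 0) (hsq : N₂ * N₂ = 0)
    (N : Matrix (Fin k) (Fin k) F) (hN : N * N = 0) :
    x * (N₂ ⊗ₖ (1 : Matrix (Fin k) (Fin k) F)) * x' ≠ (1 : Matrix (Fin 2) (Fin 2) F) ⊗ₖ N := by
  intro hY
  have hx' : x' * x = 1 := mul_eq_one_comm.mp hx
  -- kernel of `N` inside its range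
  have hker : ∀ w : Fin k → F, N *ᵥ w = 0 → ∃ w' : Fin k → F, N *ᵥ w' = w := by
    intro w hw
    set v : Fin 2 × Fin k → F := fun q => if q.1 = 0 then w q.2 else 0 with hv
    have hv0 : ((1 : Matrix (Fin 2) (Fin 2) F) ⊗ₖ N) *ᵥ v = 0 := by
      ext ⟨i, l⟩
      rw [one_kron_mulVec]
      fin_cases i
      · have : (fun m => v ((0 : Fin 2), m)) = w := by
          funext m; simp [hv]
        simp only [Fin.zero_eta]
        rw [this, hw]
        rfl
      · have : (fun m => v ((1 : Fin 2), m)) = 0 := by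
          funext m; simp [hv]
        simp only [Fin.mk_one]
        rw [this, Matrix.mulVec_zero]
        rfl
    rw [← hY, ← Matrix.mulVec_mulVec, ← Matrix.mulVec_mulVec] at hv0
    have h1 : (N₂ ⊗ₖ (1 : Matrix (Fin k) (Fin k) F)) *ᵥ (x' *ᵥ v) = 0 := by
      have := congrArg (fun z => x' *ᵥ z) hv0
      simp only [Matrix.mulVec_mulVec, Matrix.mulVec_zero] at this
      rw [← Matrix.mul_assoc, ← Matrix.mul_assoc, hx', Matrix.one_mul] at this
      rw [Matrix.mulVec_mulVec]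
      exact this
    obtain ⟨w₁, hw₁⟩ := ker_le_range_kron N₂ hN₂ hsq _ h1
    have h2 : ((1 : Matrix (Fin 2) (Fin 2) F) ⊗ₖ N) *ᵥ (x *ᵥ w₁) = v := by
      rw [← hY, Matrix.mulVec_mulVec, Matrix.mul_assoc, hx', Matrix.mul_one,
        ← Matrix.mulVec_mulVec, hw₁, Matrix.mulVec_mulVec, hx, Matrix.one_mulVec]
    refine ⟨fun m => (x *ᵥ w₁) (0, m), ?_⟩
    funext l
    have h3 := congrFun h2 (0, l)
    rw [one_kron_mulVec] at h3
    rw [h3]
    simp [hv]
  -- rank-nullity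
  have hkr : LinearMap.ker (Matrix.mulVecLin N) = LinearMap.range (Matrix.mulVecLin N) := by
    apply le_antisymm
    · intro w hw
      obtain ⟨w', hw'⟩ := hker w (by simpa using hw)
      exact ⟨w', by simpa using hw'⟩
    · rintro _ ⟨w', rfl⟩
      rw [LinearMap.mem_ker]
      simp only [Matrix.mulVecLin_apply]
      rw [Matrix.mulVec_mulVec, hN, Matrix.zero_mulVec]
  have hrn := LinearMap.finrank_range_add_finrank_ker (Matrix.mulVecLin N)
  rw [← hkr] at hrn
  simp only [Module.finrank_fintype_fun_eq_card, Fintype.card_fin] at hrn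
  have heven : Even k := ⟨_, hrn.symm⟩
  exact (Nat.not_even_iff_odd.mpr hodd) heven

end Cfsg.Agent.Helper57.SOF2b
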