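import Mathlib
import Cfsg.Agent.Helper71.T4Defs
import Cfsg.Agent.Helper81.SODefs

/-!
# CALL SO (helper81), piece SL2: normal form of square-zero `2 × 2` matrices
-/

set_option autoImplicit false

namespace Cfsg.Agent.Helper57.SOSL2

open Matrix Cfsg.Agent.Helper71.T4 Cfsg.Agent.Helper81.SO
open scoped Kronecker

variable {F : Type*} [Field F] {k : ℕ}

theorem sqzero_normal_form (N₂ : Matrix (Fin 2) (Fin 2) F) (hN₂ : N₂ ≠ 0) (hsq : N₂ * N₂ = 0) :
    ∃ (g g' : Matrix (Fin 2) (Fin 2) F) (s : F), g.det = 1 ∧ g * g' = 1 ∧ g' * g = 1 ∧ s ≠ 0 ∧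
      N₂ = s • (g * Matrix.single (0 : Fin 2) (1 : Fin 2) (1 : F) * g') := by
  have h00 := congrFun (congrFun hsq 0) 0
  have h01 := congrFun (congrFun hsq 0) 1
  have h10 := congrFun (congrFun hsq 1) 0
  have h11 := congrFun (congrFun hsq 1) 1
  simp only [Matrix.mul_apply, Fin.sum_univ_two, Matrix.zero_apply] at h00 h01 h10 h11
  have hN : N₂ = !![N₂ 0 0, N₂ 0 1; N₂ 1 0, N₂ 1 1] := Matrix.eta_fin_two N₂
  generalize N₂ 0 0 = a at h00 h01 h10 h11 hN
  generalize N₂ 0 1 = b at h00 h01 h10 h11 hN
  generalize N₂ 1 0 = c at h00 h01 h10 h11 hN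
  generalize N₂ 1 1 = d at h00 h01 h10 h11 hN
  have hE : (Matrix.single (0 : Fin 2) (1 : Fin 2) (1 : F)) = !![0, 1; 0, 0] := by
    ext i j; fin_cases i <;> fin_cases j <;> simp
  -- trace zero
  have htr : a + d = 0 := by
    by_contra h
    have hb : b = 0 := by
      have : b * (a + d) = 0 := by linear_combination h01
      exact (mul_eq_zero.mp this).resolve_right h
    have ha : a = 0 := by
      have : a * a = 0 := by rw [hb] at h00; linear_combination h00
      exact mul_self_eq_zero.mp this
    have hd : d = 0 := by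
      have : d * d = 0 := by rw [hb] at h11; linear_combination h11
      exact mul_self_eq_zero.mp this
    exact h (by rw [ha, hd, add_zero])
  have hd : d = -a := by linear_combination htr
  by_cases hb : b = 0
  · have ha : a = 0 := by
      have : a * a = 0 := by rw [hb] at h00; linear_combination h00
      exact mul_self_eq_zero.mp this
    have hc : c ≠ 0 := by
      intro hc
      apply hN₂
      rw [hN, hd, ha, hb, hc]
      ext i j; fin_cases i <;> fin_cases j <;> simp
    refine ⟨!![0, -1; 1, 0], !![0, 1; -1, 0], -c, ?_, ?_, ?_, neg_ne_zero.mpr hc, ?_⟩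
    · simp [Matrix.det_fin_two]
    · rw [Matrix.mul_fin_two, Matrix.one_fin_two]
      ext i j; fin_cases i <;> fin_cases j <;> simp
    · rw [Matrix.mul_fin_two, Matrix.one_fin_two]
      ext i j; fin_cases i <;> fin_cases j <;> simp
    · rw [hN, hd, ha, hb, hE, Matrix.mul_fin_two, Matrix.mul_fin_two]
      ext i j; fin_cases i <;> fin_cases j <;> simp
  · have hc : c = -(a * a) / b := by
      field_simp
      linear_combination h00
    refine ⟨!![1, 0; -a / b, 1], !![1, 0; a / b, 1], b, ?_, ?_, ?_, hb, ?_⟩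
    · simp [Matrix.det_fin_two]
    · rw [Matrix.mul_fin_two, Matrix.one_fin_two]
      ext i j; fin_cases i <;> fin_cases j <;> simp <;> ring
    · rw [Matrix.mul_fin_two, Matrix.one_fin_two]
      ext i j; fin_cases i <;> fin_cases j <;> simp <;> ring
    · rw [hN, hd, hc, hE, Matrix.mul_fin_two, Matrix.mul_fin_two]
      ext i j; fin_cases i <;> fin_cases j <;> simp <;> field_simp

end Cfsg.Agent.Helper57.SOSL2
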