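import Mathlib
import Cfsg.Agent.Helper71.T4Defs
import Cfsg.Agent.Helper81.SODefs
import Cfsg.Agent.Helper81.SOEA1
import Cfsg.Agent.Helper57.SONA
import Cfsg.Agent.Helper57.SOF1
import Cfsg.Agent.Helper57.SOF2a
import Cfsg.Agent.Helper57.SOF2b
import Cfsg.Agent.Helper57.SOSL2

/-!
# CALL SO (helper81), piece F2: the root elements `(1 + N₂) ⊗ 1` are isolated
-/

set_option autoImplicit false
set_option linter.unusedSimpArgs false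
set_option linter.unusedSectionVars false

namespace Cfsg.Agent.Helper57.SOF2

open Matrix Cfsg.Agent.Helper71.T4 Cfsg.Agent.Helper81.SO
open scoped Kronecker

variable {F : Type*} [Field F] {k : ℕ}

theorem bk_smul (c : F) (Z : Matrix (Fin 2 × Fin k) (Fin 2 × Fin k) F) (i j : Fin 2) :
    bk (c • Z) i j = c • bk Z i j := by
  ext l l'; rfl

theorem hi_U (hodd : Odd k) (h2 : (2 : F) ≠ 0) (S : Matrix (Fin k) (Fin k) F) (hS : Sᵀ = S)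
    (hdet : S.det ≠ 0) (M : Subgroup (GL (Fin 2 × Fin k) F)) (hH : HasH S M) (hSp : InSp S M)
    (hNS : NSX M) (x : GL (Fin 2 × Fin k) F) (hx : x ∈ M) (N₂ : Matrix (Fin 2) (Fin 2) F)
    (hN₂ : N₂ ≠ 0) (hsq : N₂ * N₂ = 0)
    (hy : IsKron ((x : Matrix (Fin 2 × Fin k) (Fin 2 × Fin k) F) *
      ((1 + N₂) ⊗ₖ (1 : Matrix (Fin k) (Fin k) F)) *
      ((x⁻¹ : GL (Fin 2 × Fin k) F) : Matrix (Fin 2 × Fin k) (Fin 2 × Fin k) F))) :
    IsKron (x : Matrix (Fin 2 × Fin k) (Fin 2 × Fin k) F) := by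
  classical
  have hk : 1 ≤ k := by
    obtain ⟨m, hm⟩ := hodd; omega
  have hxM : InM M (x : Matrix (Fin 2 × Fin k) (Fin 2 × Fin k) F) := ⟨x, hx, rfl⟩
  have hXX' : (x : Matrix (Fin 2 × Fin k) (Fin 2 × Fin k) F) *
      ((x⁻¹ : GL (Fin 2 × Fin k) F) : Matrix (Fin 2 × Fin k) (Fin 2 × Fin k) F) = 1 := by
    rw [← Units.val_mul, mul_inv_cancel, Units.val_one]
  have hX'X : ((x⁻¹ : GL (Fin 2 × Fin k) F) : Matrix (Fin 2 × Fin k) (Fin 2 × Fin k) F) *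
      (x : Matrix (Fin 2 × Fin k) (Fin 2 × Fin k) F) = 1 := by
    rw [← Units.val_mul, inv_mul_cancel, Units.val_one]
  generalize (x : Matrix (Fin 2 × Fin k) (Fin 2 × Fin k) F) = Xm at hy hxM hXX' hX'X ⊢
  generalize ((x⁻¹ : GL (Fin 2 × Fin k) F) : Matrix (Fin 2 × Fin k) (Fin 2 × Fin k) F) = Xi
    at hy hXX' hX'X
  obtain ⟨A, B, hAB⟩ := hy
  -- `y - 1 = Xm (N₂ ⊗ 1) Xi`
  have hy1 : A ⊗ₖ B - 1 = Xm * (N₂ ⊗ₖ (1 : Matrix (Fin k) (Fin k) F)) * Xi := by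
    rw [← hAB, Matrix.add_kronecker, Matrix.mul_add, Matrix.add_mul, Matrix.one_kronecker_one,
      Matrix.mul_one, hXX', add_sub_cancel_left]
  have hsq0 : (A ⊗ₖ B - 1) * (A ⊗ₖ B - 1) = 0 := by
    rw [hy1]
    calc Xm * (N₂ ⊗ₖ (1 : Matrix (Fin k) (Fin k) F)) * Xi *
          (Xm * (N₂ ⊗ₖ (1 : Matrix (Fin k) (Fin k) F)) * Xi)
        = Xm * ((N₂ ⊗ₖ (1 : Matrix (Fin k) (Fin k) F)) * ((Xi * Xm) *
            (N₂ ⊗ₖ (1 : Matrix (Fin k) (Fin k) F)))) * Xi := by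
          simp only [Matrix.mul_assoc]
      _ = 0 := by
          rw [hX'X, Matrix.one_mul, ← Matrix.mul_kronecker_mul, hsq, Matrix.zero_kronecker,
            Matrix.mul_zero, Matrix.zero_mul]
  rcases Cfsg.Agent.Helper57.SOF2a.sqzero_kron hk h2 A B hsq0 with
    ⟨N₂', hsq', hAB'⟩ | ⟨N, hN, hAB'⟩
  swap
  · exfalso
    apply Cfsg.Agent.Helper57.SOF2b.no_conj_odd hodd Xm Xi hXX' N₂ hN₂ hsq N hN
    rw [← hy1, hAB', Matrix.kronecker_add, Matrix.one_kronecker_one, add_sub_cancel_left]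
  -- the case `y = (1 + N₂') ⊗ 1`
  have hrel : Xm * (N₂ ⊗ₖ (1 : Matrix (Fin k) (Fin k) F)) * Xi
      = N₂' ⊗ₖ (1 : Matrix (Fin k) (Fin k) F) := by
    rw [← hy1, hAB', Matrix.add_kronecker, Matrix.one_kronecker_one, add_sub_cancel_left]
  have hrel' : Xm * (N₂ ⊗ₖ (1 : Matrix (Fin k) (Fin k) F))
      = (N₂' ⊗ₖ (1 : Matrix (Fin k) (Fin k) F)) * Xm := by
    rw [← hrel, Matrix.mul_assoc, hX'X, Matrix.mul_one]
  have hN₂' : N₂' ≠ 0 := by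
    intro h0
    rw [h0, Matrix.zero_kronecker, Matrix.zero_mul] at hrel'
    have hz : N₂ ⊗ₖ (1 : Matrix (Fin k) (Fin k) F) = 0 := by
      calc N₂ ⊗ₖ (1 : Matrix (Fin k) (Fin k) F)
          = (Xi * Xm) * (N₂ ⊗ₖ (1 : Matrix (Fin k) (Fin k) F)) := by
            rw [hX'X, Matrix.one_mul]
        _ = Xi * (Xm * (N₂ ⊗ₖ (1 : Matrix (Fin k) (Fin k) F))) := by rw [Matrix.mul_assoc]
        _ = 0 := by rw [hrel', Matrix.mul_zero]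
    apply hN₂
    ext i j
    have := congrFun (congrFun hz (i, ⟨0, hk⟩)) (j, ⟨0, hk⟩)
    simpa [Matrix.kroneckerMap_apply] using this
  obtain ⟨g₁, g₁', s, hdet₁, hg₁, hg₁', hs, hN₂eq⟩ :=
    Cfsg.Agent.Helper57.SOSL2.sqzero_normal_form N₂ hN₂ hsq
  obtain ⟨g₂, g₂', s', hdet₂, hg₂, hg₂', hs', hN₂'eq⟩ :=
    Cfsg.Agent.Helper57.SOSL2.sqzero_normal_form N₂' hN₂' hsq'
  have hdet₂' : g₂'.det = 1 := by
    have := congrArg Matrix.det hg₂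
    rw [Matrix.det_mul, hdet₂, one_mul, Matrix.det_one] at this
    exact this
  have hg1M : InM M (g₁ ⊗ₖ (1 : Matrix (Fin k) (Fin k) F)) :=
    hH _ _ (Cfsg.Agent.Helper81.SOEA1.isSp_kron_one S g₁ hdet₁)
  have hg2M : InM M (g₂' ⊗ₖ (1 : Matrix (Fin k) (Fin k) F)) :=
    hH _ _ (Cfsg.Agent.Helper81.SOEA1.isSp_kron_one S g₂' hdet₂')
  have hx''M : InM M ((g₂' ⊗ₖ (1 : Matrix (Fin k) (Fin k) F)) * Xm *
      (g₁ ⊗ₖ (1 : Matrix (Fin k) (Fin k) F))) :=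
    Cfsg.Agent.Helper57.SONA.inM_mul M (Cfsg.Agent.Helper57.SONA.inM_mul M hg2M hxM) hg1M
  -- the key commutation relation
  have e1 : (g₁ ⊗ₖ (1 : Matrix (Fin k) (Fin k) F)) *
      (Matrix.single (0 : Fin 2) (1 : Fin 2) (1 : F) ⊗ₖ (1 : Matrix (Fin k) (Fin k) F))
      = s⁻¹ • ((N₂ ⊗ₖ (1 : Matrix (Fin k) (Fin k) F)) *
        (g₁ ⊗ₖ (1 : Matrix (Fin k) (Fin k) F))) := by
    rw [← Matrix.mul_kronecker_mul, ← Matrix.mul_kronecker_mul, ← Matrix.smul_kronecker,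
      Matrix.mul_one]
    congr 1
    rw [hN₂eq, Matrix.smul_mul, smul_smul, inv_mul_cancel₀ hs, one_smul, Matrix.mul_assoc,
      Matrix.mul_assoc, hg₁', Matrix.mul_one]
  have e2 : (g₂' ⊗ₖ (1 : Matrix (Fin k) (Fin k) F)) * (N₂' ⊗ₖ (1 : Matrix (Fin k) (Fin k) F))
      = s' • ((Matrix.single (0 : Fin 2) (1 : Fin 2) (1 : F) ⊗ₖ (1 : Matrix (Fin k) (Fin k) F)) *
        (g₂' ⊗ₖ (1 : Matrix (Fin k) (Fin k) F))) := by
    rw [← Matrix.mul_kronecker_mul, ← Matrix.mul_kronecker_mul, ← Matrix.smul_kronecker,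
      Matrix.mul_one]
    congr 1
    rw [hN₂'eq, Matrix.mul_smul, ← Matrix.mul_assoc, ← Matrix.mul_assoc, hg₂', Matrix.one_mul]
  generalize hZ : (g₂' ⊗ₖ (1 : Matrix (Fin k) (Fin k) F)) * Xm *
      (g₁ ⊗ₖ (1 : Matrix (Fin k) (Fin k) F)) = Z at hx''M
  have hkey : Z * (Matrix.single (0 : Fin 2) (1 : Fin 2) (1 : F) ⊗ₖ (1 : Matrix (Fin k) (Fin k) F))
      = (s' / s) • ((Matrix.single (0 : Fin 2) (1 : Fin 2) (1 : F) ⊗ₖ
        (1 : Matrix (Fin k) (Fin k) F)) * Z) := by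
    rw [← hZ]
    calc (g₂' ⊗ₖ (1 : Matrix (Fin k) (Fin k) F)) * Xm * (g₁ ⊗ₖ (1 : Matrix (Fin k) (Fin k) F)) *
          (Matrix.single (0 : Fin 2) (1 : Fin 2) (1 : F) ⊗ₖ (1 : Matrix (Fin k) (Fin k) F))
        = (g₂' ⊗ₖ (1 : Matrix (Fin k) (Fin k) F)) * Xm *
          ((g₁ ⊗ₖ (1 : Matrix (Fin k) (Fin k) F)) *
          (Matrix.single (0 : Fin 2) (1 : Fin 2) (1 : F) ⊗ₖ (1 : Matrix (Fin k) (Fin k) F))) := by
          rw [Matrix.mul_assoc]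
      _ = s⁻¹ • ((g₂' ⊗ₖ (1 : Matrix (Fin k) (Fin k) F)) *
          (Xm * (N₂ ⊗ₖ (1 : Matrix (Fin k) (Fin k) F))) *
          (g₁ ⊗ₖ (1 : Matrix (Fin k) (Fin k) F))) := by
          rw [e1, Matrix.mul_smul]; simp only [Matrix.mul_assoc]
      _ = s⁻¹ • (((g₂' ⊗ₖ (1 : Matrix (Fin k) (Fin k) F)) *
          (N₂' ⊗ₖ (1 : Matrix (Fin k) (Fin k) F))) * Xm *
          (g₁ ⊗ₖ (1 : Matrix (Fin k) (Fin k) F))) := by
          rw [hrel']; simp only [Matrix.mul_assoc]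
      _ = (s' / s) • ((Matrix.single (0 : Fin 2) (1 : Fin 2) (1 : F) ⊗ₖ
          (1 : Matrix (Fin k) (Fin k) F)) * ((g₂' ⊗ₖ (1 : Matrix (Fin k) (Fin k) F)) * Xm *
          (g₁ ⊗ₖ (1 : Matrix (Fin k) (Fin k) F)))) := by
          rw [e2, Matrix.smul_mul, Matrix.smul_mul, smul_smul, div_eq_inv_mul]
          simp only [Matrix.mul_assoc]
  obtain ⟨g'', hg''M, hg''⟩ := hx''M
  have hb : bk (g'' : Matrix (Fin 2 × Fin k) (Fin 2 × Fin k) F) 1 0 = 0 := by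
    rw [hg'']
    have := congrArg (fun Z => bk Z 1 1) hkey
    simp only [bk_smul, bk_mul, bk_kron] at this
    simpa using this
  obtain ⟨A₀, B₀, hA₀⟩ :=
    Cfsg.Agent.Helper57.SOF1.kron_of_upper S hS hdet M hH hSp hNS g'' hg''M hb
  rw [hg''] at hA₀
  have p1 : (g₂ ⊗ₖ (1 : Matrix (Fin k) (Fin k) F)) * (g₂' ⊗ₖ (1 : Matrix (Fin k) (Fin k) F)) = 1 := by
    rw [← Matrix.mul_kronecker_mul, hg₂, Matrix.mul_one, Matrix.one_kronecker_one]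
  have p2 : (g₁ ⊗ₖ (1 : Matrix (Fin k) (Fin k) F)) * (g₁' ⊗ₖ (1 : Matrix (Fin k) (Fin k) F)) = 1 := by
    rw [← Matrix.mul_kronecker_mul, hg₁, Matrix.mul_one, Matrix.one_kronecker_one]
  refine ⟨g₂ * A₀ * g₁', B₀, ?_⟩
  calc Xm = (g₂ ⊗ₖ (1 : Matrix (Fin k) (Fin k) F)) * Z *
        (g₁' ⊗ₖ (1 : Matrix (Fin k) (Fin k) F)) := by
        rw [← hZ]
        simp only [Matrix.mul_assoc]
        rw [p2, Matrix.mul_one, ← Matrix.mul_assoc, p1, Matrix.one_mul]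
    _ = (g₂ * A₀ * g₁') ⊗ₖ B₀ := by
        rw [hA₀, ← Matrix.mul_kronecker_mul, ← Matrix.mul_kronecker_mul, Matrix.one_mul,
          Matrix.mul_one]

end Cfsg.Agent.Helper57.SOF2
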