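import Mathlib
import Cfsg.Agent.Helper71.T4Defs
import Cfsg.Agent.Helper81.SODefs

/-!
# CALL SO (helper81), piece G3: Sylow conjugation into `H` (pure finite group theory)

Adapted from `Cfsg.Agent.Helper76.T4SY.syl_conj` (helper76).
-/

set_option autoImplicit false

namespace Cfsg.Agent.Helper57.SOG3

open Matrix Cfsg.Agent.Helper71.T4 Cfsg.Agent.Helper81.SO
open scoped Kronecker

variable {F : Type*} [Field F] {k : ℕ}

theorem syl_into {G : Type*} [Group G] [Finite G] (p : ℕ) [Fact p.Prime] (M H : Subgroup G)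
    (T : Set G) (hTM : ∀ t ∈ T, t ∈ M) (hT : ∀ t ∈ T, t ∈ H) (hTp : ∀ t ∈ T, t ^ p = 1)
    (hi : ∀ t ∈ T, ∀ g ∈ M, g * t * g⁻¹ ∈ H → g ∈ H)
    (C : Subgroup G) (r t'' : G) (ht'' : t'' ∈ T) (h1 : t'' ∈ C) (hrM : r ∈ M) (hrC : r ∈ C)
    (hrp : r ^ p = 1) : ∃ c ∈ M, c ∈ C ∧ c * r * c⁻¹ ∈ H := by
  -- any `p`-subgroup of `M` containing `t''` lies in `H`
  have claim : ∀ Q' : Subgroup G, IsPGroup p Q' → Q' ≤ M → t'' ∈ Q' → Q' ≤ H := by
    intro Q' hQ' hQM htQ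
    by_contra hnot
    have hlt : H.subgroupOf Q' < ⊤ := by
      rw [lt_top_iff_ne_top]
      intro h
      exact hnot (Subgroup.subgroupOf_eq_top.mp h)
    have hnil : Group.IsNilpotent ↥Q' := hQ'.isNilpotent
    have hnc := Group.normalizerCondition_of_isNilpotent (G := Q') (H.subgroupOf Q') hlt
    obtain ⟨x, hxN, hxH⟩ := SetLike.exists_of_lt hnc
    have hx1 : (x : G) ∉ H := fun h => hxH (Subgroup.mem_subgroupOf.mpr h)
    have ht : (⟨t'', htQ⟩ : Q') ∈ H.subgroupOf Q' := Subgroup.mem_subgroupOf.mpr (hT t'' ht'')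
    have h3' := (Subgroup.mem_normalizer_iff.mp hxN ⟨t'', htQ⟩).mp ht
    have h3 : (x : G) * t'' * (x : G)⁻¹ ∈ H := by
      simpa [Subgroup.mem_subgroupOf] using h3'
    exact hx1 (hi t'' ht'' x (hQM x.2) h3)
  obtain ⟨K, hK⟩ : ∃ K : Subgroup G, K = C ⊓ M := ⟨_, rfl⟩
  have hKC : ∀ x : K, (x : G) ∈ C := fun x => (hK.le x.2).1
  have hKM : ∀ x : K, (x : G) ∈ M := fun x => (hK.le x.2).2
  have hrK : r ∈ K := hK.ge ⟨hrC, hrM⟩
  have hsK : t'' ∈ K := hK.ge ⟨h1, hTM t'' ht''⟩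
  have hr : (⟨r, hrK⟩ : K) ^ p = 1 := Subtype.ext hrp
  have hs : (⟨t'', hsK⟩ : K) ^ p = 1 := Subtype.ext (hTp t'' ht'')
  have hzp : ∀ y : K, y ^ p = 1 → IsPGroup p (Subgroup.zpowers y) := by
    intro y hy
    rintro ⟨x, hx⟩
    obtain ⟨n, rfl⟩ := Subgroup.mem_zpowers_iff.mp hx
    refine ⟨1, Subtype.ext ?_⟩
    show (y ^ n) ^ p ^ 1 = 1
    rw [pow_one, ← zpow_natCast, ← _root_.zpow_mul, mul_comm, _root_.zpow_mul, zpow_natCast, hy,
      _root_.one_zpow]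
  obtain ⟨P, hP⟩ := (hzp _ hr).exists_le_sylow
  obtain ⟨Q, hQ⟩ := (hzp _ hs).exists_le_sylow
  obtain ⟨c, hc⟩ := MulAction.exists_smul_eq K P Q
  have hrP : (⟨r, hrK⟩ : K) ∈ (P : Subgroup K) := hP (Subgroup.mem_zpowers _)
  have hsQ : (⟨t'', hsK⟩ : K) ∈ (Q : Subgroup K) := hQ (Subgroup.mem_zpowers _)
  have hcr : c * (⟨r, hrK⟩ : K) * c⁻¹ ∈ (Q : Subgroup K) := by
    have h := Subgroup.smul_mem_pointwise_smul _ (MulAut.conj c) (P : Subgroup K) hrP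
    rw [← Sylow.pointwise_smul_def, ← Sylow.smul_def, hc] at h
    simpa [MulAut.smul_def] using h
  have hQH : (Q : Subgroup K).map K.subtype ≤ H := by
    refine claim _ (Q.isPGroup'.map K.subtype) ?_ ⟨_, hsQ, rfl⟩
    rintro x ⟨y, -, rfl⟩
    exact hKM y
  have h5 : (c : G) * r * (c : G)⁻¹ ∈ H := hQH ⟨_, hcr, rfl⟩
  exact ⟨c, hKM c, hKC c, h5⟩

end Cfsg.Agent.Helper57.SOG3
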