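import Mathlib
import Cfsg.Agent.Helper71.T4Defs
import Cfsg.Agent.Helper81.SODefs
import Cfsg.Agent.Helper57.SOEA3

/-!
# CALL SO (helper81), piece NB1: a non-scalar `B` has a non-singular non-eigenvector
-/

set_option autoImplicit false
set_option linter.unusedSimpArgs false
set_option linter.unusedSectionVars false
set_option linter.unusedVariables false

namespace Cfsg.Agent.Helper57.SONB1

open Matrix Cfsg.Agent.Helper71.T4 Cfsg.Agent.Helper81.SO
open scoped Kronecker

variable {F : Type*} [Field F] {k : ℕ}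

theorem phi_zero_left (S : Matrix (Fin k) (Fin k) F) (y : Fin k → F) : phi S 0 y = 0 := by
  unfold phi; simp

theorem phi_zero_right (S : Matrix (Fin k) (Fin k) F) (x : Fin k → F) : phi S x 0 = 0 := by
  unfold phi; simp

theorem q_add (S : Matrix (Fin k) (Fin k) F) (hS : Sᵀ = S) (x y : Fin k → F) :
    phi S (x + y) (x + y) = phi S x x + phi S y y + 2 * phi S x y := by
  rw [phi_add_left, phi_add_right, phi_add_right, phi_comm S hS y x]; ring

theorem q_add_smul (S : Matrix (Fin k) (Fin k) F) (hS : Sᵀ = S) (x y : Fin k → F) (σ : F) :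
    phi S (x + σ • y) (x + σ • y) = phi S x x + σ * σ * phi S y y + 2 * σ * phi S x y := by
  rw [q_add S hS, phi_smul_left, phi_smul_right, phi_smul_right]; ring

/-- two proportional eigenvectors have the same eigenvalue -/
theorem eig_prop (B : Matrix (Fin k) (Fin k) F) (c c' : Fin k → F) (t t' a : F) (hc0 : c ≠ 0)
    (ht : B *ᵥ c = t • c) (ht' : B *ᵥ c' = t' • c') (hca : c = a • c') : t = t' := by
  have h1 : t • c = t' • c := by
    rw [← ht]
    conv_lhs => rw [hca]
    rw [Matrix.mulVec_smul, ht', smul_comm, ← hca]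
  have h2 : (t - t') • c = 0 := by rw [sub_smul, h1, sub_self]
  rcases smul_eq_zero.mp h2 with h | h
  · exact sub_eq_zero.mp h
  · exact absurd h hc0

theorem exists_nonsing_noneigen (hk : 3 ≤ k) (h2 : (2 : F) ≠ 0) (S : Matrix (Fin k) (Fin k) F)
    (hS : Sᵀ = S) (hdet : S.det ≠ 0) (B : Matrix (Fin k) (Fin k) F) (hsa : Bᵀ * S = S * B)
    (hns : ¬ ∃ c : F, B = c • (1 : Matrix (Fin k) (Fin k) F)) :
    ∃ c : Fin k → F, phi S c c ≠ 0 ∧ ∀ t : F, B *ᵥ c ≠ t • c := by
  classical
  by_contra hcon
  have h : ∀ c : Fin k → F, phi S c c ≠ 0 → ∃ t : F, B *ᵥ c = t • c := by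
    intro c hc
    by_contra hne
    exact hcon ⟨c, hc, fun t ht => hne ⟨t, ht⟩⟩
  have hne0 : ∀ c : Fin k → F, phi S c c ≠ 0 → c ≠ 0 := by
    intro c hc h0
    rw [h0] at hc
    exact hc (phi_zero_left S 0)
  -- Lemma A
  have lemA : ∀ (c c' : Fin k → F) (t t' σ : F), phi S c c ≠ 0 → phi S c' c' ≠ 0 →
      B *ᵥ c = t • c → B *ᵥ c' = t' • c' → σ ≠ 0 → phi S (c + σ • c') (c + σ • c') ≠ 0 →
      t = t' := by
    intro c c' t t' σ hc hc' ht ht' hσ hq
    obtain ⟨μ, hμ⟩ := h _ hq
    rw [Matrix.mulVec_add, Matrix.mulVec_smul, ht, ht'] at hμ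
    have V1 : (t - μ) • c = (σ * (μ - t')) • c' := by
      linear_combination (norm := module) hμ
    by_cases h1 : t - μ = 0
    · rw [h1, zero_smul] at V1
      rcases smul_eq_zero.mp V1.symm with h3 | h3
      · rcases mul_eq_zero.mp h3 with h4 | h4
        · exact absurd h4 hσ
        · rw [sub_eq_zero.mp h1, sub_eq_zero.mp h4]
      · exact absurd h3 (hne0 c' hc')
    · apply eig_prop B c c' t t' ((t - μ)⁻¹ * (σ * (μ - t'))) (hne0 c hc) ht ht'
      rw [mul_smul, ← V1, smul_smul, inv_mul_cancel₀ h1, one_smul]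
  -- Lemma B
  have lemB : ∀ (c c' : Fin k → F) (t t' : F), phi S c c ≠ 0 → phi S c' c' ≠ 0 →
      B *ᵥ c = t • c → B *ᵥ c' = t' • c' →
      ¬ (phi S c c + phi S c' c' = 0 ∧ phi S c c' = 0) → t = t' := by
    intro c c' t t' hc hc' ht ht' hbad
    by_cases hp : phi S (c + (1 : F) • c') (c + (1 : F) • c') ≠ 0
    · exact lemA c c' t t' 1 hc hc' ht ht' one_ne_zero hp
    · by_cases hm : phi S (c + (-1 : F) • c') (c + (-1 : F) • c') ≠ 0
      · exact lemA c c' t t' (-1) hc hc' ht ht' (neg_ne_zero.mpr one_ne_zero) hm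
      · exfalso
        push Not at hp hm
        rw [q_add_smul S hS] at hp hm
        apply hbad
        have e1 : 2 * (phi S c c + phi S c' c') = 0 := by linear_combination hp + hm
        have e1' : phi S c c + phi S c' c' = 0 := (mul_eq_zero.mp e1).resolve_left h2
        have e2 : 2 * phi S c c' = 0 := by linear_combination hp - e1'
        exact ⟨e1', (mul_eq_zero.mp e2).resolve_left h2⟩
  -- Lemma C: a non-singular vector orthogonal to a bad pair
  have lemC : ∀ (c c' : Fin k → F), phi S c c ≠ 0 → phi S c' c' ≠ 0 → phi S c c' = 0 →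
      ∃ d : Fin k → F, phi S d c = 0 ∧ phi S d c' = 0 ∧ phi S d d ≠ 0 := by
    intro c c' hc hc' hcc'
    by_contra hall
    have hall' : ∀ d : Fin k → F, phi S d c = 0 → phi S d c' = 0 → phi S d d = 0 := by
      intro d h1 h2'
      by_contra h3
      exact hall ⟨d, h1, h2', h3⟩
    have hc'c : phi S c' c = 0 := by rw [phi_comm S hS]; exact hcc'
    -- the projection
    have hproj : ∀ y : Fin k → F,
        phi S (y + (-(phi S y c / phi S c c)) • c + (-(phi S y c' / phi S c' c')) • c') c = 0 ∧
        phi S (y + (-(phi S y c / phi S c c)) • c + (-(phi S y c' / phi S c' c')) • c') c' = 0 := by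
      intro y
      constructor
      · rw [phi_add_left, phi_add_left, phi_smul_left, phi_smul_left, hc'c]
        field_simp
        ring
      · rw [phi_add_left, phi_add_left, phi_smul_left, phi_smul_left, hcc']
        field_simp
        ring
    -- vectors orthogonal to c, c' are pairwise orthogonal
    have horth : ∀ d₁ d₂ : Fin k → F, phi S d₁ c = 0 → phi S d₁ c' = 0 → phi S d₂ c = 0 →
        phi S d₂ c' = 0 → phi S d₁ d₂ = 0 := by
      intro d₁ d₂ h1 h1' h2' h2''
      have e := q_add S hS d₁ d₂
      rw [hall' d₁ h1 h1', hall' d₂ h2' h2'',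
        hall' (d₁ + d₂) (by rw [phi_add_left, h1, h2', add_zero])
          (by rw [phi_add_left, h1', h2'', add_zero])] at e
      have : 2 * phi S d₁ d₂ = 0 := by linear_combination -e
      exact (mul_eq_zero.mp this).resolve_left h2
    -- hence they vanish
    have hzero : ∀ d : Fin k → F, phi S d c = 0 → phi S d c' = 0 → d = 0 := by
      intro d h1 h1'
      apply phi_nondeg S hdet
      intro z
      obtain ⟨p1, p2⟩ := hproj z
      have e := horth d _ h1 h1' p1 p2
      rw [phi_add_right, phi_add_right, phi_smul_right, phi_smul_right, h1, h1', mul_zero,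
        mul_zero, add_zero, add_zero] at e
      exact e
    -- so c, c' span everything
    have hspan : (⊤ : Submodule F (Fin k → F)) ≤ Submodule.span F
        ((({c, c'} : Finset (Fin k → F)) : Set (Fin k → F))) := by
      intro y _
      obtain ⟨p1, p2⟩ := hproj y
      have e := hzero _ p1 p2
      have hy : y = (phi S y c / phi S c c) • c + (phi S y c' / phi S c' c') • c' := by
        linear_combination (norm := module) e
      rw [hy]
      apply Submodule.add_mem
      · exact Submodule.smul_mem _ _ (Submodule.subset_span (by simp))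
      · exact Submodule.smul_mem _ _ (Submodule.subset_span (by simp))
    have hfr := Submodule.finrank_mono hspan
    rw [finrank_top, Module.finrank_fintype_fun_eq_card, Fintype.card_fin] at hfr
    have hle := finrank_span_finset_le_card (R := F) ({c, c'} : Finset (Fin k → F))
    have hcard : ({c, c'} : Finset (Fin k → F)).card ≤ 2 := Finset.card_le_two
    unfold Set.finrank at hle
    omega
  -- Lemma D: all eigenvalues of non-singular vectors agree
  have lemD : ∀ (c c' : Fin k → F) (t t' : F), phi S c c ≠ 0 → phi S c' c' ≠ 0 →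
      B *ᵥ c = t • c → B *ᵥ c' = t' • c' → t = t' := by
    intro c c' t t' hc hc' ht ht'
    by_cases hbad : phi S c c + phi S c' c' = 0 ∧ phi S c c' = 0
    · obtain ⟨hb1, hb2⟩ := hbad
      obtain ⟨d₀, hd1, hd2, hd3⟩ := lemC c c' hc hc' hb2
      have hcd : phi S c d₀ = 0 := by rw [phi_comm S hS]; exact hd1
      have hc'd : phi S c' d₀ = 0 := by rw [phi_comm S hS]; exact hd2
      have hc'c : phi S c' c = 0 := by rw [phi_comm S hS]; exact hb2
      by_cases hsub : phi S c c + phi S d₀ d₀ ≠ 0
      · have hqd : phi S (c + d₀) (c + d₀) ≠ 0 := by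
          rw [q_add S hS, hcd, mul_zero, add_zero]; exact hsub
        obtain ⟨td, htd⟩ := h _ hqd
        have e1 : t = td := by
          apply lemB c (c + d₀) t td hc hqd ht htd
          rintro ⟨-, hx⟩
          rw [phi_add_right, hcd, add_zero] at hx
          exact hc hx
        have e2 : t' = td := by
          apply lemB c' (c + d₀) t' td hc' hqd ht' htd
          rintro ⟨hx, -⟩
          rw [q_add S hS, hcd, mul_zero, add_zero] at hx
          apply hd3
          linear_combination hx - hb1
        rw [e1, e2]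
      · push Not at hsub
        have hqd : phi S (c' + d₀) (c' + d₀) ≠ 0 := by
          rw [q_add S hS, hc'd, mul_zero, add_zero]
          intro hx
          have : 2 * phi S c c = 0 := by linear_combination hsub - hx + hb1
          exact hc ((mul_eq_zero.mp this).resolve_left h2)
        obtain ⟨td, htd⟩ := h _ hqd
        have e1 : t' = td := by
          apply lemB c' (c' + d₀) t' td hc' hqd ht' htd
          rintro ⟨-, hx⟩
          rw [phi_add_right, hc'd, add_zero] at hx
          exact hc' hx
        have e2 : t = td := by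
          apply lemB c (c' + d₀) t td hc hqd ht htd
          rintro ⟨hx, -⟩
          rw [q_add S hS, hc'd, mul_zero, add_zero] at hx
          apply hd3
          linear_combination hx - hb1
        rw [e1, e2]
    · exact lemB c c' t t' hc hc' ht ht' hbad
  -- existence of a non-singular vector
  have hex : ∃ c₀ : Fin k → F, phi S c₀ c₀ ≠ 0 := by
    by_contra hno
    have hq0 : ∀ c : Fin k → F, phi S c c = 0 := by
      intro c
      by_contra hc
      exact hno ⟨c, hc⟩
    have hall : ∀ x y : Fin k → F, phi S x y = 0 := by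
      intro x y
      have e := q_add S hS x y
      rw [hq0, hq0, hq0] at e
      have : 2 * phi S x y = 0 := by linear_combination -e
      exact (mul_eq_zero.mp this).resolve_left h2
    have hx0 := phi_nondeg S hdet (Pi.single (⟨0, by omega⟩ : Fin k) (1 : F)) (fun y => hall _ y)
    have := congrFun hx0 (⟨0, by omega⟩ : Fin k)
    simp at this
  obtain ⟨c₀, hc₀⟩ := hex
  obtain ⟨t₀, ht₀⟩ := h c₀ hc₀
  -- B acts as t₀ on every vector
  have hBv : ∀ v : Fin k → F, B *ᵥ v = t₀ • v := by
    intro v
    by_cases hv : phi S v v ≠ 0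
    · obtain ⟨tv, htv⟩ := h v hv
      rw [htv, lemD v c₀ tv t₀ hv hc₀ htv ht₀]
    · push Not at hv
      have hσ : ∃ σ : F, σ ≠ 0 ∧ phi S (c₀ + σ • v) (c₀ + σ • v) ≠ 0 := by
        by_cases hp : phi S (c₀ + (1 : F) • v) (c₀ + (1 : F) • v) ≠ 0
        · exact ⟨1, one_ne_zero, hp⟩
        · refine ⟨-1, neg_ne_zero.mpr one_ne_zero, ?_⟩
          push Not at hp
          intro hm
          rw [q_add_smul S hS, hv] at hp hm
          have : 2 * phi S c₀ c₀ = 0 := by linear_combination hp + hm
          exact hc₀ ((mul_eq_zero.mp this).resolve_left h2)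
      obtain ⟨σ, hσ0, hσq⟩ := hσ
      obtain ⟨tw, htw⟩ := h _ hσq
      have etw : tw = t₀ := lemD _ c₀ tw t₀ hσq hc₀ htw ht₀
      rw [etw, Matrix.mulVec_add, Matrix.mulVec_smul, ht₀] at htw
      have e3 : σ • (B *ᵥ v) = σ • (t₀ • v) := by
        linear_combination (norm := module) htw
      exact smul_right_injective _ hσ0 e3
  apply hns
  refine ⟨t₀, ?_⟩
  apply Cfsg.Agent.Helper57.SOEA3.mat_ext_mulVec
  intro v
  rw [hBv v, Matrix.smul_mulVec, Matrix.one_mulVec]

end Cfsg.Agent.Helper57.SONB1
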