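import Mathlib
import Cfsg.Agent.Helper71.T4Defs
import Cfsg.Agent.Helper81.SODefs

/-!
# CALL SO (helper81), piece Y: a Kronecker product of order `p` commutes with a root element
-/

set_option autoImplicit false

namespace Cfsg.Agent.Helper57.SOY

open Matrix Cfsg.Agent.Helper71.T4 Cfsg.Agent.Helper81.SO
open scoped Kronecker

variable {F : Type*} [Field F] {k : ℕ}

theorem exists_comm_root [Fintype F] (hk : 1 ≤ k) (p : ℕ) [CharP F p]
    (A : Matrix (Fin 2) (Fin 2) F) (B : Matrix (Fin k) (Fin k) F) (hp : (A ⊗ₖ B) ^ p = 1) :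
    ∃ N₂ : Matrix (Fin 2) (Fin 2) F, N₂ ≠ 0 ∧ N₂ * N₂ = 0 ∧
      (A ⊗ₖ B) * ((1 + N₂) ⊗ₖ (1 : Matrix (Fin k) (Fin k) F))
        = ((1 + N₂) ⊗ₖ (1 : Matrix (Fin k) (Fin k) F)) * (A ⊗ₖ B) := by
  classical
  have hpp : p.Prime := CharP.char_is_prime F p
  have : Fact p.Prime := ⟨hpp⟩
  have h11 : (1 : Matrix (Fin 2 × Fin k) (Fin 2 × Fin k) F)
      = (1 : Matrix (Fin 2) (Fin 2) F) ⊗ₖ (1 : Matrix (Fin k) (Fin k) F) :=
    Matrix.one_kronecker_one.symm
  -- reduction to a statement about `A`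
  suffices hs : ∃ N₂ : Matrix (Fin 2) (Fin 2) F, N₂ ≠ 0 ∧ N₂ * N₂ = 0 ∧ A * N₂ = N₂ * A by
    obtain ⟨N₂, h0, hsq, hc⟩ := hs
    refine ⟨N₂, h0, hsq, ?_⟩
    rw [← Matrix.mul_kronecker_mul, ← Matrix.mul_kronecker_mul, mul_one, one_mul, mul_add,
      add_mul, mul_one, one_mul, hc]
  -- powers of a Kronecker product
  have hpow : ∀ n : ℕ, (A ⊗ₖ B) ^ n = (A ^ n) ⊗ₖ (B ^ n) := by
    intro n
    induction n with
    | zero => rw [pow_zero, pow_zero, pow_zero, h11]
    | succ n ih => rw [pow_succ, ih, ← Matrix.mul_kronecker_mul, ← pow_succ, ← pow_succ]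
  rw [hpow, h11] at hp
  have hent : ∀ i j : Fin 2,
      (A ^ p) i j * (B ^ p) ⟨0, hk⟩ ⟨0, hk⟩ = (1 : Matrix (Fin 2) (Fin 2) F) i j := by
    intro i j
    have := congrFun (congrFun hp (i, ⟨0, hk⟩)) (j, ⟨0, hk⟩)
    simpa [Matrix.kroneckerMap_apply] using this
  generalize (B ^ p) ⟨0, hk⟩ ⟨0, hk⟩ = c at hent
  have hc0 : c ≠ 0 := by
    intro h0
    have := hent 0 0
    rw [h0] at this
    simp at this
  -- Frobenius is surjective on the finite field F
  obtain ⟨μ, hμ⟩ : ∃ μ : F, μ ^ p = c⁻¹ := by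
    have hinj : Function.Injective (frobenius F p) := frobenius_inj F p
    have hsurj := Finite.injective_iff_surjective.mp hinj
    obtain ⟨μ, hμ⟩ := hsurj c⁻¹
    exact ⟨μ, by simpa [frobenius_def] using hμ⟩
  have hAp : A ^ p = (μ ^ p) • (1 : Matrix (Fin 2) (Fin 2) F) := by
    ext i j
    have := hent i j
    rw [Matrix.smul_apply, smul_eq_mul, hμ, ← this]
    field_simp
  have hNp : (A - μ • (1 : Matrix (Fin 2) (Fin 2) F)) ^ p = 0 := by
    have hcomm : Commute A (μ • (1 : Matrix (Fin 2) (Fin 2) F)) :=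
      (Commute.one_right A).smul_right μ
    rw [sub_pow_char_of_commute p hcomm, hAp, smul_pow, one_pow, sub_self]
  have hAN : A * (A - μ • (1 : Matrix (Fin 2) (Fin 2) F))
      = (A - μ • (1 : Matrix (Fin 2) (Fin 2) F)) * A := by
    rw [mul_sub, sub_mul, Matrix.mul_smul, Matrix.smul_mul, mul_one, one_mul]
  by_cases hN0 : A - μ • (1 : Matrix (Fin 2) (Fin 2) F) = 0
  · -- A is scalar
    have hE : (Matrix.single (0 : Fin 2) (1 : Fin 2) (1 : F)) = !![0, 1; 0, 0] := by
      ext i j; fin_cases i <;> fin_cases j <;> simp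
    refine ⟨Matrix.single 0 1 1, ?_, ?_, ?_⟩
    · intro h
      have := congrFun (congrFun h 0) 1
      simp at this
    · rw [hE, Matrix.mul_fin_two]
      ext i j; fin_cases i <;> fin_cases j <;> simp
    · have hA : A = μ • (1 : Matrix (Fin 2) (Fin 2) F) := sub_eq_zero.mp hN0
      rw [hA, Matrix.smul_mul, Matrix.mul_smul, one_mul, mul_one]
  · generalize A - μ • (1 : Matrix (Fin 2) (Fin 2) F) = N at hNp hAN hN0
    refine ⟨N, hN0, ?_, hAN⟩
    -- a nilpotent 2 × 2 matrix squares to zero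
    have hCH : N * N = N.trace • N - N.det • (1 : Matrix (Fin 2) (Fin 2) F) := by
      ext i j
      fin_cases i <;> fin_cases j <;>
        simp [Matrix.mul_apply, Fin.sum_univ_two, Matrix.det_fin_two, Matrix.trace_fin_two] <;>
        ring
    have hdet : N.det = 0 := by
      have : N.det ^ p = 0 := by rw [← Matrix.det_pow, hNp, Matrix.det_zero]
      exact (pow_eq_zero_iff hpp.ne_zero).mp this
    rw [hdet, zero_smul, sub_zero] at hCH
    have hpowN : ∀ n : ℕ, N ^ (n + 1) = N.trace ^ n • N := by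
      intro n
      induction n with
      | zero => simp
      | succ n ih => rw [pow_succ, ih, Matrix.smul_mul, hCH, smul_smul, ← pow_succ]
    by_cases ht : N.trace = 0
    · rw [hCH, ht, zero_smul]
    · exfalso
      apply hN0
      have h1 := hpowN (p - 1)
      rw [Nat.sub_add_cancel hpp.one_le, hNp] at h1
      exact (smul_eq_zero.mp h1.symm).resolve_left (pow_ne_zero _ ht)

end Cfsg.Agent.Helper57.SOY
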