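import Mathlib

/-!
# CALL S5981 (helper98), pieces COMB3 and COMB5 (doubles): arranging exponents of sum zero
symmetrically around one of them
-/

set_option autoImplicit false
open Matrix Polynomial

namespace Cfsg.Agent.Helper57.THCOMB

/-- COMB3 -/
theorem comb_three (a : Fin 3 → ZMod 3) (h : ∑ i, a i = 0) :
    ∃ σ : Equiv.Perm (Fin 3), a (σ 1) + a (σ 2) = 2 * a (σ 0) := by
  refine ⟨1, ?_⟩
  rw [Fin.sum_univ_three] at h
  simp only [Equiv.Perm.coe_one, id_eq]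
  have h3 : (3 : ZMod 3) = 0 := by decide
  linear_combination h - a 0 * h3

/-- the 15 arrangements: a centre and a pairing of the other four -/
def comb5_arr : List (Fin 5 × Fin 5 × Fin 5 × Fin 5 × Fin 5) :=
  [(0, 1, 2, 3, 4), (0, 1, 3, 2, 4), (0, 1, 4, 2, 3),
   (1, 0, 2, 3, 4), (1, 0, 3, 2, 4), (1, 0, 4, 2, 3),
   (2, 0, 1, 3, 4), (2, 0, 3, 1, 4), (2, 0, 4, 1, 3),
   (3, 0, 1, 2, 4), (3, 0, 2, 1, 4), (3, 0, 4, 1, 2),
   (4, 0, 1, 2, 3), (4, 0, 2, 1, 3), (4, 0, 3, 1, 2)]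

set_option maxRecDepth 100000 in
/-- each arrangement is a permutation -/
theorem comb5_arr_inj : ∀ t ∈ comb5_arr,
    Function.Injective ![t.1, t.2.1, t.2.2.1, t.2.2.2.1, t.2.2.2.2] := by
  decide +kernel

set_option maxRecDepth 100000 in
/-- the finite check -/
theorem comb5_check : ∀ a0 a1 a2 a3 : ZMod 5, ∃ t ∈ comb5_arr,
    ![a0, a1, a2, a3, -(a0 + a1 + a2 + a3)] t.2.1 + ![a0, a1, a2, a3, -(a0 + a1 + a2 + a3)] t.2.2.1 =
      2 * ![a0, a1, a2, a3, -(a0 + a1 + a2 + a3)] t.1 ∧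
    ![a0, a1, a2, a3, -(a0 + a1 + a2 + a3)] t.2.2.2.1 +
      ![a0, a1, a2, a3, -(a0 + a1 + a2 + a3)] t.2.2.2.2 =
      2 * ![a0, a1, a2, a3, -(a0 + a1 + a2 + a3)] t.1 := by
  decide +kernel

/-- COMB5 -/
theorem comb_five (a : Fin 5 → ZMod 5) (h : ∑ i, a i = 0) :
    ∃ σ : Equiv.Perm (Fin 5), a (σ 1) + a (σ 2) = 2 * a (σ 0) ∧ a (σ 3) + a (σ 4) = 2 * a (σ 0) := by
  have ha : a = ![a 0, a 1, a 2, a 3, -(a 0 + a 1 + a 2 + a 3)] := by
    rw [Fin.sum_univ_five] at h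
    ext i
    fin_cases i
    · rfl
    · rfl
    · rfl
    · rfl
    · show a 4 = -(a 0 + a 1 + a 2 + a 3)
      linear_combination h
  obtain ⟨t, ht, h1, h2⟩ := comb5_check (a 0) (a 1) (a 2) (a 3)
  rw [← ha] at h1 h2
  have hinj := comb5_arr_inj t ht
  refine ⟨Equiv.ofBijective _ (Finite.injective_iff_bijective.mp hinj), ?_, ?_⟩
  · simpa using h1
  · simpa using h2

end Cfsg.Agent.Helper57.THCOMB
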