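import Mathlib
import Cfsg.Prelude.Def_GeometricClasses
import Cfsg.Prelude.Def_Classical

/-!
# CALL S5981 (helper98), piece DBB (double): the bad diagonal element `diag(μ', μ, …, μ)`
-/

set_option autoImplicit false
open Matrix Polynomial

namespace Cfsg.Agent.Helper57.THDBB

variable {F : Type*} [Field F] [Fintype F]

/-- rank of a conjugate of a diagonal matrix minus a scalar -/
theorem dbb_rank [DecidableEq F] {n : ℕ} (d : Fin n → F) (x g : GL (Fin n) F)
    (hx : (x : Matrix (Fin n) (Fin n) F) = Matrix.diagonal d) (l : F) :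
    (((g⁻¹ * x * g : GL (Fin n) F) : Matrix (Fin n) (Fin n) F) -
      l • (1 : Matrix (Fin n) (Fin n) F)).rank = (Finset.univ.filter (fun i => d i ≠ l)).card := by
  have hd : Matrix.diagonal (fun i => d i - l) =
      Matrix.diagonal d - l • (1 : Matrix (Fin n) (Fin n) F) := by
    ext a b
    by_cases hab : a = b
    · subst hab; simp
    · simp [Matrix.diagonal_apply_ne _ hab, Matrix.one_apply_ne hab]
  have hgg : ((g⁻¹ : GL (Fin n) F) : Matrix (Fin n) (Fin n) F) * (g : Matrix (Fin n) (Fin n) F) = 1 := by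
    rw [← Units.val_mul, inv_mul_cancel, Units.val_one]
  have h1 : ((g⁻¹ * x * g : GL (Fin n) F) : Matrix (Fin n) (Fin n) F) -
      l • (1 : Matrix (Fin n) (Fin n) F) =
      ((g⁻¹ : GL (Fin n) F) : Matrix (Fin n) (Fin n) F) * Matrix.diagonal (fun i => d i - l) *
        (g : Matrix (Fin n) (Fin n) F) := by
    rw [hd, Matrix.mul_sub, Matrix.sub_mul, Units.val_mul, Units.val_mul, hx, Matrix.mul_smul,
      Matrix.mul_one, Matrix.smul_mul, hgg]
  rw [h1, Matrix.rank_mul_eq_left_of_isUnit_det _ _ (Matrix.isUnits_det_units g),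
    Matrix.rank_mul_eq_right_of_isUnit_det _ _ (Matrix.isUnits_det_units g⁻¹), Matrix.rank_diagonal,
    Fintype.card_subtype]
  apply congrArg Finset.card
  ext i
  simp [sub_eq_zero]

/-- DBB -/
theorem bad_diag_b (h2 : (2 : F) ≠ 0) {n : ℕ} (hn : 3 ≤ n) (r : ℕ) (hr : r.Prime) (hr2 : r ≠ 2)
    (μ : F) (hμ : μ ^ (n * r) = 1) (hμn : μ ^ n ≠ 1) (H : Subgroup (GL (Fin n) F))
    (hH : ∀ y ∈ H, ∃ c : F, c ≠ 0 ∧ ∀ l : F, l ≠ 0 →
      ((y : Matrix (Fin n) (Fin n) F) - l • (1 : Matrix (Fin n) (Fin n) F)).rank =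
        ((y : Matrix (Fin n) (Fin n) F) - (c / l) • (1 : Matrix (Fin n) (Fin n) F)).rank) :
    ∃ x : GL (Fin n) F, x ∈ Cfsg.Geo.specialLinear (Fin n) F ∧
      (∃ z : F, ((x ^ r : GL (Fin n) F) : Matrix (Fin n) (Fin n) F) = z • (1 : Matrix (Fin n) (Fin n) F)) ∧
      (∀ z : F, (x : Matrix (Fin n) (Fin n) F) ≠ z • (1 : Matrix (Fin n) (Fin n) F)) ∧
      ∀ g : GL (Fin n) F, g⁻¹ * x * g ∉ H := by
  classical
  have hr0 : r ≠ 0 := hr.ne_zero
  have hμ0 : μ ≠ 0 := by
    rintro rfl
    rw [zero_pow (Nat.mul_ne_zero (by omega) hr0)] at hμ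
    exact zero_ne_one hμ
  have hμ'0 : (μ ^ (n - 1))⁻¹ ≠ 0 := inv_ne_zero (pow_ne_zero _ hμ0)
  have hne : (μ ^ (n - 1))⁻¹ ≠ μ := by
    intro h
    apply hμn
    have e : μ ^ n = μ ^ (n - 1) * μ := by
      rw [← pow_succ]; congr 1; omega
    rw [e]
    nth_rewrite 2 [← h]
    exact mul_inv_cancel₀ (pow_ne_zero _ hμ0)
  have hpow : ((μ ^ (n - 1))⁻¹) ^ r = μ ^ r := by
    have h1 : μ ^ r * (μ ^ (n - 1)) ^ r = 1 := by
      rw [← pow_mul, ← pow_add, ← hμ]
      congr 1
      obtain ⟨k, rfl⟩ : ∃ k, n = k + 1 := ⟨n - 1, by omega⟩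
      simp only [Nat.add_sub_cancel]
      ring
    rw [inv_pow]
    exact (eq_inv_of_mul_eq_one_left h1).symm
  obtain ⟨μ', hμ'⟩ : ∃ μ' : F, μ' = (μ ^ (n - 1))⁻¹ := ⟨_, rfl⟩
  rw [← hμ'] at hμ'0 hne hpow
  let i0 : Fin n := ⟨0, by omega⟩
  let i1 : Fin n := ⟨1, by omega⟩
  let i2 : Fin n := ⟨2, by omega⟩
  have h10 : i1 ≠ i0 := by simp [i0, i1, Fin.ext_iff]
  have h20 : i2 ≠ i0 := by simp [i0, i2, Fin.ext_iff]
  have h12 : i1 ≠ i2 := by simp [i1, i2, Fin.ext_iff]
  obtain ⟨d, hd⟩ : ∃ d : Fin n → F, d = fun i => if i = i0 then μ' else μ := ⟨_, rfl⟩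
  have hd0 : d i0 = μ' := by simp [hd]
  have hdi : ∀ i, i ≠ i0 → d i = μ := by intro i hi; simp [hd, hi]
  have hdet : (Matrix.diagonal d).det = 1 := by
    rw [Matrix.det_diagonal, ← Finset.mul_prod_erase Finset.univ d (Finset.mem_univ i0), hd0]
    have e : ∏ i ∈ Finset.univ.erase i0, d i = μ ^ (n - 1) := by
      rw [Finset.prod_congr rfl (fun i hi => hdi i (Finset.ne_of_mem_erase hi)), Finset.prod_const,
        Finset.card_erase_of_mem (Finset.mem_univ _), Finset.card_univ, Fintype.card_fin]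
    rw [e, hμ']
    exact inv_mul_cancel₀ (pow_ne_zero _ hμ0)
  obtain ⟨x, hx⟩ : ∃ x : GL (Fin n) F, (x : Matrix (Fin n) (Fin n) F) = Matrix.diagonal d :=
    ⟨Matrix.GeneralLinearGroup.mkOfDetNeZero (Matrix.diagonal d) (by rw [hdet]; exact one_ne_zero), rfl⟩
  refine ⟨x, ?_, ⟨μ ^ r, ?_⟩, ?_, ?_⟩
  · rw [Cfsg.Geo.specialLinear, MonoidHom.mem_ker]
    ext
    rw [Matrix.GeneralLinearGroup.val_det_apply, hx, hdet, Units.val_one]
  · rw [Units.val_pow_eq_pow_val, hx, Matrix.diagonal_pow]
    ext a b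
    by_cases hab : a = b
    · subst hab
      by_cases ha : a = i0
      · subst ha
        simp [hd0, hpow]
      · simp [hdi a ha]
    · simp [Matrix.diagonal_apply_ne _ hab, Matrix.one_apply_ne hab]
  · intro z hz
    rw [hx] at hz
    have e0 := congrFun (congrFun hz i0) i0
    have e1 := congrFun (congrFun hz i1) i1
    simp only [Matrix.diagonal_apply_eq, Matrix.smul_apply, Matrix.one_apply_eq, smul_eq_mul,
      mul_one] at e0 e1
    rw [hd0] at e0
    rw [hdi i1 h10] at e1
    exact hne (e0.trans e1.symm)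
  · intro g hg
    obtain ⟨c, hc, hrk⟩ := hH _ hg
    have hN : ∀ l : F, l ≠ 0 → (Finset.univ.filter (fun i => d i ≠ l)).card =
        (Finset.univ.filter (fun i => d i ≠ c / l)).card := by
      intro l hl
      rw [← dbb_rank d x g hx l, ← dbb_rank d x g hx (c / l)]
      exact hrk l hl
    -- `c / μ = μ`
    have hc1 : c / μ = μ := by
      by_contra hcon
      have hle : (Finset.univ.filter (fun i => d i ≠ μ)).card ≤ 1 := by
        rw [← Finset.card_singleton i0]
        apply Finset.card_le_card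
        intro i hi
        rw [Finset.mem_filter] at hi
        rw [Finset.mem_singleton]
        by_contra h
        exact hi.2 (hdi i h)
      have hge : 2 ≤ (Finset.univ.filter (fun i => d i ≠ c / μ)).card := by
        rw [← Finset.card_pair h12]
        apply Finset.card_le_card
        intro i hi
        rw [Finset.mem_insert, Finset.mem_singleton] at hi
        rw [Finset.mem_filter]
        refine ⟨Finset.mem_univ _, ?_⟩
        rcases hi with rfl | rfl
        · rw [hdi i1 h10]; exact fun h => hcon h.symm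
        · rw [hdi i2 h20]; exact fun h => hcon h.symm
      have := hN μ hμ0
      omega
    have hcμ : c = μ * μ := by
      rwa [div_eq_iff hμ0] at hc1
    -- `c / μ' = μ'`
    have hc2 : c / μ' = μ' := by
      by_contra hcon
      have hcon2 : c / μ' ≠ μ := by
        intro h
        rw [div_eq_iff hμ'0, hcμ] at h
        exact hne (mul_left_cancel₀ hμ0 h).symm
      have hle : (Finset.univ.filter (fun i => d i ≠ μ')).card ≤ n - 1 := by
        have : (Finset.univ.erase i0).card = n - 1 := by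
          rw [Finset.card_erase_of_mem (Finset.mem_univ _), Finset.card_univ, Fintype.card_fin]
        rw [← this]
        apply Finset.card_le_card
        intro i hi
        rw [Finset.mem_filter] at hi
        rw [Finset.mem_erase]
        refine ⟨?_, Finset.mem_univ _⟩
        rintro rfl
        exact hi.2 hd0
      have hge : (Finset.univ.filter (fun i => d i ≠ c / μ')).card = n := by
        have : Finset.univ.filter (fun i => d i ≠ c / μ') = Finset.univ := by
          rw [Finset.filter_eq_self]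
          intro i _
          by_cases hi : i = i0
          · subst hi; rw [hd0]; exact fun h => hcon h.symm
          · rw [hdi i hi]; exact fun h => hcon2 h.symm
        rw [this, Finset.card_univ, Fintype.card_fin]
      have := hN μ' hμ'0
      omega
    have hcμ' : c = μ' * μ' := by
      rwa [div_eq_iff hμ'0] at hc2
    have hsq : μ' * μ' = μ * μ := by rw [← hcμ, ← hcμ']
    rcases mul_self_eq_mul_self_iff.mp hsq with h | h
    · exact hne h
    · rw [h, Odd.neg_pow (hr.eq_two_or_odd'.resolve_left hr2)] at hpow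
      have h3 : (2 : F) * μ ^ r = 0 := by linear_combination -hpow
      rcases mul_eq_zero.mp h3 with h4 | h4
      · exact h2 h4
      · exact pow_ne_zero _ hμ0 h4

end Cfsg.Agent.Helper57.THDBB
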