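import Mathlib
import Cfsg.Prelude.Def_ClassicalGeometry
import Cfsg.Agent.Helper98.F4

/-!
# `Sp(4, 3)` and `SU(4, 2)`: data (seat helper57)

The symplectic transvections along the four vectors `u4Gen i` (parameter one) generate `Sp(4, 3)`; they
permute the 40 points of the projective space over `𝔽₃` (`u4P q` spans the point with number `q`,
`1 ≤ q ≤ 40`) as the unitary matrices `u4A i` over the field with four elements permute the 40 points
spanned by the vectors with `Σ xᵢ³ = 1` (`u4Idx s` is the number of the point spanned by `s`, and `0` for the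
other vectors): both act as `u4Pi i` on the numbers.  `u4Word` gives, for each non-zero vector `u` over
`𝔽₃`, a word in the four transvections carrying `u4Gen 0` to `u` or to `-u`.  All statements about the data
are checked by evaluation.
-/

set_option autoImplicit false

namespace Cfsg.Agent.Helper57

open Cfsg.Agent.Helper98 Matrix

/-- The vector over the field with three elements with four given coordinates. -/
def u4V (a b c d : ZMod 3) : Fin 2 ⊕ Fin 2 → ZMod 3 := Sum.elim ![a, b] ![c, d]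

/-- The symplectic transvection along `u` with parameter one, in coordinates. -/
def u4Tv (u x : Fin 2 ⊕ Fin 2 → ZMod 3) : Fin 2 ⊕ Fin 2 → ZMod 3 :=
  fun k => x k + (x (Sum.inr 0) * u (Sum.inl 0) - x (Sum.inl 0) * u (Sum.inr 0) +
    (x (Sum.inr 1) * u (Sum.inl 1) - x (Sum.inl 1) * u (Sum.inr 1))) * u k

/-- The four vectors whose transvections generate the symplectic group. -/
def u4Gen : Fin 4 → Fin 2 ⊕ Fin 2 → ZMod 3 :=
  ![u4V 1 0 0 0, u4V 0 1 0 0, u4V 0 0 1 0, u4V 0 0 1 1]

/-- The vectors spanning the 40 points (and zero), 2 bits for each coordinate, as one number. -/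
def u4PN : ℕ :=
  310799717580224103119769663369568709854399738078191237439364719815179885906498971504020063331041280

/-- A coordinate from its two bits. -/
def u4D (n : ℕ) : ZMod 3 := if n % 4 = 1 then 1 else if n % 4 = 2 then 2 else 0

/-- The vectors spanning the 40 points (and zero). -/
def u4P (q : Fin 41) : Fin 2 ⊕ Fin 2 → ZMod 3 :=
  u4V (u4D (u4PN >>> (8 * q.val))) (u4D (u4PN >>> (8 * q.val + 2))) (u4D (u4PN >>> (8 * q.val + 4)))
    (u4D (u4PN >>> (8 * q.val + 6)))

/-- The action of the four generators on the numbers of the points: a table, 6 bits each, as one number. -/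
def u4PiN : ℕ :=
  88196490021243984067703417593315501291917167658497766219274076276161971600226721475457097320378621075325313167833258440884423875566741434244238882505184880302515904284230257695744509936074619114655588835912220262966955867574897712107422571385603712935650027628372365844064731146097611819356106816

/-- The action of the four generators on the numbers of the points. -/
def u4Pi (i : Fin 4) (q : Fin 41) : Fin 41 :=
  Fin.ofNat 41 ((u4PiN >>> (6 * (41 * i.val + q.val))) % 64)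

/-- Words in the four transvections carrying `u4Gen 0` to each vector or its negative (entry `27 a + 9 b + 3 c + d`). -/
def u4WordData : List (List (Fin 4)) :=
  [[],
    [1, 3, 3, 1, 0, 0, 3, 2],
    [1, 3, 3, 1, 0, 0, 3, 2],
    [0, 2],
    [0, 3],
    [0, 0, 3, 2],
    [0, 2],
    [0, 0, 3, 2],
    [0, 3],
    [3, 1, 0, 3],
    [3, 1, 1, 0, 0, 3, 2],
    [3, 3, 1, 0, 0, 3, 2],
    [3, 1, 0, 0, 3, 2],
    [1, 0, 3],
    [1, 1, 0, 0, 3, 2],
    [0, 3, 1, 1, 3, 2],
    [1, 0, 0, 3, 2],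
    [1, 1, 0, 3],
    [3, 1, 0, 3],
    [3, 3, 1, 0, 0, 3, 2],
    [3, 1, 1, 0, 0, 3, 2],
    [0, 3, 1, 1, 3, 2],
    [1, 1, 0, 3],
    [1, 0, 0, 3, 2],
    [3, 1, 0, 0, 3, 2],
    [1, 1, 0, 0, 3, 2],
    [1, 0, 3],
    [],
    [3, 3, 2],
    [3, 2, 2],
    [2, 2],
    [3, 3],
    [3, 2],
    [2],
    [0, 3, 2],
    [3],
    [3, 1, 1, 3],
    [1, 3, 3, 2],
    [1, 1, 3, 2, 2],
    [3, 1, 1, 3, 2, 2],
    [1, 3, 3],
    [1, 1, 3, 2],
    [3, 1, 1, 3, 2],
    [1, 0, 3, 2],
    [1, 1, 3],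
    [2, 0, 0, 3, 1, 1, 3, 2],
    [1, 1, 3, 3, 2],
    [1, 3, 2, 2],
    [0, 0, 3, 1, 1, 3, 2],
    [1, 1, 3, 3],
    [1, 3, 2],
    [0, 3, 1, 1, 3, 2, 2],
    [1, 1, 0, 3, 2],
    [1, 3],
    [],
    [3, 2, 2],
    [3, 3, 2],
    [2],
    [3],
    [0, 3, 2],
    [2, 2],
    [3, 2],
    [3, 3],
    [2, 0, 0, 3, 1, 1, 3, 2],
    [1, 3, 2, 2],
    [1, 1, 3, 3, 2],
    [0, 3, 1, 1, 3, 2, 2],
    [1, 3],
    [1, 1, 0, 3, 2],
    [0, 0, 3, 1, 1, 3, 2],
    [1, 3, 2],
    [1, 1, 3, 3],
    [3, 1, 1, 3],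
    [1, 1, 3, 2, 2],
    [1, 3, 3, 2],
    [3, 1, 1, 3, 2],
    [1, 1, 3],
    [1, 0, 3, 2],
    [3, 1, 1, 3, 2, 2],
    [1, 1, 3, 2],
    [1, 3, 3]]

/-- The word for the vector with coordinates `a b c d`. -/
def u4Word (a b c d : ZMod 3) : List (Fin 4) :=
  u4WordData.getD (27 * a.val + 9 * b.val + 3 * c.val + d.val) []

/-- The action of a word in the four transvections on vectors. -/
def u4Act (w : List (Fin 4)) (x : Fin 2 ⊕ Fin 2 → ZMod 3) : Fin 2 ⊕ Fin 2 → ZMod 3 :=
  w.foldr (fun i acc => u4Tv (u4Gen i) acc) x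

/-- The number of an element of the field with four elements. -/
def u4Code : F4 → ℕ
  | F4.z => 0
  | F4.o => 1
  | F4.w => 2
  | F4.v => 3

/-- The vector over the field with four elements with four given coordinates. -/
def u4S (x0 x1 x2 x3 : F4) : Fin 4 → F4 := ![x0, x1, x2, x3]

/-- Matrix times vector, written out. -/
def u4Mv (B : Matrix (Fin 4) (Fin 4) F4) (s : Fin 4 → F4) : Fin 4 → F4 :=
  fun i => B i 0 * s 0 + B i 1 * s 1 + B i 2 * s 2 + B i 3 * s 3

/-- The unitary matrices of the four generators. -/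
def u4A : Fin 4 → Matrix (Fin 4) (Fin 4) F4 :=
  ![!![F4.o, F4.v, F4.v, F4.z; F4.v, F4.o, F4.v, F4.z; F4.v, F4.v, F4.o, F4.z; F4.z, F4.z, F4.z, F4.w],
    !![F4.o, F4.v, F4.z, F4.v; F4.v, F4.o, F4.z, F4.v; F4.z, F4.z, F4.w, F4.z; F4.v, F4.v, F4.z, F4.o],
    !![F4.w, F4.z, F4.z, F4.z; F4.z, F4.w, F4.z, F4.z; F4.z, F4.z, F4.o, F4.z; F4.z, F4.z, F4.z, F4.w],
    !![F4.w, F4.z, F4.z, F4.z; F4.z, F4.o, F4.z, F4.z; F4.z, F4.z, F4.w, F4.z; F4.z, F4.z, F4.z, F4.w]]

/-- The numbers of the points spanned by the vectors over the field with four elements: a table as one number. -/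
def u4IdxN : ℕ :=
  574663332522556964061315352250780943317158748708354502544739139246347457295779011910007754730438079233193176468862624071577280976648070844138439496022018682801607071528219538363658801155425240826649812792171128711491600465835054241949603099625123411921810040893016470637555294558262116155021625729237026479663622869369783826223963211960247955393933695707538889290082140966581304504463079908331279159197811192322333201628087330965382528366632651028864226112

/-- The number of the point spanned by a vector (`0` if `Σ xᵢ³ ≠ 1`). -/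
def u4Idx (s : Fin 4 → F4) : Fin 41 :=
  Fin.ofNat 41 ((u4IdxN >>> (6 * (u4Code (s 0) + 4 * u4Code (s 1) + 16 * u4Code (s 2) +
    64 * u4Code (s 3)))) % 64)

/-! ### The checks -/

set_option maxRecDepth 100000 in
theorem u4_tv : ∀ (i : Fin 4) (q : Fin 41), u4Tv (u4Gen i) (u4P q) = u4P (u4Pi i q) ∨
    u4Tv (u4Gen i) (u4P q) = - u4P (u4Pi i q) := by
  decide +kernel

set_option maxRecDepth 100000 in
theorem u4_trans : ∀ a b c d : ZMod 3, u4V a b c d = 0 ∨
    u4Act (u4Word a b c d) (u4Gen 0) = u4V a b c d ∨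
    u4Act (u4Word a b c d) (u4Gen 0) = - u4V a b c d := by
  decide +kernel

set_option maxRecDepth 100000 in
theorem u4_act : ∀ (i : Fin 4) (x0 x1 x2 x3 : F4),
    u4Idx (u4Mv (u4A i) (u4S x0 x1 x2 x3)) = u4Pi i (u4Idx (u4S x0 x1 x2 x3)) := by
  decide +kernel

set_option maxRecDepth 100000 in
theorem u4_unitary : ∀ i : Fin 4, (u4A i)ᵀ * (u4A i).map (fun x => x * x) = 1 := by
  decide +kernel

set_option maxRecDepth 100000 in
theorem u4_det : ∀ i : Fin 4, (u4A i).det = 1 := by
  decide +kernel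

set_option maxRecDepth 100000 in
theorem u4_fix : ∀ x0 x1 x2 x3 : F4,
    (u4Idx (u4S x0 x1 x2 x3) = u4Idx (u4S 1 0 0 0) → x1 = 0 ∧ x2 = 0 ∧ x3 = 0) ∧
    (u4Idx (u4S x0 x1 x2 x3) = u4Idx (u4S 0 1 0 0) → x0 = 0 ∧ x2 = 0 ∧ x3 = 0) ∧
    (u4Idx (u4S x0 x1 x2 x3) = u4Idx (u4S 0 0 1 0) → x0 = 0 ∧ x1 = 0 ∧ x3 = 0) ∧
    (u4Idx (u4S x0 x1 x2 x3) = u4Idx (u4S 0 0 0 1) → x0 = 0 ∧ x1 = 0 ∧ x2 = 0) ∧
    (u4Idx (u4S x0 x1 x2 0) = u4Idx (u4S 1 1 1 0) → x0 = x1 ∧ x1 = x2) ∧
    (u4Idx (u4S 0 x1 x2 x3) = u4Idx (u4S 0 1 1 1) → x1 = x2 ∧ x2 = x3) := by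
  decide +kernel

theorem u4_fourth : ∀ x : F4, x * x * x * x = 1 → x = 1 := by decide +kernel

set_option maxRecDepth 100000 in
theorem u4P_inj : ∀ q q' : Fin 41, (u4P q = u4P q' ∨ u4P q = - u4P q') → q = q' := by
  decide +kernel

theorem u4A_ne : u4A 0 0 1 ≠ 0 := by decide +kernel

end Cfsg.Agent.Helper57
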